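import Groth.Agent.Variety2.Reg.Pn
import Groth.Agent.Ega2Proj.TwistGen

/-!
# `O(1)` on projective space: ampleness and tensor powers
-/

universe u

open CategoryTheory CategoryTheory.Limits AlgebraicGeometry Opposite TopologicalSpace

namespace Groth.Variety2.Reg

variable {n : ℕ} {k : Type u} [Field k]

theorem isAmple_tw_one : CohB1.IsAmple (Twist.twistProjSpace n k 1) := by
  classical
  refine Groth.Ega2Proj.isAmple_twist_one
    (Finset.univ.image fun i : Fin (n + 1) => (MvPolynomial.X i : MvPolynomial (Fin (n + 1)) k)) ?_ ?_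
  · simp only [Finset.mem_image, Finset.mem_univ, true_and, forall_exists_index, forall_apply_eq_imp_iff]
    exact fun i => X_mem n k i
  · rw [Finset.coe_image, Finset.coe_univ, Set.image_univ]
    refine (Groth.PnCoh.irrelevant_le_span_X n k).trans (Ideal.span_mono ?_)
    rintro _ ⟨j, rfl⟩
    exact ⟨j.down, rfl⟩

theorem nonempty_tensorPow_tw (a : ℤ) : ∀ p : ℕ,
    Nonempty (CohB1.tensorPow (Twist.twistProjSpace n k a) p ≅ Twist.twistProjSpace n k (a * p))
  | 0 => by
    obtain ⟨e⟩ := nonempty_twist_zero (n := n) (k := k)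
    exact ⟨e.symm ≪≫ eqToIso (by rw [Nat.cast_zero, mul_zero])⟩
  | p + 1 => by
    obtain ⟨e⟩ := Groth.Ega2Proj.nonempty_tensor_iso (gen_one n k) (a * p) a
    exact ⟨PicGrp.tensorModIso (nonempty_tensorPow_tw a p).some (Iso.refl _) ≪≫ e ≪≫
      eqToIso (by
        show Twist.twistProjSpace n k (a * (p : ℤ) + a) = _
        rw [Nat.cast_succ, mul_add, mul_one])⟩

/-- The twist by the `m`-th power of `O(1)` is `F(m)`. -/
theorem nonempty_twist_pow (F : (CohB1.ProjSpace n k).Modules) (m : ℕ) :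
    Nonempty (CohB1.tensorMod F (CohB1.tensorPow (Twist.twistProjSpace n k 1) m) ≅ fT F (m : ℤ)) := by
  obtain ⟨e⟩ := nonempty_tensorPow_tw (n := n) (k := k) 1 m
  exact ⟨PicGrp.tensorModIso (Iso.refl F) (e ≪≫ eqToIso (by rw [one_mul]))⟩

end Groth.Variety2.Reg
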