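import Groth.Agent.Ega2Proj.TwistSheaf
import Groth.Agent.PnCoh.Finite
import Groth.Agent.QCohMod.Affine
import Groth.Agent.QCohMod.Stalk

/-!
# Morphisms between tilde modules given by homogeneous elements, and their germs
-/

universe u

open CategoryTheory CategoryTheory.Limits AlgebraicGeometry Opposite TopologicalSpace DirectSum
open Groth.PicAux Groth.Ega2Proj

namespace Groth.Variety2.Reg.Tilde

variable {R A : Type u} [CommRing R] [CommRing A] [Algebra R A] {𝒜 : ℕ → Submodule R A}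
  [GradedAlgebra 𝒜] {M : Type u} [AddCommGroup M] [Module R M] [Module A M]
  {ℳ : ℕ → Submodule R M} [SetLike.GradedSMul 𝒜 ℳ]

/-- Multiplication by `m` carries degree-`n₀` fractions to degree-`n` fractions. -/
def CanMul (𝒜 : ℕ → Submodule R A) (ℳ : ℕ → Submodule R M) (n₀ n : ℤ) (m : M) : Prop :=
  ∀ (i j : ℕ) (a : A), a ∈ 𝒜 i → ((i : ℤ) = j + n₀ ∨ a = 0) →
    ∃ i' : ℕ, a • m ∈ ℳ i' ∧ ((i' : ℤ) = j + n ∨ a • m = 0)

lemma notMem_one' (x : ProjectiveSpectrum 𝒜) : (1 : A) ∉ x.asHomogeneousIdeal :=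
  fun h => x.isPrime.ne_top ((Ideal.eq_top_iff_one _).mpr h)

lemma wval_mem {n₀ n : ℤ} {m : M} (hm : CanMul 𝒜 ℳ n₀ n m) {x : ProjectiveSpectrum 𝒜}
    {q : Twist.Loc 𝒜 x} (hq : q ∈ Twist.twistAt 𝒜 n₀ x) :
    q • (LocalizedModule.mk m ⟨1, notMem_one' x⟩ : GrTilde.LocMod 𝒜 (M := M) x) ∈
      GrTilde.tildeAt 𝒜 ℳ n x := by
  obtain ⟨i, j, a, b, hb, ha, hbj, hdeg, rfl⟩ := exists_lfrac_of_mem_twistAt hq
  obtain ⟨i', hi', hd'⟩ := hm i j a ha hdeg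
  rw [LocalizedModule.mk_smul_mk]
  exact Tilde.mk_mem_tildeAt 𝒜 ℳ n hi' (s := b * 1) (by rw [mul_one]; exact hbj) _ hd'

/-- Multiplication by `m` on sections. -/
noncomputable def mapSec {n₀ n : ℤ} {m : M} (hm : CanMul 𝒜 ℳ n₀ n m) {U : (Proj 𝒜).Opens}
    (s : Γ(Twist.twist 𝒜 n₀, U)) : Γ(GrTilde.tilde 𝒜 ℳ n, U) :=
  (⟨fun x => ⟨wval s x.1 x.2 • LocalizedModule.mk m ⟨1, notMem_one' x.1⟩, wval_mem hm (s.1 x).2⟩,
    fun x => by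
      obtain ⟨V, hxV, ι, i, j, ⟨a, ha⟩, ⟨b, hb⟩, hnin, hdeg, hval⟩ := s.2 x
      replace hdeg : (i : ℤ) = j + n₀ ∨ a = 0 := hdeg
      obtain ⟨i', hi', hd'⟩ := hm i j a ha hdeg
      refine ⟨V, hxV, ι, i', j, ⟨a • m, hi'⟩, ⟨b, hb⟩, hnin, hd', fun y => ?_⟩
      change (s.1 (ι y)).1 • _ = _
      erw [hval y]
      refine (LocalizedModule.mk_smul_mk _ _ _ _).trans ?_
      congr 1
      exact Subtype.ext (mul_one b)⟩ : GrTilde.sect 𝒜 ℳ n (op U))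

lemma tval_mapSec {n₀ n : ℤ} {m : M} (hm : CanMul 𝒜 ℳ n₀ n m) {U : (Proj 𝒜).Opens}
    (s : Γ(Twist.twist 𝒜 n₀, U)) (x : ProjectiveSpectrum 𝒜) (hx : x ∈ U) :
    Ega2Proj.Tilde.tval (mapSec hm s) x hx = wval s x hx • LocalizedModule.mk m ⟨1, notMem_one' x⟩ :=
  rfl

theorem exists_map {n₀ n : ℤ} {m : M} (hm : CanMul 𝒜 ℳ n₀ n m) :
    ∃ φ : Twist.twist 𝒜 n₀ ⟶ GrTilde.tilde 𝒜 ℳ n,
      ∀ (U : (Proj 𝒜).Opens) (s : Γ(Twist.twist 𝒜 n₀, U)), φ.app U s = mapSec hm s := by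
  let g (U : (Proj 𝒜).Opens) : Γ(Twist.twist 𝒜 n₀, U) →+ Γ(GrTilde.tilde 𝒜 ℳ n, U) :=
    AddMonoidHom.mk' (mapSec hm) fun s t => Ega2Proj.Tilde.tval_ext fun x hx => by
      rw [Ega2Proj.Tilde.tval_add, tval_mapSec, tval_mapSec, tval_mapSec, ← add_smul]
      rfl
  let η : (Twist.twist 𝒜 n₀).presheaf ⟶ (GrTilde.tilde 𝒜 ℳ n).presheaf :=
    { app := fun U => AddCommGrpCat.ofHom (g U.unop)
      naturality := fun _ _ _ => rfl }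
  refine ⟨⟨PresheafOfModules.homMk η ?_⟩, fun U s => rfl⟩
  intro U r s
  have key : ∀ (r : Γ(Proj 𝒜, U.unop)) (s : Γ(Twist.twist 𝒜 n₀, U.unop)),
      mapSec hm (r • s) = r • mapSec hm s := fun r s => Ega2Proj.Tilde.tval_ext fun x hx => by
    rw [Ega2Proj.Tilde.tval_smul, tval_mapSec, tval_mapSec, wval_smul, mul_smul]
  exact key r s

/-- The morphism given by multiplication by `m`. -/
noncomputable def map {n₀ n : ℤ} {m : M} (hm : CanMul 𝒜 ℳ n₀ n m) :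
    Twist.twist 𝒜 n₀ ⟶ GrTilde.tilde 𝒜 ℳ n :=
  (exists_map hm).choose

lemma tval_map {n₀ n : ℤ} {m : M} (hm : CanMul 𝒜 ℳ n₀ n m) {U : (Proj 𝒜).Opens}
    (s : Γ(Twist.twist 𝒜 n₀, U)) (x : ProjectiveSpectrum 𝒜) (hx : x ∈ U) :
    Ega2Proj.Tilde.tval ((map hm).app U s) x hx =
      wval s x hx • LocalizedModule.mk m ⟨1, notMem_one' x⟩ := by
  rw [show (map hm).app U s = mapSec hm s from (exists_map hm).choose_spec U s, tval_mapSec]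

/-- A section with zero value at `x` has zero germ at `x`. -/
lemma germ_eq_zero {n : ℤ} {U : (Proj 𝒜).Opens} (s : Γ(GrTilde.tilde 𝒜 ℳ n, U))
    (x : ProjectiveSpectrum 𝒜) (hx : x ∈ U) (h : Ega2Proj.Tilde.tval s x hx = 0) :
    QCohMod.germ (GrTilde.tilde 𝒜 ℳ n) (X := Proj 𝒜) x hx s = 0 := by
  obtain ⟨V, hxV, ι, i, j, ⟨a, ha⟩, ⟨b, hb⟩, hnin, -, hval⟩ := s.2 ⟨x, hx⟩
  have h0 : (LocalizedModule.mk a ⟨b, hnin ⟨x, hxV⟩⟩ : GrTilde.LocMod 𝒜 (M := M) x) = 0 :=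
    (hval ⟨x, hxV⟩).symm.trans h
  obtain ⟨u, hu, hua⟩ := (Ega2Proj.Tilde.mk_eq_zero_iff 𝒜).mp h0
  let W : (Proj 𝒜).Opens := V ⊓ Proj.basicOpen 𝒜 u
  have hWU : W ≤ U := fun y hy => ι.le hy.1
  have hres : res (GrTilde.tilde 𝒜 ℳ n) hWU s = 0 := Ega2Proj.Tilde.tval_ext fun y hy => by
    rw [Ega2Proj.Tilde.tval_res, Ega2Proj.Tilde.tval_zero]
    exact (hval ⟨y, hy.1⟩).trans ((Ega2Proj.Tilde.mk_eq_zero_iff 𝒜).mpr ⟨u, hy.2, hua⟩)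
  rw [← QCohMod.germ_res (GrTilde.tilde 𝒜 ℳ n) hWU x ⟨hxV, hu⟩ s]
  exact (congrArg _ hres).trans (map_zero _)

/-- A section with zero germ at `x` has zero value at `x`. -/
lemma tval_eq_zero_of_germ {n : ℤ} {U : (Proj 𝒜).Opens} (s : Γ(GrTilde.tilde 𝒜 ℳ n, U))
    (x : ProjectiveSpectrum 𝒜) (hx : x ∈ U)
    (h : QCohMod.germ (GrTilde.tilde 𝒜 ℳ n) (X := Proj 𝒜) x hx s = 0) :
    Ega2Proj.Tilde.tval s x hx = 0 := by
  obtain ⟨W, hxW, i₁, i₂, e⟩ := TopCat.Presheaf.germ_eq (GrTilde.tilde 𝒜 ℳ n).presheaf x hx hx s 0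
    (h.trans (map_zero _).symm)
  have e' : res (GrTilde.tilde 𝒜 ℳ n) i₁.le s = 0 := e.trans (map_zero _)
  have := congrArg (fun t => Ega2Proj.Tilde.tval t x hxW) e'
  simpa using this

/-- Sections with equal values at `x` have equal germs at `x`. -/
lemma germ_congr {n : ℤ} {U V : (Proj 𝒜).Opens} (s : Γ(GrTilde.tilde 𝒜 ℳ n, U))
    (t : Γ(GrTilde.tilde 𝒜 ℳ n, V)) (x : Proj 𝒜) (hx : x ∈ U) (hx' : x ∈ V)
    (h : Ega2Proj.Tilde.tval s x hx = Ega2Proj.Tilde.tval t x hx') :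
    QCohMod.germ (GrTilde.tilde 𝒜 ℳ n) x hx s = QCohMod.germ (GrTilde.tilde 𝒜 ℳ n) x hx' t := by
  have hxW : x ∈ U ⊓ V := ⟨hx, hx'⟩
  rw [← QCohMod.germ_res _ (inf_le_left : U ⊓ V ≤ U) x hxW s,
    ← QCohMod.germ_res _ (inf_le_right : U ⊓ V ≤ V) x hxW t]
  refine sub_eq_zero.mp ((map_sub _ _ _).symm.trans (germ_eq_zero _ x hxW ?_))
  exact sub_eq_zero.mpr h

end Groth.Variety2.Reg.Tilde
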