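import Mathlib.CategoryTheory.Abelian.Basic
import Mathlib.Algebra.Category.Grp.Abelian
import Mathlib.CategoryTheory.Preadditive.AdditiveFunctor
import Mathlib.CategoryTheory.Limits.Shapes.BinaryBiproducts
import Mathlib.Algebra.Homology.ShortComplex.Ab

/-!
# The Koszul complex of commuting degree-one operators on a graded family of objects

`G : ℤ → C` with commuting maps `X t a b : G a ⟶ G b` (`b = a + 1`).  `obj G s j a` is the `j`-th
term in degree `a` of the Koszul complex of the first `s` operators.  If, after an additive functor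
to abelian groups, some `X i` (`i < s`) becomes bijective, then the complex becomes exact.
-/

universe u v w

open CategoryTheory CategoryTheory.Limits

namespace Groth.Variety2.Reg.Kosz

variable {C : Type u} [Category.{v} C] [Preadditive C] [HasBinaryBiproducts C] [HasZeroObject C]

open ZeroObject

variable (G : ℤ → C)

/-- The `j`-th term in degree `a` of the Koszul complex on the first `s` operators. -/
noncomputable def obj : ℕ → ℕ → ℤ → C
  | 0, 0, a => G a
  | 0, _ + 1, _ => 0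
  | s + 1, 0, a => obj s 0 a
  | s + 1, j + 1, a => obj s (j + 1) a ⊞ obj s j (a - 1)

variable (s j : ℕ) (a : ℤ)

/-- First inclusion. -/
noncomputable def ι₁ : obj G s (j + 1) a ⟶ obj G (s + 1) (j + 1) a :=
  (biprod.inl : obj G s (j + 1) a ⟶ obj G s (j + 1) a ⊞ obj G s j (a - 1))

/-- Second inclusion. -/
noncomputable def ι₂ : obj G s j (a - 1) ⟶ obj G (s + 1) (j + 1) a :=
  (biprod.inr : obj G s j (a - 1) ⟶ obj G s (j + 1) a ⊞ obj G s j (a - 1))

/-- First projection. -/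
noncomputable def π₁ : obj G (s + 1) (j + 1) a ⟶ obj G s (j + 1) a :=
  (biprod.fst : obj G s (j + 1) a ⊞ obj G s j (a - 1) ⟶ obj G s (j + 1) a)

/-- Second projection. -/
noncomputable def π₂ : obj G (s + 1) (j + 1) a ⟶ obj G s j (a - 1) :=
  (biprod.snd : obj G s (j + 1) a ⊞ obj G s j (a - 1) ⟶ obj G s j (a - 1))

/-- Degree zero does not change with the number of operators. -/
noncomputable def up0 : obj G s 0 a ⟶ obj G (s + 1) 0 a := 𝟙 (obj G s 0 a)

/-- Degree zero does not change with the number of operators. -/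
noncomputable def down0 : obj G (s + 1) 0 a ⟶ obj G s 0 a := 𝟙 (obj G s 0 a)

@[reassoc (attr := simp)] lemma up0_down0 : up0 G s a ≫ down0 G s a = 𝟙 _ := Category.id_comp _
@[reassoc (attr := simp)] lemma down0_up0 : down0 G s a ≫ up0 G s a = 𝟙 _ := Category.id_comp _
@[reassoc (attr := simp)] lemma ι₁_π₁ : ι₁ G s j a ≫ π₁ G s j a = 𝟙 _ := biprod.inl_fst
@[reassoc (attr := simp)] lemma ι₁_π₂ : ι₁ G s j a ≫ π₂ G s j a = 0 := biprod.inl_snd
@[reassoc (attr := simp)] lemma ι₂_π₁ : ι₂ G s j a ≫ π₁ G s j a = 0 := biprod.inr_fst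
@[reassoc (attr := simp)] lemma ι₂_π₂ : ι₂ G s j a ≫ π₂ G s j a = 𝟙 _ := biprod.inr_snd

lemma total : π₁ G s j a ≫ ι₁ G s j a + π₂ G s j a ≫ ι₂ G s j a = 𝟙 _ := biprod.total

variable {G}

lemma hom_ext' {B : C} {f g : obj G (s + 1) (j + 1) a ⟶ B} (h₁ : ι₁ G s j a ≫ f = ι₁ G s j a ≫ g)
    (h₂ : ι₂ G s j a ≫ f = ι₂ G s j a ≫ g) : f = g := by
  rw [← Category.id_comp f, ← Category.id_comp g, ← total G s j a]
  simp only [Preadditive.add_comp, Category.assoc, h₁, h₂]

variable (X : ∀ (_ : ℕ) (a b : ℤ), b = a + 1 → (G a ⟶ G b))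

/-- The operator `X t` on the Koszul terms. -/
noncomputable def act (t : ℕ) : ∀ (s j : ℕ) (a b : ℤ), b = a + 1 → (obj G s j a ⟶ obj G s j b)
  | 0, 0, a, b, h => X t a b h
  | 0, _ + 1, _, _, _ => 0
  | s + 1, 0, a, b, h => down0 G s a ≫ act t s 0 a b h ≫ up0 G s b
  | s + 1, j + 1, a, b, h =>
    π₁ G s j a ≫ act t s (j + 1) a b h ≫ ι₁ G s j b +
      π₂ G s j a ≫ act t s j (a - 1) (b - 1) (by omega) ≫ ι₂ G s j b

/-- The Koszul differential. -/
noncomputable def d : ∀ (s j : ℕ) (a : ℤ), obj G s (j + 1) a ⟶ obj G s j a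
  | 0, _, _ => 0
  | s + 1, 0, a =>
    π₁ G s 0 a ≫ d s 0 a ≫ up0 G s a + π₂ G s 0 a ≫ act X s s 0 (a - 1) a (by omega) ≫ up0 G s a
  | s + 1, j + 1, a =>
    π₁ G s (j + 1) a ≫ d s (j + 1) a ≫ ι₁ G s j a +
      π₂ G s (j + 1) a ≫ (act X s s (j + 1) (a - 1) a (by omega) ≫ ι₁ G s j a -
        d s j (a - 1) ≫ ι₂ G s j a)

/-- The degree-zero term is `G`. -/
noncomputable def obj0Iso : ∀ (s : ℕ) (a : ℤ), obj G s 0 a ≅ G a
  | 0, a => Iso.refl (G a)
  | s + 1, a => ⟨down0 G s a, up0 G s a, down0_up0 G s a, up0_down0 G s a⟩ ≪≫ obj0Iso s a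

lemma act_obj0Iso (t : ℕ) : ∀ (s : ℕ) (a b : ℤ) (h : b = a + 1),
    act X t s 0 a b h ≫ (obj0Iso s b).hom = (obj0Iso s a).hom ≫ X t a b h
  | 0, a, b, h => (Category.comp_id _).trans (Category.id_comp _).symm
  | s + 1, a, b, h => by simp [act, obj0Iso, act_obj0Iso t s a b h]

variable (hcomm : ∀ (t t' : ℕ) (a b b' c : ℤ) (hab : b = a + 1) (hab' : b' = a + 1) (hbc : c = b + 1)
  (hbc' : c = b' + 1), X t a b hab ≫ X t' b c hbc = X t' a b' hab' ≫ X t b' c hbc')

include hcomm in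
lemma act_comm (t t' : ℕ) : ∀ (s j : ℕ) (a b b' c : ℤ) (hab : b = a + 1) (hab' : b' = a + 1)
    (hbc : c = b + 1) (hbc' : c = b' + 1),
    act X t s j a b hab ≫ act X t' s j b c hbc = act X t' s j a b' hab' ≫ act X t s j b' c hbc'
  | 0, 0, a, b, b', c, hab, hab', hbc, hbc' => hcomm t t' a b b' c hab hab' hbc hbc'
  | 0, _ + 1, _, _, _, _, _, _, _, _ => by simp [act]
  | s + 1, 0, a, b, b', c, hab, hab', hbc, hbc' => by
    simp only [act, Category.assoc, up0_down0_assoc]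
    rw [reassoc_of% (act_comm t t' s 0 a b b' c hab hab' hbc hbc')]
  | s + 1, j + 1, a, b, b', c, hab, hab', hbc, hbc' => by
    simp only [act]
    refine hom_ext' s j a ?_ ?_
    · simp [reassoc_of% (act_comm t t' s (j + 1) a b b' c hab hab' hbc hbc')]
    · simp [reassoc_of% (act_comm t t' s j (a - 1) (b - 1) (b' - 1) (c - 1) (by omega) (by omega)
        (by omega) (by omega))]

include hcomm in
lemma act_d (t : ℕ) : ∀ (s j : ℕ) (a b : ℤ) (h : b = a + 1),
    act X t s (j + 1) a b h ≫ d X s j b = d X s j a ≫ act X t s j a b h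
  | 0, _, _, _, _ => by simp [d]
  | s + 1, 0, a, b, h => by
    simp only [act, d]
    refine hom_ext' s 0 a ?_ ?_
    · simp [reassoc_of% (act_d t s 0 a b h)]
    · simp [reassoc_of% (act_comm X hcomm t s s 0 (a - 1) (b - 1) a b (by omega) (by omega) (by omega)
        (by omega))]
  | s + 1, j + 1, a, b, h => by
    simp only [act, d]
    refine hom_ext' s (j + 1) a ?_ ?_
    · simp [reassoc_of% (act_d t s (j + 1) a b h)]
    · simp [reassoc_of% (act_comm X hcomm t s s (j + 1) (a - 1) (b - 1) a b (by omega) (by omega)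
        (by omega) (by omega)), reassoc_of% (act_d t s j (a - 1) (b - 1) (by omega)), sub_eq_add_neg]

include hcomm in
lemma d_comp_d : ∀ (s j : ℕ) (a : ℤ), d X s (j + 1) a ≫ d X s j a = 0
  | 0, _, _ => by simp [d]
  | s + 1, 0, a => by
    simp only [d]
    refine hom_ext' s 1 a ?_ ?_
    · simp [reassoc_of% (d_comp_d s 0 a)]
    · simp [reassoc_of% (act_d X hcomm s s 0 (a - 1) a (by omega))]
  | s + 1, j + 1, a => by
    simp only [d]
    refine hom_ext' s (j + 2) a ?_ ?_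
    · simp [reassoc_of% (d_comp_d s (j + 1) a)]
    · simp [reassoc_of% (act_d X hcomm s s (j + 1) (a - 1) a (by omega)),
        reassoc_of% (d_comp_d s j (a - 1))]

/-! ## Exactness after an additive functor to abelian groups -/

section Elements

variable (Φ : C ⥤ AddCommGrpCat.{w}) [Φ.Additive]

lemma el_comp {A B D : C} (f : A ⟶ B) (g : B ⟶ D) (z : Φ.obj A) :
    Φ.map (f ≫ g) z = Φ.map g (Φ.map f z) := by
  rw [Φ.map_comp, ConcreteCategory.comp_apply]

lemma el_zero {A B : C} (z : Φ.obj A) : Φ.map (0 : A ⟶ B) z = 0 := by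
  rw [Φ.map_zero]; rfl

lemma el_add {A B : C} (f g : A ⟶ B) (z : Φ.obj A) : Φ.map (f + g) z = Φ.map f z + Φ.map g z := by
  rw [Φ.map_add]; rfl

lemma el_sub {A B : C} (f g : A ⟶ B) (z : Φ.obj A) : Φ.map (f - g) z = Φ.map f z - Φ.map g z := by
  rw [Φ.map_sub]; rfl

lemma el_id {A : C} (z : Φ.obj A) : Φ.map (𝟙 A) z = z := by
  rw [Φ.map_id]; rfl

lemma el_up0_down0 (z : Φ.obj (obj G (s + 1) 0 a)) :
    Φ.map (up0 G s a) (Φ.map (down0 G s a) z) = z := by
  rw [← el_comp, down0_up0, el_id]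

lemma el_down0_up0 (z : Φ.obj (obj G s 0 a)) : Φ.map (down0 G s a) (Φ.map (up0 G s a) z) = z := by
  rw [← el_comp, up0_down0, el_id]

lemma el_π₁ (p : Φ.obj (obj G s (j + 1) a)) (q : Φ.obj (obj G s j (a - 1))) :
    Φ.map (π₁ G s j a) (Φ.map (ι₁ G s j a) p + Φ.map (ι₂ G s j a) q) = p := by
  rw [map_add, ← el_comp, ← el_comp, ι₁_π₁, ι₂_π₁, el_id, el_zero, add_zero]

lemma el_π₂ (p : Φ.obj (obj G s (j + 1) a)) (q : Φ.obj (obj G s j (a - 1))) :
    Φ.map (π₂ G s j a) (Φ.map (ι₁ G s j a) p + Φ.map (ι₂ G s j a) q) = q := by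
  rw [map_add, ← el_comp, ← el_comp, ι₁_π₂, ι₂_π₂, el_id, el_zero, zero_add]

lemma el_total (z : Φ.obj (obj G (s + 1) (j + 1) a)) :
    Φ.map (ι₁ G s j a) (Φ.map (π₁ G s j a) z) + Φ.map (ι₂ G s j a) (Φ.map (π₂ G s j a) z) = z := by
  rw [← el_comp, ← el_comp, ← el_add, total, el_id]

lemma el_ext {z z' : Φ.obj (obj G (s + 1) (j + 1) a)}
    (h₁ : Φ.map (π₁ G s j a) z = Φ.map (π₁ G s j a) z')
    (h₂ : Φ.map (π₂ G s j a) z = Φ.map (π₂ G s j a) z') : z = z' := by
  rw [← el_total s j a Φ z, ← el_total s j a Φ z', h₁, h₂]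

lemma el_d0 (z : Φ.obj (obj G (s + 1) 1 a)) :
    Φ.map (down0 G s a) (Φ.map (d X (s + 1) 0 a) z) =
      Φ.map (d X s 0 a) (Φ.map (π₁ G s 0 a) z) +
        Φ.map (act X s s 0 (a - 1) a (by omega)) (Φ.map (π₂ G s 0 a) z) := by
  simp only [d, el_add, el_comp, map_add, el_down0_up0]

lemma el_dS (z : Φ.obj (obj G (s + 1) (j + 2) a)) :
    Φ.map (π₁ G s j a) (Φ.map (d X (s + 1) (j + 1) a) z) =
      Φ.map (d X s (j + 1) a) (Φ.map (π₁ G s (j + 1) a) z) +
        Φ.map (act X s s (j + 1) (a - 1) a (by omega)) (Φ.map (π₂ G s (j + 1) a) z) ∧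
    Φ.map (π₂ G s j a) (Φ.map (d X (s + 1) (j + 1) a) z) =
      -Φ.map (d X s j (a - 1)) (Φ.map (π₂ G s (j + 1) a) z) := by
  refine ⟨?_, ?_⟩ <;>
    simp only [d, el_add, el_sub, el_comp, map_add, map_sub]
  · simp only [← el_comp, Category.assoc, ι₁_π₁, ι₂_π₁, Category.comp_id, comp_zero, el_zero, sub_zero]
  · simp only [← el_comp, Category.assoc, ι₁_π₂, ι₂_π₂, Category.comp_id, comp_zero, el_zero, zero_sub,
      zero_add]

variable (i : ℕ) (hi : ∀ (a b : ℤ) (h : b = a + 1), Function.Bijective (Φ.map (X i a b h)))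

include hi in
lemma act_bijective : ∀ (s j : ℕ) (a b : ℤ) (h : b = a + 1),
    Function.Bijective (Φ.map (act X i s j a b h))
  | 0, 0, a, b, h => hi a b h
  | 0, j + 1, a, b, h => by
    have hz : ∀ (c : ℤ) (z : Φ.obj (obj G 0 (j + 1) c)), z = 0 := fun c z => by
      rw [← el_id Φ z, show (𝟙 (obj G 0 (j + 1) c)) = 0 from (isZero_zero C).eq_of_src _ _, el_zero]
    exact ⟨fun z z' _ => (hz a z).trans (hz a z').symm, fun z => ⟨0, (map_zero _).trans (hz b z).symm⟩⟩
  | s + 1, 0, a, b, h => by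
    have h₁ := act_bijective s 0 a b h
    refine ⟨fun z z' e => ?_, fun z => ?_⟩
    · have e' := congrArg (Φ.map (down0 G s b)) e
      simp only [act, el_comp, el_down0_up0] at e'
      rw [← el_up0_down0 s a Φ z, ← el_up0_down0 s a Φ z', h₁.1 e']
    · obtain ⟨p, hp⟩ := h₁.2 (Φ.map (down0 G s b) z)
      exact ⟨Φ.map (up0 G s a) p, by simp only [act, el_comp, el_down0_up0, hp, el_up0_down0]⟩
  | s + 1, j + 1, a, b, h => by
    have h₁ := act_bijective s (j + 1) a b h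
    have h₂ := act_bijective s j (a - 1) (b - 1) (by omega)
    have e₁ : ∀ z, Φ.map (π₁ G s j b) (Φ.map (act X i (s + 1) (j + 1) a b h) z) =
        Φ.map (act X i s (j + 1) a b h) (Φ.map (π₁ G s j a) z) := fun z => by
      simp only [act, el_add, el_comp, el_π₁]
    have e₂ : ∀ z, Φ.map (π₂ G s j b) (Φ.map (act X i (s + 1) (j + 1) a b h) z) =
        Φ.map (act X i s j (a - 1) (b - 1) (by omega)) (Φ.map (π₂ G s j a) z) := fun z => by
      simp only [act, el_add, el_comp, el_π₂]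
    refine ⟨fun z z' e => el_ext s j a Φ ?_ ?_, fun z => ?_⟩
    · exact h₁.1 ((e₁ z).symm.trans ((congrArg _ e).trans (e₁ z')))
    · exact h₂.1 ((e₂ z).symm.trans ((congrArg _ e).trans (e₂ z')))
    · obtain ⟨p, hp⟩ := h₁.2 (Φ.map (π₁ G s j b) z)
      obtain ⟨q, hq⟩ := h₂.2 (Φ.map (π₂ G s j b) z)
      refine ⟨Φ.map (ι₁ G s j a) p + Φ.map (ι₂ G s j a) q, el_ext s j b Φ ?_ ?_⟩
      · rw [e₁, el_π₁, hp]
      · rw [e₂, el_π₂, hq]

include hcomm hi in
/-- Exactness of the image of the Koszul complex, with surjectivity at the end. -/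
lemma exact_el : ∀ (s : ℕ), i < s → ∀ (a : ℤ),
    (∀ z : Φ.obj (obj G s 0 a), ∃ w, Φ.map (d X s 0 a) w = z) ∧
    ∀ (j : ℕ) (z : Φ.obj (obj G s (j + 1) a)), Φ.map (d X s j a) z = 0 →
      ∃ w, Φ.map (d X s (j + 1) a) w = z := by
  intro s
  induction s with
  | zero => intro h; omega
  | succ s ih =>
    intro his a
    -- the conditions for a cycle
    have hcyc : ∀ (j : ℕ) (z : Φ.obj (obj G (s + 1) (j + 1) a)), Φ.map (d X (s + 1) j a) z = 0 →
        Φ.map (d X s j a) (Φ.map (π₁ G s j a) z) +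
          Φ.map (act X s s j (a - 1) a (by omega)) (Φ.map (π₂ G s j a) z) = 0 := by
      intro j z hz
      cases j with
      | zero => rw [← el_d0, hz, map_zero]
      | succ j => rw [← (el_dS s j a X Φ z).1, hz, map_zero]
    have hcom : ∀ (j : ℕ) (q : Φ.obj (obj G s (j + 1) (a - 1))),
        Φ.map (d X s j a) (Φ.map (act X s s (j + 1) (a - 1) a (by omega)) q) =
          Φ.map (act X s s j (a - 1) a (by omega)) (Φ.map (d X s j (a - 1)) q) := fun j q => by
      rw [← el_comp, ← el_comp, act_d X hcomm s s j (a - 1) a (by omega)]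
    rcases Nat.lt_succ_iff_lt_or_eq.mp his with hlt | heq
    · -- a cone of a map between exact complexes
      refine ⟨fun z => ?_, fun j z hz => ?_⟩
      · obtain ⟨p, hp⟩ := (ih hlt a).1 (Φ.map (down0 G s a) z)
        refine ⟨Φ.map (ι₁ G s 0 a) p + Φ.map (ι₂ G s 0 a) 0, ?_⟩
        rw [← el_up0_down0 s a Φ (Φ.map (d X (s + 1) 0 a) _), el_d0, el_π₁, el_π₂, map_zero, add_zero,
          hp, el_up0_down0]
      · obtain ⟨q, hq⟩ : ∃ q, Φ.map (d X s j (a - 1)) q = Φ.map (π₂ G s j a) z := by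
          cases j with
          | zero => exact (ih hlt (a - 1)).1 _
          | succ j =>
            refine (ih hlt (a - 1)).2 j _ ?_
            rw [← neg_eq_zero, ← (el_dS s j a X Φ z).2, hz, map_zero]
        obtain ⟨p, hp⟩ := (ih hlt a).2 j (Φ.map (π₁ G s j a) z +
          Φ.map (act X s s (j + 1) (a - 1) a (by omega)) q) (by
            rw [map_add, hcom, hq]
            exact hcyc j z hz)
        refine ⟨Φ.map (ι₁ G s (j + 1) a) p + Φ.map (ι₂ G s (j + 1) a) (-q), el_ext s j a Φ ?_ ?_⟩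
        · rw [(el_dS s j a X Φ _).1, el_π₁, el_π₂, hp, map_neg, add_neg_cancel_right]
        · rw [(el_dS s j a X Φ _).2, el_π₂, map_neg, neg_neg, hq]
    · -- the cone of a bijective map
      subst heq
      refine ⟨fun z => ?_, fun j z hz => ?_⟩
      · obtain ⟨q, hq⟩ := (act_bijective X Φ i hi i 0 (a - 1) a (by omega)).2 (Φ.map (down0 G i a) z)
        refine ⟨Φ.map (ι₁ G i 0 a) 0 + Φ.map (ι₂ G i 0 a) q, ?_⟩
        rw [← el_up0_down0 i a Φ (Φ.map (d X (i + 1) 0 a) _), el_d0, el_π₁, el_π₂, map_zero, zero_add,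
          hq, el_up0_down0]
      · obtain ⟨q, hq⟩ :=
          (act_bijective X Φ i hi i (j + 1) (a - 1) a (by omega)).2 (Φ.map (π₁ G i j a) z)
        refine ⟨Φ.map (ι₁ G i (j + 1) a) 0 + Φ.map (ι₂ G i (j + 1) a) q, el_ext i j a Φ ?_ ?_⟩
        · rw [(el_dS i j a X Φ _).1, el_π₁, el_π₂, hq, map_zero, zero_add]
        · rw [(el_dS i j a X Φ _).2, el_π₂]
          refine (act_bijective X Φ i hi i j (a - 1) a (by omega)).1 ?_
          rw [map_neg, ← hcom, hq]
          exact neg_eq_of_add_eq_zero_right (hcyc j z hz)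

end Elements

end Groth.Variety2.Reg.Kosz
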