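import Groth.Agent.EulerDeg.Basic
import Groth.Agent.CohFin.Linear
import Groth.Agent.QCohMod.Stalk
import Groth.Agent.Variety2.Reg.Kosz

/-!
# Vanishing of cohomology along exact sequences
-/

universe u

open CategoryTheory CategoryTheory.Limits AlgebraicGeometry Coh

namespace Groth.Variety2.Reg

variable {X : Scheme.{u}}

/-- The kernel sequence of an epimorphism. -/
lemma kernel_shortExact {M N : X.Modules} (φ : M ⟶ N) [Epi φ] :
    (ShortComplex.mk (kernel.ι φ) φ (kernel.condition φ)).ShortExact :=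
  { exact := ShortComplex.exact_kernel φ }

/-- The cokernel sequence of a monomorphism. -/
lemma cokernel_shortExact {M N : X.Modules} (φ : M ⟶ N) [Mono φ] :
    (ShortComplex.mk φ (cokernel.π φ) (cokernel.condition φ)).ShortExact :=
  { exact := ShortComplex.exact_cokernel φ }

/-! ## Koszul complexes -/

variable {G : ℤ → X.Modules} (op : ∀ (_ : ℕ) (a b : ℤ), b = a + 1 → (G a ⟶ G b))

lemma isZero_kosz : ∀ (s j : ℕ) (a : ℤ), s < j → IsZero (Kosz.obj G s j a)
  | 0, 0, _, h => absurd h (lt_irrefl 0)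
  | 0, _ + 1, _, _ => isZero_zero _
  | _ + 1, 0, _, h => absurd h (Nat.not_lt_zero _)
  | s + 1, j + 1, a, h =>
    (biprod_isZero_iff (Kosz.obj G s (j + 1) a) (Kosz.obj G s j (a - 1))).mpr
      ⟨isZero_kosz s (j + 1) a (by omega), isZero_kosz s j (a - 1) (by omega)⟩

variable (s : ℕ)
  (hcomm : ∀ (t t' : ℕ) (a b b' c : ℤ) (hab : b = a + 1) (hab' : b' = a + 1) (hbc : c = b + 1)
    (hbc' : c = b' + 1), op t a b hab ≫ op t' b c hbc = op t' a b' hab' ≫ op t b' c hbc')
  (hiso : ∀ x : X, ∃ i < s, ∀ (a b : ℤ) (h : b = a + 1),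
    Function.Bijective ((QCohMod.stalk x).map (op i a b h)))

include hcomm hiso in
lemma epi_kosz (a : ℤ) : Epi (Kosz.d op s 0 a) :=
  (QCohMod.epi_iff_stalk _).mpr fun x z => by
    obtain ⟨i, hi, hb⟩ := hiso x
    exact (Kosz.exact_el op hcomm (QCohMod.stalk x) i hb s hi a).1 z

include hcomm hiso in
lemma exact_kosz (j : ℕ) (a : ℤ) :
    (ShortComplex.mk (Kosz.d op s (j + 1) a) (Kosz.d op s j a)
      (Kosz.d_comp_d op hcomm s j a)).Exact :=
  (QCohMod.exact_iff_stalk _).mpr fun x => (ShortComplex.ab_exact_iff _).mpr fun z hz => by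
    obtain ⟨i, hi, hb⟩ := hiso x
    exact (Kosz.exact_el op hcomm (QCohMod.stalk x) i hb s hi a).2 j z hz

/-- The map of the next Koszul term onto the cycles. -/
noncomputable def toCycles (hc : ∀ j a, Kosz.d op s (j + 1) a ≫ Kosz.d op s j a = 0) (j : ℕ) (a : ℤ) :
    Kosz.obj G s (j + 2) a ⟶ kernel (Kosz.d op s j a) :=
  kernel.lift _ (Kosz.d op s (j + 1) a) (hc j a)

include hcomm hiso in
lemma shortExact_cycles (j : ℕ) (a : ℤ) :
    ∃ w, (ShortComplex.mk (kernel.ι (Kosz.d op s (j + 1) a))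
      (toCycles op s (Kosz.d_comp_d op hcomm s) j a) w).ShortExact := by
  have he : Epi (toCycles op s (Kosz.d_comp_d op hcomm s) j a) :=
    (exact_kosz op s hcomm hiso j a).epi_kernelLift
  have w : kernel.ι (Kosz.d op s (j + 1) a) ≫ toCycles op s (Kosz.d_comp_d op hcomm s) j a = 0 := by
    apply (cancel_mono (kernel.ι (Kosz.d op s j a))).mp
    rw [Category.assoc, toCycles, kernel.lift_ι, kernel.condition, zero_comp]
  have hfac : toCycles op s (Kosz.d_comp_d op hcomm s) j a ≫ kernel.ι (Kosz.d op s j a) =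
      Kosz.d op s (j + 1) a := kernel.lift_ι _ _ _
  refine ⟨w, { exact := ShortComplex.exact_of_f_is_kernel _ (KernelFork.IsLimit.ofι' _ _ ?_), mono_f := inferInstance, epi_g := he }⟩
  intro A l hl
  exact ⟨kernel.lift _ l (by rw [← hfac, ← Category.assoc, hl, zero_comp]), kernel.lift_ι _ _ _⟩

variable (k : Type u) [Field k] [ov : X.Over (Spec (CommRingCat.of k))]
include ov

lemma subsingleton_of_iso {M N : X.Modules} (e : M ≅ N) {q : ℕ} (h : Subsingleton (HH X M q)) :
    Subsingleton (HH X N q) :=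
  haveI := h
  (EulerDeg.hEquiv k e q).symm.toEquiv.subsingleton

lemma subsingleton_of_isZero' {M : X.Modules} (h : IsZero M) (q : ℕ) : Subsingleton (HH X M q) := by
  refine subsingleton_of_forall_eq 0 fun x => ?_
  have e := LinearMap.congr_fun (EulerDeg.hMap_id k M q) x
  rw [LinearMap.id_apply] at e
  rw [← e, h.eq_of_src (𝟙 M) 0, EulerDeg.hMap_apply, EulerDeg.abMap_zero]
  simp [Sheaf.H.map]

variable {S : ShortComplex X.Modules} (hS : S.ShortExact)

include hS in
lemma subsingleton_mid {q : ℕ} (h₁ : Subsingleton (HH X S.X₁ q)) (h₃ : Subsingleton (HH X S.X₃ q)) :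
    Subsingleton (HH X S.X₂ q) :=
  haveI := h₁
  haveI := h₃
  EulerDeg.subsingleton_of_exact (EulerDeg.exact_mid k hS q)

include hS in
lemma subsingleton_left {q : ℕ} (h₃ : Subsingleton (HH X S.X₃ q))
    (h₂ : Subsingleton (HH X S.X₂ (q + 1))) : Subsingleton (HH X S.X₁ (q + 1)) :=
  haveI := h₂
  haveI := h₃
  EulerDeg.subsingleton_of_exact (EulerDeg.exact_left k hS q)

include hS in
lemma subsingleton_right {q : ℕ} (h₂ : Subsingleton (HH X S.X₂ q))
    (h₁ : Subsingleton (HH X S.X₁ (q + 1))) : Subsingleton (HH X S.X₃ q) :=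
  haveI := h₁
  haveI := h₂
  EulerDeg.subsingleton_of_exact (EulerDeg.exact_right k hS q)

include hS in
/-- Global sections lift along an epimorphism when `H¹` of the kernel vanishes. -/
lemma surjective_app_top (h₁ : Subsingleton (HH X S.X₁ 1)) :
    Function.Surjective (S.g.app ⊤) := by
  intro t
  have := h₁
  obtain ⟨y, hy⟩ : ∃ y, EulerDeg.hMap k S.g 0 y =
      (CohFin.equivSections (X ↘ Spec (CommRingCat.of k)) S.X₃).symm t :=
    (EulerDeg.exact_right k hS 0 _).mp (Subsingleton.elim _ _)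
  refine ⟨CohFin.equivSections (X ↘ Spec (CommRingCat.of k)) S.X₂ y, ?_⟩
  rw [← CohFin.equivSections_mapL]
  exact (congrArg _ hy).trans (AddEquiv.apply_symm_apply _ t)

include hS in
/-- If the map on global sections is surjective, `H¹` of the kernel embeds into that of the middle. -/
lemma subsingleton_one_of_surjective (hg : Function.Surjective (S.g.app ⊤))
    (h₂ : Subsingleton (HH X S.X₂ 1)) : Subsingleton (HH X S.X₁ 1) := by
  have := h₂
  refine subsingleton_of_forall_eq 0 fun x => ?_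
  obtain ⟨z, rfl⟩ := (EulerDeg.exact_left k hS 0 x).mp (Subsingleton.elim _ _)
  obtain ⟨t, ht⟩ := hg (CohFin.equivSections (X ↘ Spec (CommRingCat.of k)) S.X₃ z)
  refine (EulerDeg.exact_right k hS 0 z).mpr
    ⟨(CohFin.equivSections (X ↘ Spec (CommRingCat.of k)) S.X₂).symm t, ?_⟩
  apply (CohFin.equivSections (X ↘ Spec (CommRingCat.of k)) S.X₃).injective
  refine (CohFin.equivSections_mapL _ S.g _).trans ?_
  rw [AddEquiv.apply_symm_apply]
  exact ht

lemma subsingleton_biprod {A B : X.Modules} {q : ℕ} (hA : Subsingleton (HH X A q))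
    (hB : Subsingleton (HH X B q)) : Subsingleton (HH X (A ⊞ B) q) :=
  subsingleton_mid k (S := ShortComplex.mk (biprod.inl : A ⟶ A ⊞ B) biprod.snd biprod.inl_snd)
    (ShortComplex.Splitting.ofHasBinaryBiproduct A B).shortExact hA hB

lemma subsingleton_kosz : ∀ (s j : ℕ) (a : ℤ) (q : ℕ), Subsingleton (HH X (G (a - j)) q) →
    Subsingleton (HH X (Kosz.obj G s j a) q)
  | 0, 0, a, q, h => by
    simp only [Nat.cast_zero, sub_zero] at h
    exact h
  | 0, _ + 1, _, q, _ => subsingleton_of_isZero' k (isZero_zero _) q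
  | s + 1, 0, a, q, h => subsingleton_kosz s 0 a q h
  | s + 1, j + 1, a, q, h => subsingleton_biprod k (subsingleton_kosz s (j + 1) a q h)
      (subsingleton_kosz s j (a - 1) q (by
        rwa [show a - 1 - (j : ℤ) = a - ((j + 1 : ℕ) : ℤ) by omega]))

include hcomm hiso in
/-- Vanishing for the first cycles of the Koszul complex. -/
theorem subsingleton_cycles (q : ℕ) (a : ℤ)
    (h : ∀ j : ℕ, 1 ≤ j → Subsingleton (HH X (G (a - 1 - j)) (q + j))) :
    Subsingleton (HH X (kernel (Kosz.d op s 0 a)) (q + 1)) := by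
  suffices H : ∀ (n j : ℕ), s ≤ j + n →
      Subsingleton (HH X (kernel (Kosz.d op s j a)) (q + j + 1)) by
    simpa using H s 0 (by omega)
  intro n
  induction n with
  | zero =>
    intro j hj
    exact subsingleton_of_isZero' k
      (IsZero.of_mono (kernel.ι (Kosz.d op s j a)) (isZero_kosz s (j + 1) a (by omega))) _
  | succ n ih =>
    intro j hj
    obtain ⟨w, hw⟩ := shortExact_cycles op s hcomm hiso j a
    refine subsingleton_right k hw ?_ (ih (j + 1) (by omega))
    refine subsingleton_kosz k s (j + 2) a _ ?_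
    have := h (j + 1) (by omega)
    rwa [show a - 1 - ((j + 1 : ℕ) : ℤ) = a - ((j + 2 : ℕ) : ℤ) by omega,
      show q + (j + 1) = q + j + 1 by omega] at this

include hcomm hiso in
/-- If `H^(q+j)(G(a-1-j)) = 0` for all `j`, then `H^q(G a) = 0`. -/
theorem subsingleton_of_kosz (q : ℕ) (a : ℤ)
    (h : ∀ j : ℕ, Subsingleton (HH X (G (a - 1 - j)) (q + j))) : Subsingleton (HH X (G a) q) := by
  have := epi_kosz op s hcomm hiso a
  refine subsingleton_of_iso k (Kosz.obj0Iso (G := G) s a) (subsingleton_right k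
    (kernel_shortExact (Kosz.d op s 0 a)) ?_
    (subsingleton_cycles op s hcomm hiso k q a fun j _ => h j))
  refine subsingleton_kosz k s 1 a q ?_
  simpa using h 0

include hcomm hiso in
/-- Global sections of `G a` all come from the first Koszul term. -/
theorem surjective_of_kosz (a : ℤ)
    (h : ∀ j : ℕ, 1 ≤ j → Subsingleton (HH X (G (a - 1 - j)) j)) :
    Function.Surjective ((Kosz.d op s 0 a).app ⊤) := by
  have := epi_kosz op s hcomm hiso a
  exact surjective_app_top k (kernel_shortExact (Kosz.d op s 0 a))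
    (subsingleton_cycles op s hcomm hiso k 0 a (by simpa using h))

include hcomm hiso in
/-- In that case every global section of `G a` is a combination of the images of the operators. -/
theorem exists_sum_of_kosz (a : ℤ)
    (h : ∀ j : ℕ, 1 ≤ j → Subsingleton (HH X (G (a - 1 - j)) j))
    (P : Γ(G a, ⊤) → Prop) (P0 : P 0) (Padd : ∀ u v, P u → P v → P (u + v))
    (Pop : ∀ t < s, ∀ v, P ((op t (a - 1) a (by omega)).app ⊤ v)) (z : Γ(G a, ⊤)) : P z := by
  have key : ∀ (r : ℕ), r ≤ s → ∀ w : Γ(Kosz.obj G r 1 a, ⊤),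
      P ((Kosz.obj0Iso (G := G) r a).hom.app ⊤ ((Kosz.d op r 0 a).app ⊤ w)) := by
    intro r
    induction r with
    | zero =>
      intro _ w
      simpa [Kosz.d] using P0
    | succ r ih =>
      intro hr w
      have e : (Kosz.obj0Iso (G := G) r a).hom.app ⊤ ((Kosz.act op r r 0 (a - 1) a (by omega)).app ⊤
          ((Kosz.π₂ G r 0 a).app ⊤ w)) =
          (op r (a - 1) a (by omega)).app ⊤
            ((Kosz.obj0Iso (G := G) r (a - 1)).hom.app ⊤ ((Kosz.π₂ G r 0 a).app ⊤ w)) := by
        exact congr(($(Kosz.act_obj0Iso op r r (a - 1) a (by omega))).app ⊤ ((Kosz.π₂ G r 0 a).app ⊤ w))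
      have hsum : (Kosz.obj0Iso (G := G) (r + 1) a).hom.app ⊤ ((Kosz.d op (r + 1) 0 a).app ⊤ w) =
          (Kosz.obj0Iso (G := G) r a).hom.app ⊤ ((Kosz.d op r 0 a).app ⊤ ((Kosz.π₁ G r 0 a).app ⊤ w)) +
          (Kosz.obj0Iso (G := G) r a).hom.app ⊤ ((Kosz.act op r r 0 (a - 1) a (by omega)).app ⊤
            ((Kosz.π₂ G r 0 a).app ⊤ w)) := by
        have e1 : Kosz.d op (r + 1) 0 a ≫ (Kosz.obj0Iso (G := G) (r + 1) a).hom =
            Kosz.π₁ G r 0 a ≫ Kosz.d op r 0 a ≫ (Kosz.obj0Iso (G := G) r a).hom +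
              Kosz.π₂ G r 0 a ≫ Kosz.act op r r 0 (a - 1) a (by omega) ≫ (Kosz.obj0Iso (G := G) r a).hom := by
          simp [Kosz.d, Kosz.obj0Iso]
        exact congr(($e1).app ⊤ w)
      rw [hsum, e]
      exact Padd _ _ (ih (by omega) _) (Pop r (by omega) _)
  obtain ⟨w, hw⟩ := surjective_of_kosz op s hcomm hiso k a h ((Kosz.obj0Iso (G := G) s a).inv.app ⊤ z)
  have hz : (Kosz.obj0Iso (G := G) s a).hom.app ⊤ ((Kosz.obj0Iso (G := G) s a).inv.app ⊤ z) = z := by
    rw [← ConcreteCategory.comp_apply, ← Scheme.Modules.Hom.comp_app, Iso.inv_hom_id]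
    rfl
  rw [← hz, ← hw]
  exact key s le_rfl w

end Groth.Variety2.Reg
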