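import Groth.Agent.Ega2Proj.TwistPow
import Groth.Agent.Ega2Proj.TensorGen
import Groth.Agent.PicAux.Powers

/-!
# Multiplication by forms of degree one on the twisting sheaves

For `g` of degree one, `mulG hg a b : O(a) ⟶ O(b)` (where `b = a + 1`) is multiplication by `g`, and
`tmulG F hg a b : F ⊗ O(a) ⟶ F ⊗ O(b)` its tensor product with a module `F`.  The latter is bijective on
sections over opens where `g` does not vanish.
-/

universe u

open CategoryTheory AlgebraicGeometry Opposite TopologicalSpace DirectSum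
open Groth.PicAux Groth.Ega2Proj

namespace Groth.Variety2.Reg

variable {R A : Type u} [CommRing R] [CommRing A] [Algebra R A] {𝒜 : ℕ → Submodule R A}
  [GradedAlgebra 𝒜]

lemma notMem_one (x : ProjectiveSpectrum 𝒜) : (1 : A) ∉ x.asHomogeneousIdeal :=
  fun h => x.isPrime.ne_top ((Ideal.eq_top_iff_one _).mpr h)

lemma lfrac_one_eq (x : ProjectiveSpectrum 𝒜) (g : A) :
    lfrac 𝒜 x g (notMem_one x) = algebraMap A (Twist.Loc 𝒜 x) g :=
  (Localization.mk_one_eq_algebraMap (M := x.asHomogeneousIdeal.toIdeal.primeCompl) g)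

/-- Multiplication by `g` on sections of a twisting sheaf. -/
noncomputable def mulSec {g : A} (hg : g ∈ 𝒜 1) {a b : ℤ} (h : b = a + 1) {U : (Proj 𝒜).Opens}
    (s : Γ(Twist.twist 𝒜 a, U)) : Γ(Twist.twist 𝒜 b, U) :=
  Tilde.mulFrac (ℳ := 𝒜) (e' := 0) hg (SetLike.GradedOne.one_mem : (1 : A) ∈ 𝒜 0) (n := a) (n' := b)
    (by omega) (fun x _ => notMem_one x) s

lemma wval_mulSec {g : A} (hg : g ∈ 𝒜 1) {a b : ℤ} (h : b = a + 1) {U : (Proj 𝒜).Opens}
    (s : Γ(Twist.twist 𝒜 a, U)) (x : ProjectiveSpectrum 𝒜) (hx : x ∈ U) :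
    wval (mulSec hg h s) x hx = algebraMap A (Twist.Loc 𝒜 x) g * wval s x hx := by
  rw [← lfrac_one_eq x g]
  rfl

theorem exists_mulG {g : A} (hg : g ∈ 𝒜 1) (a b : ℤ) (h : b = a + 1) :
    ∃ φ : Twist.twist 𝒜 a ⟶ Twist.twist 𝒜 b,
      ∀ (U : (Proj 𝒜).Opens) (s : Γ(Twist.twist 𝒜 a, U)), φ.app U s = mulSec hg h s := by
  let m (U : (Proj 𝒜).Opens) : Γ(Twist.twist 𝒜 a, U) →+ Γ(Twist.twist 𝒜 b, U) :=
    AddMonoidHom.mk' (mulSec hg h) fun s t => wval_ext fun x hx => by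
      change _ = wval (mulSec hg h s) x hx + wval (mulSec hg h t) x hx
      rw [wval_mulSec, wval_mulSec, wval_mulSec, ← mul_add]
      rfl
  let η : (Twist.twist 𝒜 a).presheaf ⟶ (Twist.twist 𝒜 b).presheaf :=
    { app := fun U => AddCommGrpCat.ofHom (m U.unop)
      naturality := fun _ _ _ => rfl }
  refine ⟨⟨PresheafOfModules.homMk η ?_⟩, fun U s => rfl⟩
  intro U r s
  have key : ∀ (r : Γ(Proj 𝒜, U.unop)) (s : Γ(Twist.twist 𝒜 a, U.unop)),
      mulSec hg h (r • s) = r • mulSec hg h s :=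
    fun r s => wval_ext fun x hx => by
      rw [wval_smul, wval_mulSec, wval_mulSec, wval_smul, mul_left_comm]
  exact key r s

/-- Multiplication by `g` as a morphism `O(a) ⟶ O(b)`, `b = a + 1`. -/
noncomputable def mulG {g : A} (hg : g ∈ 𝒜 1) (a b : ℤ) (h : b = a + 1) :
    Twist.twist 𝒜 a ⟶ Twist.twist 𝒜 b :=
  (exists_mulG hg a b h).choose

lemma wval_mulG {g : A} (hg : g ∈ 𝒜 1) {a b : ℤ} (h : b = a + 1) {U : (Proj 𝒜).Opens}
    (s : Γ(Twist.twist 𝒜 a, U)) (x : ProjectiveSpectrum 𝒜) (hx : x ∈ U) :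
    wval ((mulG hg a b h).app U s) x hx = algebraMap A (Twist.Loc 𝒜 x) g * wval s x hx := by
  rw [show (mulG hg a b h).app U s = mulSec hg h s from (exists_mulG hg a b h).choose_spec U s,
    wval_mulSec]

lemma mulG_comm {g g' : A} (hg : g ∈ 𝒜 1) (hg' : g' ∈ 𝒜 1) (a b b' c : ℤ) (hab : b = a + 1)
    (hab' : b' = a + 1) (hbc : c = b + 1) (hbc' : c = b' + 1) :
    mulG hg a b hab ≫ mulG hg' b c hbc = mulG hg' a b' hab' ≫ mulG hg b' c hbc' := by
  ext U s
  refine wval_ext fun x hx => ?_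
  simp only [Scheme.Modules.Hom.comp_app, ConcreteCategory.comp_apply, wval_mulG]
  rw [mul_left_comm]

/-- Multiplication by `g` carries `g ^ a` to `g ^ b`. -/
lemma mulG_pwSec {g : A} (hg : g ∈ 𝒜 1) {a b : ℤ} (h : b = a + 1) {U : (Proj 𝒜).Opens}
    (hU : ∀ x : ProjectiveSpectrum 𝒜, x ∈ U → g ∉ x.asHomogeneousIdeal) :
    (mulG hg a b h).app U (pwSec (N := a) hg a (by simp) hU) = pwSec (N := b) hg b (by simp) hU := by
  refine wval_ext fun x hx => ?_
  rw [wval_mulG, wval_pwSec, wval_pwSec, ← coe_funit x (hU x hx), ← Units.val_mul, h, zpow_add,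
    zpow_one, mul_comm]

/-- Multiplication by `g'` is the function `g' / g` times multiplication by `g`. -/
lemma exists_mulG_eq_smul {g g' : A} (hg : g ∈ 𝒜 1) (hg' : g' ∈ 𝒜 1) {U : (Proj 𝒜).Opens}
    (hU : ∀ x : ProjectiveSpectrum 𝒜, x ∈ U → g ∉ x.asHomogeneousIdeal) :
    ∃ r : Γ(Proj 𝒜, U), ∀ (a b : ℤ) (h : b = a + 1) (s : Γ(Twist.twist 𝒜 a, U)),
      (mulG hg' a b h).app U s = r • (mulG hg a b h).app U s := by
  obtain ⟨r, hr⟩ := exists_fun_eq_wval (fracGen hg' hg (n := 0) (by omega) U hU)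
  refine ⟨r, fun a b h s => wval_ext fun x hx => ?_⟩
  rw [wval_smul, hr x hx, wval_fracGen, wval_mulG, wval_mulG, ← mul_assoc]
  congr 1
  rw [← lfrac_one_eq x g, lfrac_mul_lfrac 𝒜 x (hU x hx) (notMem_one x)
    (x.asHomogeneousIdeal.toIdeal.primeCompl.mul_mem (hU x hx) (notMem_one x)), ← lfrac_one_eq x g']
  rw [lfrac, lfrac, Localization.mk_eq_mk_iff, Localization.r_iff_exists]
  exact ⟨1, by simp only [OneMemClass.coe_one, one_mul, mul_one]; ring⟩

/-! ## Tensoring with a module -/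

variable (F : (Proj 𝒜).Modules)

/-- `F ⊗ O(a)`. -/
noncomputable abbrev tw (a : ℤ) : (Proj 𝒜).Modules := CohB1.tensorMod F (Twist.twist 𝒜 a)

/-- Multiplication by `g` as a morphism `F(a) ⟶ F(b)`, `b = a + 1`. -/
noncomputable def tmulG {g : A} (hg : g ∈ 𝒜 1) (a b : ℤ) (h : b = a + 1) : tw F a ⟶ tw F b :=
  KoszTw.tensorMap (𝟙 F) (mulG hg a b h)

lemma tmulG_tmulSec {g : A} (hg : g ∈ 𝒜 1) {a b : ℤ} (h : b = a + 1) {U : (Proj 𝒜).Opens}
    (y : Γ(F, U)) (s : Γ(Twist.twist 𝒜 a, U)) :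
    (tmulG F hg a b h).app U (tmulSec y s) = tmulSec y ((mulG hg a b h).app U s) :=
  (tensorMap_app_tmulSec (𝟙 F) (mulG hg a b h) U y s).trans rfl

lemma tmulG_comm {g g' : A} (hg : g ∈ 𝒜 1) (hg' : g' ∈ 𝒜 1) (a b b' c : ℤ) (hab : b = a + 1)
    (hab' : b' = a + 1) (hbc : c = b + 1) (hbc' : c = b' + 1) :
    tmulG F hg a b hab ≫ tmulG F hg' b c hbc = tmulG F hg' a b' hab' ≫ tmulG F hg b' c hbc' := by
  refine tensor_hom_ext fun W y s => ?_
  have h1 := congr((Scheme.Modules.Hom.app $(mulG_comm hg hg' a b b' c hab hab' hbc hbc') W) s)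
  simp only [Scheme.Modules.Hom.comp_app, ConcreteCategory.comp_apply] at h1 ⊢
  rw [tmulG_tmulSec, tmulG_tmulSec, tmulG_tmulSec, tmulG_tmulSec, h1]

/-- Multiplication by `g` is natural in the module. -/
lemma tmulG_natural {F G : (Proj 𝒜).Modules} (φ : F ⟶ G) {g : A} (hg : g ∈ 𝒜 1) (a b : ℤ)
    (h : b = a + 1) :
    tmulG F hg a b h ≫ (DCoh.tensorRightMod (Twist.twist 𝒜 b)).map φ =
      (DCoh.tensorRightMod (Twist.twist 𝒜 a)).map φ ≫ tmulG G hg a b h := by
  refine tensor_hom_ext fun W y s => ?_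
  have h1 := congrArg (((DCoh.tensorRightMod (Twist.twist 𝒜 b)).map φ).app W) (tmulG_tmulSec F hg h y s)
  have h2 := congrArg ((tmulG G hg a b h).app W) (tensorRightMod_map_tmulSec (Twist.twist 𝒜 a) φ W y s)
  exact h1.trans ((tensorRightMod_map_tmulSec (Twist.twist 𝒜 b) φ W y _).trans
    ((tmulG_tmulSec G hg h (φ.app W y) s).symm.trans h2.symm))

/-- Over an open where `g` does not vanish, multiplication by `g` is bijective on sections. -/
theorem tmulG_bijective {g : A} (hg : g ∈ 𝒜 1) (a b : ℤ) (h : b = a + 1) {V : (Proj 𝒜).Opens}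
    (hV : ∀ x : ProjectiveSpectrum 𝒜, x ∈ V → g ∉ x.asHomogeneousIdeal) :
    Function.Bijective ((tmulG F hg a b h).app V) := by
  have ga := tmulSec_bijective (M := F) (le_refl V) (gen_pwSec (N := a) hg a (by simp) hV)
  have gb := tmulSec_bijective (M := F) (le_refl V) (gen_pwSec (N := b) hg b (by simp) hV)
  simp only [res_self] at ga gb
  refine (Function.Bijective.of_comp_iff _ ga).mp ?_
  convert gb using 1
  funext y
  exact (tmulG_tmulSec F hg h y _).trans (by rw [mulG_pwSec hg h hV])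

/-- Multiplication by `g'` on `F(a)` is the function `g' / g` times multiplication by `g`. -/
lemma exists_tmulG_eq_smul {g g' : A} (hg : g ∈ 𝒜 1) (hg' : g' ∈ 𝒜 1) {V : (Proj 𝒜).Opens}
    (hV : ∀ x : ProjectiveSpectrum 𝒜, x ∈ V → g ∉ x.asHomogeneousIdeal) :
    ∃ r : Γ(Proj 𝒜, V), ∀ (a b : ℤ) (h : b = a + 1) (t : Γ(tw F a, V)),
      (tmulG F hg' a b h).app V t = r • (tmulG F hg a b h).app V t := by
  obtain ⟨r, hr⟩ := exists_mulG_eq_smul hg hg' hV
  refine ⟨r, fun a b h t => ?_⟩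
  have ga := tmulSec_bijective (M := F) (le_refl V) (gen_pwSec (N := a) hg a (by simp) hV)
  simp only [res_self] at ga
  obtain ⟨y, rfl⟩ := ga.2 t
  change (tmulG F hg' a b h).app V (tmulSec _ _) = r • (tmulG F hg a b h).app V (tmulSec _ _)
  rw [tmulG_tmulSec, tmulG_tmulSec, hr a b h, tmulSec_smul_right]

/-- The section `1` of `O(0)`. -/
noncomputable def oneSec (U : (Proj 𝒜).Opens) : Γ(Twist.twist 𝒜 0, U) :=
  fracGen (e := 0) (e' := 0) (SetLike.GradedOne.one_mem : (1 : A) ∈ 𝒜 0)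
    (SetLike.GradedOne.one_mem : (1 : A) ∈ 𝒜 0) (n := 0) (by simp) U fun x _ => notMem_one x

lemma gen_oneSec (U : (Proj 𝒜).Opens) : Gen (Twist.twist 𝒜 0) U (oneSec U) :=
  gen_fracGen _ _ _ U _ fun x _ => notMem_one x

/-- Tensoring with `1 ∈ O(0)` is bijective on sections. -/
theorem tmulSec_oneSec_bijective (U : (Proj 𝒜).Opens) :
    Function.Bijective fun y : Γ(F, U) => (tmulSec y (oneSec U) : Γ(tw F 0, U)) := by
  have := tmulSec_bijective (M := F) (le_refl U) (gen_oneSec (𝒜 := 𝒜) U)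
  simp only [res_self] at this
  exact this

end Groth.Variety2.Reg
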