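import Groth.Prelude.Def_Curv2
import Groth.Agent.PnCoh.Finite
import Groth.Agent.PnCoh.VanishingClosed
import Groth.Agent.RefRank.Divisor
import Groth.Agent.Variety2.Reg.Mult
import Groth.Agent.Variety2.Reg.Cohom

/-!
# Castelnuovo–Mumford regularity on projective space
-/

universe u

open CategoryTheory CategoryTheory.Limits AlgebraicGeometry Opposite TopologicalSpace
open Groth.PicAux Groth.Ega2Proj

namespace Groth.Variety2.Reg

variable (n : ℕ) (k : Type u) [Field k]

/-- The grading ideal of projective space is generated in degree one. -/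
theorem gen_one : (HomogeneousIdeal.irrelevant (CohB1.polyGrading n k)).toIdeal ≤
    Ideal.span ((CohB1.polyGrading n k) 1 : Set (MvPolynomial (Fin (n + 1)) k)) :=
  (PnCoh.irrelevant_le_span_X n k).trans (Ideal.span_mono (by
    rintro _ ⟨j, rfl⟩
    exact (MvPolynomial.mem_homogeneousSubmodule _ _).mpr (MvPolynomial.isHomogeneous_X k _)))

lemma X_mem (i : Fin (n + 1)) :
    (MvPolynomial.X i : MvPolynomial (Fin (n + 1)) k) ∈ CohB1.polyGrading n k 1 :=
  (MvPolynomial.mem_homogeneousSubmodule _ _).mpr (MvPolynomial.isHomogeneous_X k _)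

variable {n k} (F : (CohB1.ProjSpace n k).Modules)

/-- `F(a) = F ⊗ O(a)` on projective space. -/
noncomputable abbrev fT (a : ℤ) : (CohB1.ProjSpace n k).Modules :=
  CohB1.tensorMod F (Twist.twistProjSpace n k a)

/-- Multiplication by the `t`-th coordinate (indices taken modulo `n + 1`). -/
noncomputable def coord (t : ℕ) (a b : ℤ) (h : b = a + 1) : fT F a ⟶ fT F b :=
  tmulG (𝒜 := CohB1.polyGrading n k) F (X_mem n k (Fin.ofNat (n + 1) t)) a b h

lemma coord_comm (t t' : ℕ) (a b b' c : ℤ) (hab : b = a + 1) (hab' : b' = a + 1) (hbc : c = b + 1)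
    (hbc' : c = b' + 1) :
    coord F t a b hab ≫ coord F t' b c hbc = coord F t' a b' hab' ≫ coord F t b' c hbc' :=
  tmulG_comm (𝒜 := CohB1.polyGrading n k) F _ _ a b b' c hab hab' hbc hbc'

/-- A morphism bijective on the small sections around a point is bijective on the stalk. -/
lemma stalk_bijective {X : Scheme.{u}} {M N : X.Modules} (φ : M ⟶ N) {x : X} {V : X.Opens} (hxV : x ∈ V)
    (h : ∀ W ≤ V, Function.Bijective (φ.app W)) : Function.Bijective ((QCohMod.stalk x).map φ) := by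
  refine ⟨?_, fun t => ?_⟩
  · refine (injective_iff_map_eq_zero _).mpr fun t ht => ?_
    obtain ⟨W, hW, m, rfl⟩ := QCohMod.exists_germ M x t
    have e : QCohMod.germ N x hW (φ.app W m) = QCohMod.germ N x hW 0 := by
      rw [map_zero]
      exact (QCohMod.stalk_map_germ φ x hW m).symm.trans ht
    obtain ⟨W', hxW', i₁, i₂, e'⟩ := TopCat.Presheaf.germ_eq N.presheaf x hW hW _ _ e
    have hWle : W' ⊓ V ≤ W := inf_le_left.trans i₁.le
    have h0 : res M hWle m = 0 := by
      refine (h (W' ⊓ V) inf_le_right).1 ?_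
      rw [app_res, map_zero]
      have e'' : res N i₁.le (φ.app W m) = 0 := e'.trans (map_zero _)
      rw [← res_res (M := N) i₁.le (inf_le_left : W' ⊓ V ≤ W'), e'']
      exact map_zero _
    rw [← QCohMod.germ_res M hWle x ⟨hxW', hxV⟩ m]
    exact (congrArg _ h0).trans (map_zero _)
  · obtain ⟨W, hW, m, rfl⟩ := QCohMod.exists_germ N x t
    obtain ⟨p, hp⟩ := (h (W ⊓ V) inf_le_right).2 (res N inf_le_left m)
    refine ⟨QCohMod.germ M x (⟨hW, hxV⟩ : x ∈ W ⊓ V) p, (QCohMod.stalk_map_germ φ x _ p).trans ?_⟩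
    rw [hp]
    exact QCohMod.germ_res N inf_le_left x _ m

lemma coord_bijective (x : CohB1.ProjSpace n k) :
    ∃ i < n + 1, ∀ (a b : ℤ) (h : b = a + 1),
      Function.Bijective ((QCohMod.stalk x).map (coord F i a b h)) := by
  obtain ⟨i, hi⟩ := Opens.mem_iSup.mp ((PnCoh.isAcyclicCover_stdOpen n k).cover.ge
    (show x ∈ (⊤ : (CohB1.ProjSpace n k).Opens) from trivial))
  refine ⟨i.down, i.down.isLt, fun a b h => stalk_bijective _ hi fun W hW => ?_⟩
  refine tmulG_bijective (𝒜 := CohB1.polyGrading n k) F _ a b h fun y hy => ?_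
  rw [show Fin.ofNat (n + 1) (i.down : ℕ) = i.down from Fin.ext (Nat.mod_eq_of_lt i.down.isLt)]
  exact hW hy

/-- If `H^(q+j)(F(a-1-j)) = 0` for every `j`, then `H^q(F(a)) = 0`. -/
theorem subsingleton_step (q : ℕ) (a : ℤ)
    (h : ∀ j : ℕ, Subsingleton (Coh.HH _ (fT F (a - 1 - j)) (q + j))) :
    Subsingleton (Coh.HH _ (fT F a) q) :=
  subsingleton_of_kosz (G := fun a => fT F a) (coord F) (n + 1) (coord_comm F) (coord_bijective F) k
    q a h

/-- If `H^j(F(a-1-j)) = 0` for every `j ≥ 1`, every section of `F(a)` is a combination of products of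
coordinates with sections of `F(a-1)`. -/
theorem induction_step (a : ℤ)
    (h : ∀ j : ℕ, 1 ≤ j → Subsingleton (Coh.HH _ (fT F (a - 1 - j)) j))
    (P : Γ(fT F a, ⊤) → Prop) (P0 : P 0) (Padd : ∀ u v, P u → P v → P (u + v))
    (Pop : ∀ (t : ℕ) (v : Γ(fT F (a - 1), ⊤)), P ((coord F t (a - 1) a (by omega)).app ⊤ v))
    (z : Γ(fT F a, ⊤)) : P z :=
  exists_sum_of_kosz (G := fun a => fT F a) (coord F) (n + 1) (coord_comm F) (coord_bijective F) k a h
    P P0 Padd (fun t _ v => Pop t v) z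

/-! ## Twists -/

lemma isInvertible_tw (a : ℤ) : PicF.IsInvertible (Twist.twistProjSpace n k a) :=
  PnCoh.isInvertible_twist n k a

lemma isQCoh_fT [F.IsQuasicoherent] (a : ℤ) : (fT F a).IsQuasicoherent := by
  haveI : (Twist.twistProjSpace n k a).IsQuasicoherent := PnCoh.isQCoh_twist n k a
  exact QCohMod.isQCoh_tensorMod

lemma isCoh_fT (hF : Coh.IsCoh F) (a : ℤ) : Coh.IsCoh (fT F a) :=
  RefRank.isCoh_tensorMod hF (PnCoh.isCoh_twist n k a)

theorem nonempty_twist_twist (a b c : ℤ) (h : a + b = c) : Nonempty (fT (fT F a) b ≅ fT F c) := by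
  subst h
  obtain ⟨e⟩ := Ega2Proj.nonempty_tensor_iso (gen_one n k) a b
  exact ⟨(exists_associator F _ _).choose ≪≫ PicGrp.tensorModIso (Iso.refl F) e⟩

theorem nonempty_twist_zero : Nonempty (Twist.twistProjSpace n k 0 ≅ Coh.structureModule _) := by
  obtain ⟨e, -⟩ := exists_iso_of_gen (X := Proj (CohB1.polyGrading n k))
    (U := fun _ : Unit => (⊤ : (Proj (CohB1.polyGrading n k)).Opens))
    (M := Coh.structureModule (Proj (CohB1.polyGrading n k)))
    (L := Twist.twist (CohB1.polyGrading n k) 0)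
    (by simp) (fun _ => Reg.oneSec (𝒜 := CohB1.polyGrading n k) ⊤) (fun _ => Reg.gen_oneSec _)
    (fun _ => PicAux.oneSec _ ⊤) (fun _ => PicAux.gen_oneSec _) (fun _ _ r hr => by
      have hr' : r = 1 := (Reg.gen_oneSec (𝒜 := CohB1.polyGrading n k) ⊤).smul_inj le_top
        (hr.symm.trans (one_smul _ _).symm)
      subst hr'
      exact (one_smul _ _).symm)
  exact ⟨e⟩

theorem nonempty_fT_zero : Nonempty (fT F 0 ≅ F) :=
  ⟨PicGrp.tensorModIso (Iso.refl F) nonempty_twist_zero.some ≪≫ SecTwist.unitorR F⟩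

lemma subsingleton_twist_twist {a b c : ℤ} (h : a + b = c) {q : ℕ}
    (hq : Subsingleton (Coh.HH _ (fT F c) q)) : Subsingleton (Coh.HH _ (fT (fT F a) b) q) :=
  subsingleton_of_iso k (nonempty_twist_twist F a b c h).some.symm hq

lemma subsingleton_fT_of_lt [F.IsQuasicoherent] (a : ℤ) {q : ℕ} (hq : n < q) :
    Subsingleton (Coh.HH _ (fT F a) q) := by
  haveI : Coh.IsQCoh (fT F a) := isQCoh_fT F a
  exact PnCoh.subsingleton_HH_of_lt n k (fT F a) hq

/-- A twisted short exact sequence. -/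
lemma shortExact_fT {S : ShortComplex (CohB1.ProjSpace n k).Modules} (hS : S.ShortExact) (a : ℤ) :
    (S.map (DCoh.tensorRightMod (Twist.twistProjSpace n k a))).ShortExact :=
  shortExact_tensorRightMod (isInvertible_tw a) hS

/-! ## Regularity -/

/-- An `m`-regular module has no `H^q(F(r))` for `q ≥ 1` and `r ≥ m - q`. -/
theorem vanish_of_mReg [F.IsQuasicoherent] {m : ℤ} (h : Curv2.IsMRegular k n F m) {q : ℕ} (hq : 1 ≤ q)
    {r : ℤ} (hr : m - q ≤ r) : Subsingleton (Coh.HH _ (fT F r) q) := by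
  suffices H : ∀ (e q : ℕ), 1 ≤ q → Subsingleton (Coh.HH _ (fT F (m - q + e)) q) by
    have := H (r - (m - q)).toNat q hq
    rwa [Int.toNat_of_nonneg (by omega), add_sub_cancel] at this
  intro e
  induction e with
  | zero =>
    intro q hq
    rw [Nat.cast_zero, add_zero]
    rcases le_or_gt q n with hn | hn
    · exact h q hq hn
    · exact subsingleton_fT_of_lt F _ hn
  | succ e ih =>
    intro q hq
    refine subsingleton_step F q _ fun j => ?_
    have := ih (q + j) (by omega)
    rwa [show m - ((q + j : ℕ) : ℤ) + (e : ℤ) = m - (q : ℤ) + ((e + 1 : ℕ) : ℤ) - 1 - (j : ℤ) by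
      push_cast; ring] at this

theorem mReg_of_le [F.IsQuasicoherent] {m m' : ℤ} (h : Curv2.IsMRegular k n F m) (hm : m ≤ m') :
    Curv2.IsMRegular k n F m' :=
  fun i hi _ => vanish_of_mReg F h hi (by omega)

end Groth.Variety2.Reg
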