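import Groth.Agent.PnCoh.TwistQuot
import Groth.Agent.PicAux.GenLocusAffine
import Groth.Agent.Variety2.Reg.Pn

/-!
# Surjectivity of multiplication and generation by global sections
-/

universe u

open CategoryTheory CategoryTheory.Limits AlgebraicGeometry Opposite TopologicalSpace
open Groth.PicAux Groth.Ega2Proj

namespace Groth.Variety2.Reg

variable {n : ℕ} {k : Type u} [Field k]

/-! ## Multiplication of sections -/

section Mult

variable (M : (CohB1.ProjSpace n k).Modules)

/-- The subgroup of sections of `M(e)` which are sums of products `y ⊗ s`. -/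
noncomputable def prods (e : ℤ) : AddSubgroup Γ(fT M e, ⊤) :=
  (ptenUnit M (Twist.twistProjSpace n k e) ⊤).range

lemma tmulSec_mem_prods {e : ℤ} (y : Γ(M, ⊤)) (s : Γ(Twist.twistProjSpace n k e, ⊤)) :
    (tmulSec y s : Γ(fT M e, ⊤)) ∈ prods M e :=
  ⟨_, rfl⟩

lemma coord_mem_prods (t : ℕ) {a b : ℤ} (h : b = a + 1) {v : Γ(fT M a, ⊤)} (hv : v ∈ prods M a) :
    (coord M t a b h).app ⊤ v ∈ prods M b := by
  obtain ⟨p, rfl⟩ := hv
  induction p using TensorProduct.induction_on with
  | zero => rw [map_zero, map_zero]; exact zero_mem _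
  | tmul y s =>
    exact ⟨y ⊗ₜ (mulG (𝒜 := CohB1.polyGrading n k) (X_mem n k (Fin.ofNat (n + 1) t)) a b h).app ⊤ s,
      (tmulG_tmulSec (𝒜 := CohB1.polyGrading n k) M _ h y s).symm⟩
  | add p q hp hq => rw [map_add, map_add]; exact add_mem hp hq

/-- If `H^j(M(e'-1-j)) = 0` for all `j ≥ 1` and `e' ≥ 1`, sections of `M(e)` are generated by
products. -/
theorem prods_eq_top
    (h : ∀ (e j : ℕ), 1 ≤ j → Subsingleton (Coh.HH _ (fT M ((e : ℤ) - j)) j)) :
    ∀ (e : ℕ), prods M e = ⊤ := by
  intro e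
  induction e with
  | zero =>
    refine eq_top_iff.mpr fun z _ => ?_
    obtain ⟨y, rfl⟩ := (tmulSec_oneSec_bijective (𝒜 := CohB1.polyGrading n k) M ⊤).2 z
    exact ⟨_, rfl⟩
  | succ e ih =>
    refine eq_top_iff.mpr fun z _ => ?_
    refine induction_step M ((e + 1 : ℕ) : ℤ) (fun j hj => ?_) (· ∈ prods M _) (zero_mem _)
      (fun u v => add_mem) (fun t v => coord_mem_prods M t _ ?_) z
    · rw [show ((e + 1 : ℕ) : ℤ) - 1 - (j : ℤ) = (e : ℤ) - j by omega]
      exact h e j hj
    · revert v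
      rw [show ((e + 1 : ℕ) : ℤ) - 1 = (e : ℤ) by omega, ih]
      exact fun v => AddSubgroup.mem_top v

/-- Multiplication `H⁰(F(d)) ⊗ H⁰(O(e)) → H⁰(F(d+e))` is onto for an `m`-regular `F` and `d ≥ m`. -/
theorem prods_fT_eq_top (F : (CohB1.ProjSpace n k).Modules) [F.IsQuasicoherent] {m d : ℤ} (hd : m ≤ d)
    (h : Curv2.IsMRegular k n F m) (e : ℕ) : prods (fT F d) e = ⊤ :=
  prods_eq_top _ (fun e j hj =>
    subsingleton_twist_twist F rfl (vanish_of_mReg F h hj (by omega))) e

theorem surjective_toSheafify (F : (CohB1.ProjSpace n k).Modules) [F.IsQuasicoherent] {m d : ℤ}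
    (hd : m ≤ d) (h : Curv2.IsMRegular k n F m) (e : ℕ) :
    Function.Surjective ((toSheafify (Opens.grothendieckTopology (CohB1.ProjSpace n k))
      (CohB1.tensorPre (CohB1.tensorMod F (Twist.twistProjSpace n k d))
        (Twist.twistProjSpace n k (e : ℤ))).presheaf).app (Opposite.op ⊤)) := fun z => by
  have hz : (show Γ(fT (fT F d) (e : ℤ), ⊤) from z) ∈ prods (fT F d) (e : ℤ) := by
    rw [prods_fT_eq_top F hd h e]
    exact AddSubgroup.mem_top _
  exact hz

end Mult

/-! ## Generation by global sections -/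

/-- Morphisms out of `M` are determined by their values on global sections. -/
def DetByGlobal {X : Scheme.{u}} (M : X.Modules) : Prop :=
  ∀ ⦃Z : X.Modules⦄ (φ ψ : M ⟶ Z), (∀ t, φ.app ⊤ t = ψ.app ⊤ t) → φ = ψ

theorem DetByGlobal.isGloballyGenerated {X : Scheme.{u}} {M : X.Modules} (h : DetByGlobal M) :
    Curv2.IsGloballyGenerated M := by
  refine ⟨Γ(M, ⊤), Sigma.desc fun t => homOfSection t, ⟨fun {Z} φ ψ he => h φ ψ fun t => ?_⟩⟩
  have h1 : homOfSection t ≫ φ = homOfSection t ≫ ψ :=
    ((Sigma.ι_desc_assoc (fun t : Γ(M, ⊤) => homOfSection t) t φ).symm.trans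
      (congrArg (Sigma.ι (fun _ : Γ(M, ⊤) => Coh.structureModule X) t ≫ ·) he)).trans
        (Sigma.ι_desc_assoc (fun t : Γ(M, ⊤) => homOfSection t) t ψ)
  have h2 := congr(($h1).app ⊤ (PicAux.oneSec X ⊤))
  simp only [Scheme.Modules.Hom.comp_app, ConcreteCategory.comp_apply, homOfSection_one] at h2
  exact h2

theorem DetByGlobal.of_iso {X : Scheme.{u}} {M N : X.Modules} (h : DetByGlobal M) (e : M ≅ N) :
    DetByGlobal N := fun Z φ ψ he => by
  rw [← cancel_epi e.hom]
  exact h _ _ fun t => by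
    simp only [Scheme.Modules.Hom.comp_app, ConcreteCategory.comp_apply]
    exact he _

/-- `O(e)` is generated by global sections for `e ≥ 0`. -/
theorem detByGlobal_twist (e : ℕ) : DetByGlobal (Twist.twistProjSpace n k (e : ℤ)) := by
  intro Z φ ψ h
  have hX : ∀ i : Fin (n + 1), (MvPolynomial.X i : MvPolynomial (Fin (n + 1)) k) ^ e ∈
      CohB1.polyGrading n k e := fun i => by
    simpa using SetLike.pow_mem_graded e (X_mem n k i)
  let U : Fin (n + 1) → (Proj (CohB1.polyGrading n k)).Opens := fun i =>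
    Proj.basicOpen (CohB1.polyGrading n k) (MvPolynomial.X i)
  let g : ∀ i, Γ(Twist.twist (CohB1.polyGrading n k) (e : ℤ), (⊤ : (Proj (CohB1.polyGrading n k)).Opens)) :=
    fun i => fracGen (e' := 0) (hX i) (SetLike.GradedOne.one_mem : (1 : MvPolynomial (Fin (n + 1)) k) ∈ _)
      (by simp) ⊤ fun x _ => notMem_one x
  refine hom_ext_gen (X := Proj (CohB1.polyGrading n k)) (U := U) ?_
    (fun i => fracGen (e' := 0) (hX i)
      (SetLike.GradedOne.one_mem : (1 : MvPolynomial (Fin (n + 1)) k) ∈ _)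
      (by simp) (U i) fun x _ => notMem_one x)
    (fun i => gen_fracGen _ _ _ (U i) _ fun x hx hc => hx (x.isPrime.mem_of_pow_mem e hc)) fun i => ?_
  · refine top_le_iff.1 fun x _ => ?_
    obtain ⟨i, hi⟩ := Opens.mem_iSup.mp ((PnCoh.isAcyclicCover_stdOpen n k).cover.ge
      (show x ∈ (⊤ : (CohB1.ProjSpace n k).Opens) from trivial))
    exact Opens.mem_iSup.2 ⟨i.down, hi⟩
  · change φ.app (U i) (res _ le_top (g i)) = ψ.app (U i) (res _ le_top (g i))
    rw [app_res, app_res]
    exact congrArg _ (h (g i))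

section Faithful

variable (L : (CohB1.ProjSpace n k).Modules) (hL : PicF.IsInvertible L)

include hL in
lemma tensor_map_injective {A B : (CohB1.ProjSpace n k).Modules} {φ ψ : A ⟶ B}
    (h : (DCoh.tensorRightMod L).map φ = (DCoh.tensorRightMod L).map ψ) : φ = ψ := by
  haveI := isEquivalence_tensorRightMod_of_isInvertible hL
  exact (DCoh.tensorRightMod L).map_injective h

end Faithful

variable (F : (CohB1.ProjSpace n k).Modules)

/-- If `F(a)(1)` is generated by global sections and every such section is a sum of products, then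
`F(a)` is generated by global sections. -/
theorem detByGlobal_down {a : ℤ} (h1 : DetByGlobal (fT (fT F a) 1)) (h2 : prods (fT F a) 1 = ⊤) :
    DetByGlobal (fT F a) := by
  intro Z φ ψ h
  refine tensor_map_injective (Twist.twistProjSpace n k 1) (isInvertible_tw 1) (h1 _ _ fun z => ?_)
  have hz : z ∈ prods (fT F a) 1 := by rw [h2]; exact AddSubgroup.mem_top z
  obtain ⟨p, rfl⟩ := hz
  induction p using TensorProduct.induction_on with
  | zero => rw [map_zero]; exact (map_zero _).trans (map_zero _).symm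
  | tmul y s =>
    refine (tensorRightMod_map_tmulSec _ φ ⊤ y s).trans ?_
    refine Eq.trans ?_ (tensorRightMod_map_tmulSec _ ψ ⊤ y s).symm
    exact congrArg (fun v => (tmulSec v s : Γ(CohB1.tensorMod Z (Twist.twistProjSpace n k 1), ⊤))) (h y)
  | add p q hp hq => rw [map_add, map_add, map_add, hp, hq]

/-- Large twists of a coherent module are generated by global sections. -/
theorem exists_detByGlobal (hF : Coh.IsCoh F) :
    ∃ d₀ : ℤ, ∀ d, d₀ ≤ d → DetByGlobal (fT F d) := by
  obtain ⟨r, d, π, hπ⟩ : ∃ (r : ℕ) (d : Fin r → ℤ)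
      (π : (∐ fun j : Fin r => Twist.twistProjSpace n k (d j)) ⟶ F), Epi π := by
    obtain ⟨r, d, π, -, hπ⟩ := PnCoh.exists_epi_twists (𝒜 := CohB1.polyGrading n k) F hF 0
    exact ⟨r, d, π, hπ⟩
  refine ⟨((Finset.univ : Finset (Fin r)).sup fun j => (d j).natAbs : ℕ), fun e he => ?_⟩
  intro Z φ ψ h
  let L := Twist.twistProjSpace n k e
  haveI := isEquivalence_tensorRightMod_of_isInvertible (L := L) (isInvertible_tw e)
  let T := DCoh.tensorRightMod L
  let i : T.obj (T.objPreimage Z) ≅ Z := T.objObjPreimageIso Z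
  obtain ⟨φ₀, hφ₀⟩ := T.map_surjective (X := F) (Y := T.objPreimage Z) (φ ≫ i.inv)
  obtain ⟨ψ₀, hψ₀⟩ := T.map_surjective (X := F) (Y := T.objPreimage Z) (ψ ≫ i.inv)
  suffices φ₀ = ψ₀ by
    subst this
    exact (cancel_mono i.inv).mp (hφ₀.symm.trans hψ₀)
  refine hπ.left_cancellation _ _ (Sigma.hom_ext _ _ fun j => T.map_injective ?_)
  have hj : 0 ≤ d j + e := by
    have hj' : (d j).natAbs ≤ (Finset.univ : Finset (Fin r)).sup fun j => (d j).natAbs :=
      Finset.le_sup (f := fun j => (d j).natAbs) (Finset.mem_univ j)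
    omega
  obtain ⟨w, hw⟩ : ∃ w : ℕ, d j + e = w := ⟨(d j + e).toNat, by omega⟩
  have hdet : DetByGlobal (T.obj (Twist.twistProjSpace n k (d j))) := by
    refine DetByGlobal.of_iso (detByGlobal_twist w) ?_
    rw [← hw]
    exact (Ega2Proj.nonempty_tensor_iso (gen_one n k) (d j) e).some.symm
  refine hdet _ _ fun t => ?_
  rw [Functor.map_comp, Functor.map_comp, Functor.map_comp, Functor.map_comp, hφ₀, hψ₀]
  simp only [Scheme.Modules.Hom.comp_app, ConcreteCategory.comp_apply]
  exact congrArg _ (h _)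

/-- An `m`-regular coherent module twisted by `d ≥ m` is generated by global sections. -/
theorem detByGlobal_of_mReg (hF : Coh.IsCoh F) {m : ℤ} (h : Curv2.IsMRegular k n F m) {d : ℤ}
    (hd : m ≤ d) : DetByGlobal (fT F d) := by
  haveI := hF.1
  obtain ⟨d₀, hd₀⟩ := exists_detByGlobal F hF
  suffices H : ∀ (e : ℕ) (d : ℤ), m ≤ d → d₀ ≤ d + e → DetByGlobal (fT F d) from
    H (d₀ - d).toNat d hd (by omega)
  intro e
  induction e with
  | zero => exact fun d _ hd' => hd₀ d (by simpa using hd')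
  | succ e ih =>
    intro d hd hd'
    exact detByGlobal_down F ((ih (d + 1) (by omega) (by omega)).of_iso
      (nonempty_twist_twist F d 1 (d + 1) rfl).some.symm) (by simpa using prods_fT_eq_top F hd h 1)

end Groth.Variety2.Reg
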