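import Groth.Agent.Variety2.Reg.Gen
import Groth.Agent.PnCoh.Vanishing

/-!
# Regularity along short exact sequences
-/

universe u

open CategoryTheory CategoryTheory.Limits AlgebraicGeometry Opposite TopologicalSpace
open Groth.PicAux Groth.Ega2Proj

namespace Groth.Variety2.Reg

variable {n : ℕ} {k : Type u} [Field k]

/-- A module whose identity factors through modules without `H^q` has no `H^q`. -/
lemma subsingleton_of_decomp {X : Scheme.{u}} [X.Over (Spec (CommRingCat.of k))] {ι : Type*} (s : Finset ι)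
    {M : X.Modules} (N : ι → X.Modules) (p : ∀ i, M ⟶ N i) (p' : ∀ i, N i ⟶ M)
    (h : ∑ i ∈ s, p i ≫ p' i = 𝟙 M) {q : ℕ} (hN : ∀ i, Subsingleton (Coh.HH X (N i) q)) :
    Subsingleton (Coh.HH X M q) := by
  let f := X ↘ Spec (CommRingCat.of k)
  change Subsingleton (CohFin.HA f M q)
  refine subsingleton_of_forall_eq 0 fun x => ?_
  rw [← CohFin.mapL_id f M q x, ← h, PnCoh.mapL_sum]
  refine Finset.sum_eq_zero fun i _ => ?_
  rw [CohFin.mapL_comp]
  exact (congrArg _ ((hN i).elim _ 0)).trans (map_zero _)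

/-- Cohomology of twists of finite sums of `O(c)`. -/
lemma subsingleton_fT_sigma (b : ℕ) (c a : ℤ) {q : ℕ}
    (h : Subsingleton (Coh.HH _ (Twist.twistProjSpace n k (c + a)) q)) :
    Subsingleton (Coh.HH _ (fT (∐ fun _ : Fin b => Twist.twistProjSpace n k c) a) q) := by
  let L : Fin b → (CohB1.ProjSpace n k).Modules := fun _ => Twist.twistProjSpace n k c
  let T := DCoh.tensorRightMod (Twist.twistProjSpace n k a)
  haveI := isEquivalence_tensorRightMod_of_isInvertible (isInvertible_tw (n := n) (k := k) a)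
  refine subsingleton_of_decomp (k := k) Finset.univ (fun i => T.obj (L i))
    (fun i => T.map (PnCoh.sigmaProj L i)) (fun i => T.map (Sigma.ι L i)) ?_ fun _ => ?_
  · simp only [← T.map_comp]
    haveI : T.Additive := DCoh.additive_tensorRightMod _
    rw [← Functor.map_sum, PnCoh.sigmaProj_total]
    exact T.map_id _
  · obtain ⟨e⟩ := Ega2Proj.nonempty_tensor_iso (gen_one n k) c a
    exact subsingleton_of_iso (X := CohB1.ProjSpace n k) k e.symm h

/-- The scalar action of the ground field on global sections. -/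
lemma app_top_smul_closed {M N : (CohB1.ProjSpace n k).Modules} (φ : M ⟶ N)
    (r : Γ(CohB1.ProjSpace n k, ⊤)) {t : Γ(N, ⊤)} (ht : ∃ s, φ.app ⊤ s = t) :
    ∃ s, φ.app ⊤ s = r • t := by
  obtain ⟨s, rfl⟩ := ht
  exact ⟨r • s, Scheme.Modules.Hom.app_smul φ r s⟩

/-- Global sections of a coherent module are spanned by finitely many over the functions. -/
lemma exists_top_span (M : (CohB1.ProjSpace n k).Modules) (hM : Coh.IsCoh M) :
    ∃ (b : ℕ) (t : Fin b → Γ(M, ⊤)), ∀ P : Γ(M, ⊤) → Prop, P 0 → (∀ u v, P u → P v → P (u + v)) →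
      (∀ (r : Γ(CohB1.ProjSpace n k, ⊤)) v, P v → P (r • v)) → (∀ l, P (t l)) → ∀ v, P v := by
  let f := (CohB1.ProjSpace n k) ↘ Spec (CommRingCat.of k)
  have hfin : Module.Finite k (CohFin.HA f M 0) := PnCoh.hFin_projSpace n k M hM 0
  obtain ⟨b, s, hs⟩ := Module.Finite.exists_fin (R := k) (M := CohFin.HA f M 0)
  refine ⟨b, fun l => CohFin.equivSections f M (s l), fun P P0 Padd Psmul Pt v => ?_⟩
  obtain ⟨x, rfl⟩ := (CohFin.equivSections f M).surjective v
  have hx : x ∈ Submodule.span k (Set.range s) := hs ▸ Submodule.mem_top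
  induction hx using Submodule.span_induction with
  | mem y hy => obtain ⟨l, rfl⟩ := hy; exact Pt l
  | zero => rw [map_zero]; exact P0
  | add u v _ _ hu hv => rw [map_add]; exact Padd _ _ hu hv
  | smul a u _ hu => rw [CohFin.equivSections_smul]; exact Psmul _ _ hu

/-- An epimorphism from sums of `O(-m)` with `(m+1)`-regular kernel forces `m`-regularity. -/
theorem mReg_of_epi_sigma {F : (CohB1.ProjSpace n k).Modules} {m : ℤ} {b : ℕ}
    (φ : (∐ fun _ : Fin b => Twist.twistProjSpace n k (-m)) ⟶ F) [Epi φ] [F.IsQuasicoherent]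
    (hK : Curv2.IsMRegular k n (kernel φ) (m + 1)) : Curv2.IsMRegular k n F m := by
  intro i hi hin
  refine subsingleton_right k (shortExact_fT (kernel_shortExact φ) (m - i))
    (subsingleton_fT_sigma b (-m) (m - i)
      (PnCoh.subsingleton_HH_twist _ i (fun h => by omega) fun h => by omega)) ?_
  rcases le_or_gt (i + 1) n with hin' | hin'
  · have := hK (i + 1) (by omega) hin'
    rwa [show m + 1 - ((i + 1 : ℕ) : ℤ) = m - i by push_cast; ring] at this
  · haveI : Coh.IsCoh (∐ fun _ : Fin b => Twist.twistProjSpace n k (-m)) :=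
      PnCoh.isCoh_sigma _ fun _ => PnCoh.isCoh_twist n k _
    have hsc := this
    haveI : IsLocallyNoetherian (CohB1.ProjSpace n k) := PnCoh.isLocallyNoetherian_projSpace n k
    haveI : (kernel φ).IsQuasicoherent := (QCohMod.isCoh_kernel φ hsc).1
    exact subsingleton_fT_of_lt (kernel φ) _ hin'

/-- An `m`-regular coherent module is a quotient of sums of `O(-m)` with `(m+1)`-regular kernel. -/
theorem exists_epi_sigma_of_mReg {F : (CohB1.ProjSpace n k).Modules} (hF : Coh.IsCoh F) {m : ℤ}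
    (h : Curv2.IsMRegular k n F m) :
    ∃ (b : ℕ) (φ : (∐ fun _ : Fin b => Twist.twistProjSpace n k (-m)) ⟶ F),
      Epi φ ∧ Curv2.IsMRegular k n (kernel φ) (m + 1) := by
  haveI := hF.1
  let T := DCoh.tensorRightMod (Twist.twistProjSpace n k m)
  haveI := isEquivalence_tensorRightMod_of_isInvertible (isInvertible_tw (n := n) (k := k) m)
  obtain ⟨b, t, ht⟩ := exists_top_span (fT F m) (isCoh_fT F hF m)
  obtain ⟨e⟩ : Nonempty (T.obj (Twist.twistProjSpace n k (-m)) ≅ Coh.structureModule _) := by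
    obtain ⟨e⟩ := Ega2Proj.nonempty_tensor_iso (gen_one n k) (-m) m
    exact ⟨e ≪≫ eqToIso (congrArg (Twist.twist (CohB1.polyGrading n k)) (neg_add_cancel m)) ≪≫ nonempty_twist_zero.some⟩
  choose c hc using fun l => T.map_surjective (X := Twist.twistProjSpace n k (-m)) (Y := F)
    (e.hom ≫ homOfSection (t l))
  let φ := Sigma.desc c
  let S := fun _ : Fin b => Twist.twistProjSpace n k (-m)
  have hhit : ∀ v : Γ(fT F m, ⊤), ∃ s, (T.map φ).app ⊤ s = v := by
    refine ht _ ⟨0, map_zero _⟩ (fun u v hu hv => ?_) (fun r v hv => app_top_smul_closed _ r hv) fun l => ?_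
    · obtain ⟨p, rfl⟩ := hu
      obtain ⟨q, rfl⟩ := hv
      exact ⟨p + q, map_add _ _ _⟩
    · refine ⟨(T.map (Sigma.ι S l)).app ⊤ (e.inv.app ⊤ (PicAux.oneSec _ ⊤)), ?_⟩
      have h1 : e.inv ≫ T.map (Sigma.ι S l) ≫ T.map φ = homOfSection (t l) := by
        rw [← T.map_comp, Sigma.ι_desc, hc, Iso.inv_hom_id_assoc]
        rfl
      exact (congr(($h1).app ⊤ (PicAux.oneSec _ ⊤))).trans (homOfSection_one _)
  have hepi : Epi φ := ⟨fun {Z} ψ ψ' he => by
    refine T.map_injective (detByGlobal_of_mReg F hF h le_rfl _ _ fun v => ?_)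
    obtain ⟨s, rfl⟩ := hhit v
    have h1 : T.map φ ≫ T.map ψ = T.map φ ≫ T.map ψ' := by rw [← T.map_comp, ← T.map_comp, he]
    exact congr(($h1).app ⊤ s)⟩
  refine ⟨b, φ, hepi, fun i hi hin => ?_⟩
  haveI := hepi
  obtain ⟨i, rfl⟩ : ∃ i', i = i' + 1 := ⟨i - 1, by omega⟩
  rw [show m + 1 - ((i + 1 : ℕ) : ℤ) = m - i by push_cast; ring]
  have hsig : Subsingleton (Coh.HH _ (fT (∐ S) (m - i)) (i + 1)) :=
    subsingleton_fT_sigma b (-m) (m - i)
      (PnCoh.subsingleton_HH_twist _ (i + 1) (fun h => by omega) fun h => by omega)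
  cases i with
  | zero =>
    refine subsingleton_one_of_surjective k (shortExact_fT (kernel_shortExact φ) (m - (0 : ℕ))) ?_ hsig
    rw [Nat.cast_zero, sub_zero]
    exact hhit
  | succ i =>
    exact subsingleton_left k (shortExact_fT (kernel_shortExact φ) (m - (i + 1 : ℕ)))
      (vanish_of_mReg F h (by omega) le_rfl) hsig

/-- The twists of a sequence `0 → F(-1) → F → G → 0` give sequences `0 → F(j-1) → F(j) → G(j) → 0`. -/
theorem cokernel_twist_facts {F : (CohB1.ProjSpace n k).Modules} (hF : Coh.IsCoh F)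
    (ι : CohB1.tensorMod F (Twist.twistProjSpace n k (-1)) ⟶ F) [Mono ι] {m : ℤ}
    (hG : Curv2.IsMRegular k n (cokernel ι) m) :
    (∀ (i : ℕ) (j : ℤ), 2 ≤ i → m - i ≤ j → Subsingleton (Coh.HH _ (fT F j) i)) ∧
    (∀ j : ℤ, m - 1 ≤ j → Module.finrank k (Coh.HH _ (fT F j) 1) ≤
      Module.finrank k (Coh.HH _ (fT F (j - 1)) 1)) ∧
    (∀ j : ℤ, m - 1 + (Module.finrank k (Coh.HH _ (fT F (m - 1)) 1) : ℤ) ≤ j →
      Subsingleton (Coh.HH _ (fT F j) 1)) := by
  haveI := hF.1
  haveI : (fT F (-1)).IsQuasicoherent := isQCoh_fT F (-1)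
  haveI : (cokernel ι).IsQuasicoherent := (QCohMod.isCoh_cokernel ι hF).1
  obtain ⟨d₀, hd₀⟩ := PnCoh.exists_subsingleton_twistBy n k F hF
  have hser : ∀ d, d₀ ≤ d → ∀ q, 0 < q → Subsingleton (Coh.HH _ (fT F d) q) := hd₀
  let T := fun j : ℤ => DCoh.tensorRightMod (Twist.twistProjSpace n k j)
  have hS := fun j => shortExact_fT (cokernel_shortExact ι) j
  have e : ∀ j : ℤ, fT (fT F (-1)) j ≅ fT F (j - 1) := fun j =>
    (nonempty_twist_twist F (-1) j (j - 1) (by ring)).some
  have hGv : ∀ (q : ℕ) (r : ℤ), 1 ≤ q → m - q ≤ r → Subsingleton (Coh.HH _ (fT (cokernel ι) r) q) :=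
    fun q r hq hr => vanish_of_mReg (cokernel ι) hG hq hr
  have hfin : ∀ (j : ℤ) (q : ℕ), Module.Finite k (Coh.HH _ (fT F j) q) := fun j q =>
    PnCoh.hFin_projSpace n k _ (isCoh_fT F hF j) q
  -- (i)
  have hi' : ∀ (e' : ℕ) (i : ℕ) (j : ℤ), 2 ≤ i → m - i ≤ j → d₀ ≤ j + e' →
      Subsingleton (Coh.HH _ (fT F j) i) := by
    intro e'
    induction e' with
    | zero => exact fun i j hi _ hd => hser j (by simpa using hd) i (by omega)
    | succ e' ih =>
      intro i j hi hj hd
      obtain ⟨i, rfl⟩ : ∃ i', i = i' + 1 := ⟨i - 1, by omega⟩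
      have h1 := subsingleton_left k (hS (j + 1)) (q := i) (hGv i (j + 1) (by omega) (by omega))
        (ih (i + 1) (j + 1) hi (by omega) (by omega))
      refine subsingleton_of_iso k (e (j + 1) ≪≫ eqToIso ?_) h1
      rw [add_sub_cancel_right]
  have h2 : ∀ (i : ℕ) (j : ℤ), 2 ≤ i → m - i ≤ j → Subsingleton (Coh.HH _ (fT F j) i) := fun i j hi hj =>
    hi' (d₀ - j).toNat i j hi hj (by omega)
  -- (ii)
  let α : ∀ j : ℤ, Coh.HH _ (fT F (j - 1)) 1 →ₗ[k] Coh.HH _ (fT F j) 1 := fun j =>
    (EulerDeg.hMap k ((T j).map ι) 1).comp (EulerDeg.hEquiv k (e j) 1).symm.toLinearMap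
  have hαs : ∀ j, m - 1 ≤ j → Function.Surjective (α j) := fun j hj => by
    have hsurj : Function.Surjective (EulerDeg.hMap k ((T j).map ι) 1) := fun x => by
      have := hGv 1 j le_rfl (by simpa using hj)
      exact (EulerDeg.exact_mid k (hS j) 1 x).mp (this.elim _ _)
    exact hsurj.comp (EulerDeg.hEquiv k (e j) 1).symm.surjective
  have h3 : ∀ j : ℤ, m - 1 ≤ j → Module.finrank k (Coh.HH _ (fT F j) 1) ≤
      Module.finrank k (Coh.HH _ (fT F (j - 1)) 1) := fun j hj => by
    haveI := hfin (j - 1) 1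
    exact LinearMap.finrank_le_finrank_of_surjective (hαs j hj)
  -- (iii)
  let π : ∀ j : ℤ, fT F j ⟶ fT (cokernel ι) j := fun j => (T j).map (cokernel.π ι)
  have hprop : ∀ j : ℤ, m ≤ j → Function.Surjective ((π j).app ⊤) →
      Function.Surjective ((π (j + 1)).app ⊤) := by
    intro j hj hs z
    refine induction_step (cokernel ι) (j + 1) (fun l hl => hGv l _ hl (by omega))
      (fun z => ∃ s, (π (j + 1)).app ⊤ s = z) ⟨0, map_zero _⟩ ?_ ?_ z
    · rintro u v ⟨p, rfl⟩ ⟨q, rfl⟩
      exact ⟨p + q, map_add _ _ _⟩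
    · intro t v
      have hs' : Function.Surjective ((π (j + 1 - 1)).app ⊤) := by rwa [add_sub_cancel_right]
      obtain ⟨s, rfl⟩ := hs' v
      exact ⟨(coord F t (j + 1 - 1) (j + 1) (by omega)).app ⊤ s,
        congr(($(tmulG_natural (𝒜 := CohB1.polyGrading n k) (cokernel.π ι)
          (X_mem n k (Fin.ofNat (n + 1) t)) (j + 1 - 1) (j + 1) (by omega))).app ⊤ s)⟩
  have hinj : ∀ j : ℤ, Function.Surjective ((π j).app ⊤) → Function.Injective (α j) := by
    intro j hs
    have : Function.Injective (EulerDeg.hMap k ((T j).map ι) 1) := by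
      refine (injective_iff_map_eq_zero _).mpr fun x hx => ?_
      obtain ⟨z, rfl⟩ := (EulerDeg.exact_left k (hS j) 0 x).mp hx
      obtain ⟨t, ht⟩ := hs (CohFin.equivSections ((CohB1.ProjSpace n k) ↘ Spec (CommRingCat.of k)) _ z)
      refine (EulerDeg.exact_right k (hS j) 0 z).mpr
        ⟨(CohFin.equivSections ((CohB1.ProjSpace n k) ↘ Spec (CommRingCat.of k)) _).symm t, ?_⟩
      apply (CohFin.equivSections ((CohB1.ProjSpace n k) ↘ Spec (CommRingCat.of k)) _).injective
      refine (CohFin.equivSections_mapL _ ((T j).map (cokernel.π ι)) _).trans ?_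
      exact (congrArg _ (AddEquiv.apply_symm_apply _ t)).trans ht
    exact this.comp (EulerDeg.hEquiv k (e j) 1).symm.injective
  let h : ℤ → ℕ := fun j => Module.finrank k (Coh.HH _ (fT F j) 1)
  have hstep : ∀ j : ℤ, m ≤ j → h j < h (j - 1) ∨ h (j - 1) = 0 := by
    intro j hj
    by_cases hlt : h j < h (j - 1)
    · exact Or.inl hlt
    haveI := hfin (j - 1) 1
    haveI := hfin j 1
    have heq : h (j - 1) = h j := le_antisymm (not_lt.mp hlt) (h3 j (by omega))
    have hbij : Function.Injective (α j) :=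
      (LinearMap.injective_iff_surjective_of_finrank_eq_finrank heq).mpr (hαs j (by omega))
    have hsj : Function.Surjective ((π j).app ⊤) := by
      intro t
      let q := CohFin.equivSections ((CohB1.ProjSpace n k) ↘ Spec (CommRingCat.of k)) (fT (cokernel ι) j)
      have hz : EulerDeg.hDelta k (hS j) 0 (q.symm t) = 0 := by
        have h0 := (EulerDeg.exact_left k (hS j) 0).apply_apply_eq_zero (q.symm t)
        obtain ⟨y, hy⟩ := (EulerDeg.hEquiv k (e j) 1).symm.surjective (EulerDeg.hDelta k (hS j) 0 (q.symm t))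
        have hy0 : α j y = 0 := (congrArg (EulerDeg.hMap k ((T j).map ι) 1) hy).trans h0
        rw [← hy, hbij (hy0.trans (map_zero _).symm), map_zero]
        rfl
      obtain ⟨y, hy⟩ := (EulerDeg.exact_right k (hS j) 0 (q.symm t)).mp hz
      refine ⟨CohFin.equivSections ((CohB1.ProjSpace n k) ↘ Spec (CommRingCat.of k)) _ y, ?_⟩
      rw [← CohFin.equivSections_mapL]
      exact (congrArg q hy).trans (AddEquiv.apply_symm_apply q t)
    have hall : ∀ e' : ℕ, Function.Surjective ((π (j + e')).app ⊤) := by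
      intro e'
      induction e' with
      | zero =>
        rw [Nat.cast_zero, add_zero]
        exact hsj
      | succ e' ih =>
        rw [Nat.cast_succ, ← add_assoc]
        exact hprop _ (by omega) ih
    have hconst : ∀ e' : ℕ, h (j + e') = h (j - 1) := by
      intro e'
      induction e' with
      | zero => rw [Nat.cast_zero, add_zero, heq]
      | succ e' ih =>
        haveI := hfin (j + ((e' + 1 : ℕ) : ℤ) - 1) 1
        haveI := hfin (j + ((e' + 1 : ℕ) : ℤ)) 1
        rw [← ih]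
        refine (LinearEquiv.ofBijective (α (j + ((e' + 1 : ℕ) : ℤ)))
          ⟨hinj _ (hall _), hαs _ (by omega)⟩).finrank_eq.symm.trans ?_
        exact congrArg h (by push_cast; ring)
    refine Or.inr ?_
    rw [← hconst (d₀ - j).toNat]
    haveI := hser (j + ((d₀ - j).toNat : ℤ)) (by omega) 1 one_pos
    exact Module.finrank_zero_of_subsingleton
  have hbound : ∀ e' : ℕ, h (m - 1 + e') ≤ h (m - 1) - e' := by
    intro e'
    induction e' with
    | zero => simp
    | succ e' ih =>
      have hj : m - 1 + ((e' + 1 : ℕ) : ℤ) - 1 = m - 1 + e' := by push_cast; ring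
      rcases hstep (m - 1 + ((e' + 1 : ℕ) : ℤ)) (by omega) with h' | h'
      · rw [hj] at h'; omega
      · have := h3 (m - 1 + ((e' + 1 : ℕ) : ℤ)) (by omega)
        rw [hj] at h'
        change h _ ≤ _ at this
        rw [hj] at this
        have : h (m - 1 + ((e' + 1 : ℕ) : ℤ)) ≤ h (m - 1 + e') := this
        omega
  refine ⟨h2, h3, fun j hj => ?_⟩
  haveI := hfin j 1
  have hj' := hbound (j - (m - 1)).toNat
  have hje : m - 1 + ((j - (m - 1)).toNat : ℤ) = j := by omega
  rw [hje] at hj'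
  have hhm : (h (m - 1) : ℤ) ≤ j - (m - 1) := by
    change m - 1 + (h (m - 1) : ℤ) ≤ j at hj
    omega
  exact Module.finrank_zero_iff.mp (show h j = 0 by omega)

end Groth.Variety2.Reg
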