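import Groth.Prelude.Def_Pic13
import Groth.Agent.PnCoh.VanishingClosed
import Groth.Agent.CohTwo.PushClosed
import Groth.Agent.Variety2.Reg.Seq

/-!
# Regularity on closed subschemes of projective space
-/

universe u

open CategoryTheory CategoryTheory.Limits AlgebraicGeometry Opposite TopologicalSpace
open Groth.PicAux

namespace Groth.Variety2.Reg

variable {n : ℕ} {k : Type u} [Field k] {X : Scheme.{u}} (i : X ⟶ CohB1.ProjSpace n k)
  [IsClosedImmersion i] (F : X.Modules)

/-- The direct image to projective space. -/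
noncomputable abbrev pF : (CohB1.ProjSpace n k).Modules := (Scheme.Modules.pushforward i).obj F

lemma isCoh_pF (hF : Coh.IsCoh F) : Coh.IsCoh (pF i F) :=
  haveI := PnCoh.isLocallyNoetherian_projSpace n k
  Groth.CohTwo.isCoh_push i hF

lemma subsingleton_twistOn_iff [F.IsQuasicoherent] (d : ℤ) (q : ℕ) :
    Subsingleton (Coh.HH X (Pic13.twistOn k i F d) q) ↔
      Subsingleton (Coh.HH _ (fT (pF i F) d) q) := by
  obtain ⟨e⟩ := PnCoh.nonempty_linearEquiv_push_twist n k i F d q
  exact ⟨fun h => (@Equiv.subsingleton _ _ e.toEquiv h :), fun h => (@Equiv.subsingleton _ _ e.symm.toEquiv h :)⟩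

lemma mReg_pF [F.IsQuasicoherent] {m : ℤ} (h : Pic13.IsMRegular k i F m) :
    Curv2.IsMRegular k n (pF i F) m :=
  fun q hq _ => (subsingleton_twistOn_iff i F _ q).mp (h q hq)

lemma mReg_of_pF (hF : Coh.IsCoh F) {m m' : ℤ} (h : Curv2.IsMRegular k n (pF i F) m) (hm : m ≤ m') :
    Pic13.IsMRegular k i F m' := by
  haveI := hF.1
  haveI := (isCoh_pF i F hF).1
  exact fun q hq => (subsingleton_twistOn_iff i F _ q).mpr (vanish_of_mReg _ h hq (by omega))

/-- Morphisms out of a twist are determined by global sections if this holds on projective space. -/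
lemma detByGlobal_twistOn (d : ℤ) (h : DetByGlobal (fT (pF i F) d)) :
    DetByGlobal (Pic13.twistOn k i F d) := by
  intro Z φ ψ he
  obtain ⟨θ, -⟩ := PnCoh.exists_projectionFormula i F (isInvertible_tw (n := n) (k := k) d)
  have h1 : θ.hom ≫ (Scheme.Modules.pushforward i).map φ = θ.hom ≫ (Scheme.Modules.pushforward i).map ψ :=
    h _ _ fun t => he _
  have h2 := (cancel_epi θ.hom).mp h1
  ext U s
  obtain ⟨V, hV⟩ := (i.isClosedEmbedding.isInducing.isOpen_iff).mp U.2
  obtain ⟨W, hU⟩ : ∃ W : (CohB1.ProjSpace n k).Opens, i ⁻¹ᵁ W = U := ⟨⟨V, hV.1⟩, Opens.ext hV.2⟩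
  subst hU
  exact congr(($h2).app W s)

end Groth.Variety2.Reg
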