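import Groth.Agent.EulerDeg.DimOne
import Groth.Agent.CohTwo.SupportLocal
import Groth.Agent.Variety2.Reg.Pn

/-!
# Cohomology of sheaves with support of dimension at most one
-/

universe u

open CategoryTheory CategoryTheory.Limits TopologicalSpace Opposite AlgebraicGeometry

namespace Groth.Variety2.Reg

open Groth.EulerDeg (stalkAb)

section Space

variable {X : TopCat.{u}} [NoetherianSpace X] [T0Space X] [QuasiSober X] {Z : Set X}

omit [NoetherianSpace X] in
lemma eq_of_specializes_of_subset (hZ : IsClosed Z) (hdim : topologicalKrullDim Z ≤ 1) {x y : X}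
    (hy : y ∈ Z) (hx : ¬ IsClosed ({x} : Set X)) (h : y ⤳ x) : y = x := by
  have hxZ : x ∈ Z := h.mem_closed hZ hy
  have : QuasiSober (TopCat.of Z) := hZ.isClosedEmbedding_subtypeVal.quasiSober
  have hx' : ¬ IsClosed ({⟨x, hxZ⟩} : Set (TopCat.of Z)) := fun hc => hx (by
    have := hZ.isClosedEmbedding_subtypeVal.isClosedMap _ hc
    rwa [Set.image_singleton] at this)
  have : T0Space (TopCat.of Z) := inferInstanceAs (T0Space Z)
  exact congrArg Subtype.val (EulerDeg.eq_of_specializes_of_not_isClosed (X := TopCat.of Z) hdim hx'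
    (y := ⟨y, hy⟩) ((Topology.IsInducing.subtypeVal).specializes_iff.mp h))

lemma finite_nonclosed (hZ : IsClosed Z) (hdim : topologicalKrullDim Z ≤ 1) :
    {x : X | x ∈ Z ∧ ¬ IsClosed ({x} : Set X)}.Finite := by
  have : QuasiSober (TopCat.of Z) := hZ.isClosedEmbedding_subtypeVal.quasiSober
  have : T0Space (TopCat.of Z) := inferInstanceAs (T0Space Z)
  have : NoetherianSpace (TopCat.of Z) := (Topology.IsInducing.subtypeVal : Topology.IsInducing
    (Subtype.val : Z → X)).noetherianSpace
  refine ((EulerDeg.finite_not_isClosed (X := TopCat.of Z) hdim).image Subtype.val).subset ?_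
  rintro x ⟨hxZ, hx⟩
  refine ⟨⟨x, hxZ⟩, fun hc => hx ?_, rfl⟩
  have := hZ.isClosedEmbedding_subtypeVal.isClosedMap _ hc
  rwa [Set.image_singleton] at this

/-- Grothendieck vanishing for sheaves supported in dimension at most one. -/
theorem subsingleton_H_of_support (hZ : IsClosed Z) (hdim : topologicalKrullDim Z ≤ 1)
    (F : CohTop.Ab X) (hF : ∀ x : X, x ∉ Z → IsZero ((stalkAb x).obj F)) (n : ℕ) :
    Subsingleton (CohTop.H F (n + 2)) := by
  classical
  suffices h : ∀ (T : Finset X), (∀ x ∈ T, x ∈ Z ∧ ¬ IsClosed ({x} : Set X)) → ∀ (F : CohTop.Ab X),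
      (∀ x : X, ¬ IsClosed ({x} : Set X) → x ∉ T → IsZero ((stalkAb x).obj F)) →
      Subsingleton (CohTop.H F (n + 2)) from
    h (finite_nonclosed hZ hdim).toFinset (fun x hx => by simpa using hx) F
      fun x hx hx' => hF x fun hxZ => hx' (by simpa using ⟨hxZ, hx⟩)
  intro T
  induction T using Finset.induction_on with
  | empty => exact fun _ F hF =>
      EulerDeg.subsingleton_H_succ_of_closed_support F (fun x hx => hF x hx (Finset.notMem_empty x)) (n + 1)
  | @insert η T hη ih =>
    intro hT F hF
    let G : CohTop.Ab X := (skyscraperSheafFunctor η).obj ((stalkAb η).obj F)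
    let adj := stalkSkyscraperSheafAdjunction (C := AddCommGrpCat.{u}) η
    let u : F ⟶ G := adj.unit.app F
    obtain ⟨hηZ, hηc⟩ := hT η (Finset.mem_insert_self η T)
    have huη : IsIso ((stalkAb η).map u) := by
      have := adj.left_triangle_components F
      have hco : ∀ A, IsIso (adj.counit.app A) := fun A => by
        change IsIso ((StalkSkyscraperPresheafAdjunctionAuxs.counit η).app _)
        rw [StalkSkyscraperPresheafAdjunctionAuxs.counit_app]
        exact Iso.isIso_hom _
      exact @IsIso.of_isIso_fac_right _ _ _ _ _ _ _ _ (hco _) (IsIso.id _) this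
    have hG : TopCat.Sheaf.IsFlasque G := by
      have : Epi (terminalIsTerminal.from ((stalkAb η).obj F)) :=
        ⟨fun {Z} a b _ => ((IsTerminal.isZero (terminalIsTerminal (C := AddCommGrpCat.{u}))).eq_of_src a b)⟩
      exact isFlasque_skyscraperSheaf_of_epi_from η ((stalkAb η).obj F)
    have hGx : ∀ x : X, ¬ IsClosed ({x} : Set X) → x ≠ η → IsZero ((stalkAb x).obj G) := by
      intro x hx hne
      have hns : ¬ η ⤳ x := fun h => hne (eq_of_specializes_of_subset hZ hdim hηZ hx h).symm
      exact (skyscraperPresheafStalkOfNotSpecializesIsTerminal η ((stalkAb η).obj F) hns).isZero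
    have s1 : (ShortComplex.mk (kernel.ι (Abelian.factorThruImage u)) (Abelian.factorThruImage u)
        (kernel.condition _)).ShortExact :=
      { exact := ShortComplex.exact_kernel _ }
    have s2 : (ShortComplex.mk (Abelian.image.ι u) (cokernel.π u) (kernel.condition _)).ShortExact :=
      { exact := ShortComplex.exact_kernel _ }
    have hK : ∀ x : X, ¬ IsClosed ({x} : Set X) → x ∉ T →
        IsZero ((stalkAb x).obj (kernel (Abelian.factorThruImage u))) := by
      intro x hx hxT
      have : Mono ((stalkAb x).map (kernel.ι (Abelian.factorThruImage u))) := inferInstance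
      by_cases hxη : x = η
      · subst hxη
        have : Mono ((stalkAb x).map (Abelian.factorThruImage u)) := by
          have hm : Mono ((stalkAb x).map (Abelian.factorThruImage u) ≫
              (stalkAb x).map (Abelian.image.ι u)) := by
            rw [← Functor.map_comp, Abelian.image.fac]; infer_instance
          exact mono_of_mono _ ((stalkAb x).map (Abelian.image.ι u))
        refine IsZero.of_mono_eq_zero ((stalkAb x).map (kernel.ι (Abelian.factorThruImage u))) ?_
        rw [← cancel_mono ((stalkAb x).map (Abelian.factorThruImage u)), ← Functor.map_comp,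
          kernel.condition, Functor.map_zero, zero_comp]
      · exact IsZero.of_mono ((stalkAb x).map (kernel.ι (Abelian.factorThruImage u)))
          (hF x hx (by simp [hxη, hxT]))
    have hQ : ∀ x : X, ¬ IsClosed ({x} : Set X) → IsZero ((stalkAb x).obj (cokernel u)) := by
      intro x hx
      have : Epi ((stalkAb x).map (cokernel.π u)) := inferInstance
      by_cases hxη : x = η
      · subst hxη
        refine IsZero.of_epi_eq_zero ((stalkAb x).map (cokernel.π u)) ?_
        rw [← cancel_epi ((stalkAb x).map u), ← Functor.map_comp, cokernel.condition,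
          Functor.map_zero, comp_zero]
      · exact IsZero.of_epi ((stalkAb x).map (cokernel.π u)) (hGx x hx hxη)
    have := ih (fun x hx => hT x (Finset.mem_insert_of_mem hx)) _ hK
    have : Subsingleton (CohTop.H (cokernel u) (n + 1)) :=
      EulerDeg.subsingleton_H_succ_of_closed_support _ hQ n
    have : Subsingleton (CohTop.H G (n + 1 + 1)) :=
      Groth.SiteCohomology.subsingleton_H_succ_of_flasque G (n + 1)
    have : Subsingleton (CohTop.H (Abelian.image u) (n + 2)) := EulerDeg.subsingleton_H_left s2 (n + 1)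
    exact EulerDeg.subsingleton_H_mid s1 (n + 2)

end Space

section Scheme

variable {X : Scheme.{u}} [IsNoetherian X]

theorem subsingleton_HH_of_support_one (M : X.Modules) {Z : Set X} (hZ : IsClosed Z)
    (hdim : topologicalKrullDim Z ≤ 1) (hM : CohB1.support M ⊆ Z) {q : ℕ} (hq : 2 ≤ q) :
    Subsingleton (Coh.HH X M q) := by
  obtain ⟨m, rfl⟩ : ∃ m, q = m + 2 := ⟨q - 2, by omega⟩
  have t0 : T0Space X := inferInstance
  have qs : QuasiSober X := inferInstance
  have ns : NoetherianSpace X := inferInstance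
  exact @subsingleton_H_of_support X.toTopCat ns t0 qs Z hZ hdim (Coh.toAb M) (fun x hx =>
    @AddCommGrpCat.isZero_of_subsingleton _ (not_not.1 fun h => hx (hM h))) m

theorem subsingleton_HH_of_support_zero (M : X.Modules) {Z : Set X} (hZ : IsClosed Z)
    (hdim : topologicalKrullDim Z ≤ 0) (hM : CohB1.support M ⊆ Z) {q : ℕ} (hq : 1 ≤ q) :
    Subsingleton (Coh.HH X M q) := by
  obtain ⟨m, rfl⟩ : ∃ m, q = m + 1 := ⟨q - 1, by omega⟩
  have t0 : T0Space X := inferInstance
  have qs : QuasiSober X := inferInstance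
  have ns : NoetherianSpace X := inferInstance
  refine @EulerDeg.subsingleton_H_succ_of_closed_support X.toTopCat ns qs (Coh.toAb M) (fun x hx =>
    @AddCommGrpCat.isZero_of_subsingleton _ (not_not.1 fun h => hx ?_)) m
  have hxZ : x ∈ Z := hM h
  have hT1 : ∀ z ∈ closure ({x} : Set X), z = x := fun z hz => by
    by_contra hne
    have hzZ : z ∈ Z := closure_minimal (Set.singleton_subset_iff.mpr hxZ) hZ hz
    let a : IrreducibleCloseds Z := ⟨closure {⟨z, hzZ⟩}, isIrreducible_singleton.closure, isClosed_closure⟩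
    let b : IrreducibleCloseds Z := ⟨closure {⟨x, hxZ⟩}, isIrreducible_singleton.closure, isClosed_closure⟩
    have hsp : (⟨x, hxZ⟩ : Z) ⤳ ⟨z, hzZ⟩ :=
      (Topology.IsInducing.subtypeVal).specializes_iff.mp (specializes_iff_mem_closure.mpr hz)
    have hab : a < b := by
      refine lt_of_le_of_ne (show closure ({⟨z, hzZ⟩} : Set Z) ⊆ closure {⟨x, hxZ⟩} from
        closure_minimal (Set.singleton_subset_iff.mpr hsp.mem_closure) isClosed_closure) fun e => hne ?_
      have e' : closure ({⟨z, hzZ⟩} : Set Z) = closure {⟨x, hxZ⟩} :=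
        congrArg (fun W : IrreducibleCloseds Z => (W : Set Z)) e
      have hsp' : (⟨z, hzZ⟩ : Z) ⤳ ⟨x, hxZ⟩ := specializes_iff_mem_closure.mpr
        (e' ▸ subset_closure rfl)
      exact congrArg Subtype.val (hsp'.antisymm hsp).eq
    have h1 : ((1 : ℕ) : WithBot ℕ∞) ≤ topologicalKrullDim Z :=
      Order.LTSeries.length_le_krullDim ⟨1, ![a, b], fun i => by fin_cases i; exact hab⟩
    exact absurd (h1.trans hdim) (by decide)
  exact closure_eq_iff_isClosed.mp (Set.Subset.antisymm (fun z hz => hT1 z hz) subset_closure)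

end Scheme

section Twist

open Groth.PicAux Groth.Ega2Proj

variable {n : ℕ} {k : Type u} [Field k] (M : (CohB1.ProjSpace n k).Modules)

/-- Twisting does not enlarge the support. -/
lemma support_fT_subset (a : ℤ) : CohB1.support (fT M a) ⊆ CohB1.support M := by
  intro x hx hM
  refine hx (subsingleton_of_forall_eq 0 fun t => ?_)
  obtain ⟨i, hi⟩ := Opens.mem_iSup.mp ((PnCoh.isAcyclicCover_stdOpen n k).cover.ge
    (show x ∈ (⊤ : (CohB1.ProjSpace n k).Opens) from trivial))
  obtain ⟨W, hW, m, rfl⟩ := QCohMod.exists_germ (fT M a) x t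
  have hgen : ∃ e : Γ(Twist.twistProjSpace n k a, PnCoh.stdOpen n k i),
      Gen (Twist.twistProjSpace n k a) (PnCoh.stdOpen n k i) e :=
    ⟨_, gen_pwSec (N := a) (X_mem n k i.down) a (by simp) fun y hy => hy⟩
  obtain ⟨e, he⟩ := hgen
  obtain ⟨y, hy⟩ := (tmulSec_bijective (M := M) (inf_le_right : W ⊓ PnCoh.stdOpen n k i ≤ _) he).2
    (res (fT M a) inf_le_left m)
  have h0 : QCohMod.germ M x (⟨hW, hi⟩ : x ∈ W ⊓ PnCoh.stdOpen n k i) y = 0 :=
    Subsingleton.elim (h := hM) _ _
  have hx' : x ∈ W ⊓ PnCoh.stdOpen n k i := ⟨hW, hi⟩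
  have h0' : QCohMod.germ M x hx' y = QCohMod.germ M x hx' 0 := h0.trans (map_zero _).symm
  obtain ⟨W', hxW', i₁, i₂, e'⟩ := TopCat.Presheaf.germ_eq M.presheaf x hx' hx' y 0 h0'
  have h1 : res (fT M a) i₁.le (res (fT M a) inf_le_left m) = 0 := by
    rw [← hy, res_tmulSec, show res M i₁.le y = 0 from e'.trans (map_zero _), tmulSec_zero_left]
  rw [← QCohMod.germ_res (fT M a) (i₁.le.trans inf_le_left) x hxW' m]
  have h2 : res (fT M a) (i₁.le.trans inf_le_left) m = 0 := by rw [← h1, res_res]
  exact (congrArg _ h2).trans (map_zero _)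

end Twist

end Groth.Variety2.Reg
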