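import Groth.Agent.Variety2.Reg.Support
import Mathlib.Algebra.Homology.ShortComplex.HomologicalComplex

/-!
# Regularity of the cokernel of a complex with small homology
-/

universe u

open CategoryTheory CategoryTheory.Limits AlgebraicGeometry

namespace Groth.Variety2.Reg

variable {n : ℕ} {k : Type u} [Field k] {A B C : (CohB1.ProjSpace n k).Modules}

/-- The image sequence `0 → im f → B → coker f → 0`. -/
lemma image_shortExact (f : A ⟶ B) :
    (ShortComplex.mk (Abelian.image.ι f) (cokernel.π f) (kernel.condition _)).ShortExact :=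
  { exact := ShortComplex.exact_kernel _ }

lemma support_subset_of_iso {X : Scheme.{u}} {M N : X.Modules} (e : M ≅ N) :
    CohB1.support N ⊆ CohB1.support M := fun x hx hM => by
  refine hx ?_
  haveI : Subsingleton ((QCohMod.stalk x).obj M) := hM
  exact ((QCohMod.stalk x).mapIso e).symm.addCommGroupIsoToAddEquiv.toEquiv.subsingleton

/-- One step: vanishing for the image of `g` from the middle term, the image of `f` and the homology. -/
lemma subsingleton_image_step (S : ShortComplex (CohB1.ProjSpace n k).Modules) (c : ℤ) {q : ℕ}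
    (h₂ : Subsingleton (Coh.HH _ (fT S.X₂ c) q))
    (h₁ : Subsingleton (Coh.HH _ (fT (Abelian.image S.f) c) (q + 1)))
    (hH : Subsingleton (Coh.HH _ (fT S.homology c) (q + 1))) :
    Subsingleton (Coh.HH _ (fT (Abelian.image S.g) c) q) := by
  let l : Abelian.image S.f ⟶ S.cycles := S.liftCycles (Abelian.image.ι S.f) (by
    rw [← cancel_epi (Abelian.factorThruImage S.f), ← Category.assoc, Abelian.image.fac, S.zero,
      comp_zero])
  have hl : Abelian.factorThruImage S.f ≫ l = S.toCycles := by
    rw [← cancel_mono S.iCycles, Category.assoc, S.liftCycles_i, S.toCycles_i, Abelian.image.fac]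
  have hlm : Mono l := by
    have : Mono (l ≫ S.iCycles) := by rw [S.liftCycles_i]; infer_instance
    exact mono_of_mono l S.iCycles
  have w2 : l ≫ S.homologyπ = 0 := by
    rw [← cancel_epi (Abelian.factorThruImage S.f), ← Category.assoc, hl, S.toCycles_comp_homologyπ,
      comp_zero]
  have h2 : (ShortComplex.mk l S.homologyπ w2).ShortExact :=
    { exact := ShortComplex.exact_of_g_is_cokernel _ (CokernelCofork.IsColimit.ofπ' _ _ fun m hm =>
        ⟨S.descHomology m (by rw [← hl, Category.assoc, hm, comp_zero]), S.π_descHomology _ _⟩) }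
  have w1 : S.iCycles ≫ Abelian.factorThruImage S.g = 0 := by
    rw [← cancel_mono (Abelian.image.ι S.g), Category.assoc, Abelian.image.fac, S.iCycles_g, zero_comp]
  have h1 : (ShortComplex.mk S.iCycles (Abelian.factorThruImage S.g) w1).ShortExact :=
    { exact := ShortComplex.exact_of_f_is_kernel _ (KernelFork.IsLimit.ofι' _ _ fun m hm =>
        ⟨S.liftCycles m (by rw [← Abelian.image.fac S.g, ← Category.assoc, hm, zero_comp]),
          S.liftCycles_i _ _⟩) }
  exact subsingleton_right k (shortExact_fT h1 c) h₂
    (subsingleton_mid k (shortExact_fT h2 c) h₁ hH)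

/-- The homology of a short complex of coherent modules is coherent. -/
lemma isCoh_homology [IsLocallyNoetherian (CohB1.ProjSpace n k)]
    (S : ShortComplex (CohB1.ProjSpace n k).Modules) (h₁ : Coh.IsCoh S.X₁) (h₂ : Coh.IsCoh S.X₂)
    (h₃ : Coh.IsCoh S.X₃) : Coh.IsCoh S.homology := by
  haveI := h₁.1
  haveI := h₃.1
  have hc : Coh.IsCoh S.cycles :=
    QCohMod.isCoh_of_iso S.cyclesIsoKernel.symm (QCohMod.isCoh_kernel S.g h₂)
  exact QCohMod.isCoh_of_iso (IsColimit.coconePointUniqueUpToIso (cokernelIsCokernel S.toCycles)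
    S.homologyIsCokernel) (QCohMod.isCoh_cokernel S.toCycles hc)

lemma isCoh_image [IsLocallyNoetherian (CohB1.ProjSpace n k)] (f : A ⟶ B) (hA : Coh.IsCoh A)
    (hB : Coh.IsCoh B) : Coh.IsCoh (Abelian.image f) := by
  haveI := hA.1
  haveI := (QCohMod.isCoh_cokernel f hB).1
  exact QCohMod.isCoh_kernel (cokernel.π f) hB

end Groth.Variety2.Reg
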