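import Groth.Agent.Variety2.Reg.ENSheaf
import Groth.Agent.S12910

/-!
# The ideal of maximal minors of a linear matrix is regular when it cuts out something of dimension ≤ 1
-/

universe u

open CategoryTheory CategoryTheory.Limits AlgebraicGeometry Opposite TopologicalSpace
open Groth.GrSyzLib

noncomputable section

namespace Groth.Variety2.Reg

variable {r : ℕ} {k : Type u} [Field k] {m n : ℕ}
  {A : Matrix (Fin m) (Fin n) (MvPolynomial (Fin (r + 1)) k)}
  (hA : ∀ a b, A a b ∈ GrSyz.stdGr k (Fin (r + 1)) ((1 : ℕ) : ℤ))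

/-- The polynomial grading. -/
local notation "PP" => CohB1.polyGrading r k

/-- The Fitting ideal sheaf of the cokernel. -/
abbrev fittI : (Proj (CohB1.polyGrading r k)).IdealSheafData :=
  Fitt.sheafIdeal (cokernel (matMap (isHomMat_cdeg (c := 0) hA))) 0

lemma isCoh_frSheaf {N : ℕ} (deg : Fin N → ℤ) :
    Coh.IsCoh (show (CohB1.ProjSpace r k).Modules from frSheaf (r := r) (k := k) deg) :=
  PnCoh.isCoh_sigma _ fun _ => PnCoh.isCoh_twist r k _

lemma isFT_coker : CohB1.IsFT (cokernel (matMap (isHomMat_cdeg (c := 0) hA))) := by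
  have h1 := isCoh_frSheaf (r := r) (k := k) (cdeg m 0)
  have : (frSheaf (r := r) (k := k) (cdeg n (0 + 1))).IsQuasicoherent := (isCoh_frSheaf (cdeg n (0 + 1))).1
  exact (QCohMod.isCoh_cokernel (matMap (isHomMat_cdeg (c := 0) hA)) h1).2

lemma fittI_eq [(enX (r := r) (k := k) m n 0).IsQuasicoherent] :
    fittI hA = Misc6.ExtIdeal.imageIdeal (enPsi hA) := by
  have : (cokernel (matMap (isHomMat_cdeg (c := 0) hA))).IsQuasicoherent := by
    have h1 := isCoh_frSheaf (r := r) (k := k) (cdeg m 0)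
    have : (frSheaf (r := r) (k := k) (cdeg n (0 + 1))).IsQuasicoherent := (isCoh_frSheaf (cdeg n (0 + 1))).1
    exact (QCohMod.isCoh_cokernel (matMap (isHomMat_cdeg (c := 0) hA)) h1).1
  refine RefRank.FittSheaf.ext_map_germ fun x => ?_
  obtain ⟨u, hu, hx⟩ := exists_upow_notMem x
  refine ⟨⟨_, Proj.isAffineOpen_basicOpen PP u hu Nat.one_pos⟩, hx, ?_⟩
  rw [RefRank.FittSheaf.map_germ_sheafIdeal _ (isFT_coker hA), Misc6.ExtIdeal.imageIdeal_ideal]
  exact (fitt_stalk hA hu x hx).trans (map_germ_range_enPsi hA hu x hx (U := ⟨_, _⟩) rfl hx).symm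

lemma exists_minor_of_notMem (x : Proj PP) (hxV : x ∉ (fittI hA).support) :
    ∃ T : Finset (Fin n), T.card = m ∧ x ∈ Proj.basicOpen PP (EN.minor A T) := by
  have : (cokernel (matMap (isHomMat_cdeg (c := 0) hA))).IsQuasicoherent := by
    have h1 := isCoh_frSheaf (r := r) (k := k) (cdeg m 0)
    have : (frSheaf (r := r) (k := k) (cdeg n (0 + 1))).IsQuasicoherent := (isCoh_frSheaf (cdeg n (0 + 1))).1
    exact (QCohMod.isCoh_cokernel (matMap (isHomMat_cdeg (c := 0) hA)) h1).1
  obtain ⟨u, hu, hx⟩ := exists_upow_notMem x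
  rw [fittI, RefRank.FittSheaf.mem_support_iff _ (isFT_coker hA), not_not, fitt_stalk hA hu x hx] at hxV
  exact exists_minor_of_eq_top hA hu x hx hxV

/-- The complex in positive degrees. -/
def enCx : ChainComplex (CohB1.ProjSpace r k).Modules ℕ :=
  ChainComplex.of (fun s => (show (CohB1.ProjSpace r k).Modules from enX (r := r) (k := k) m n s))
    (fun s => enD hA s) fun s => enD_comp hA s

lemma enCx_d (s : ℕ) : (enCx hA).d (s + 1) s = enD hA s := by simp [enCx]

/-- Regularity of a quotient of the last term of a complex that is exact outside a small closed set. -/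
theorem mReg_of_data (C : ChainComplex (CohB1.ProjSpace r k).Modules ℕ) (t : ℕ)
    (hbdd : ∀ s : ℕ, t < s → IsZero (C.X s)) (hcoh : ∀ s, Coh.IsCoh (C.X s)) (d : ℤ)
    (hreg : ∀ s : ℕ, Curv2.IsMRegular k r (C.X s) (d + s))
    {Z : Set (CohB1.ProjSpace r k)} (hZ : IsClosed Z) (hdim : topologicalKrullDim Z ≤ 1)
    (hex : ∀ x, x ∉ Z → ∀ (s : ℕ) z, (QCohMod.stalk x).map (C.d (s + 1) s) z = 0 →
      ∃ w, (QCohMod.stalk x).map (C.d (s + 2) (s + 1)) w = z)
    {Q : (CohB1.ProjSpace r k).Modules} (L : C.X 0 ⟶ Q) [Epi L] (hd0 : C.d 1 0 ≫ L = 0)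
    (hex0 : ∀ x, x ∉ Z → ∀ z, (QCohMod.stalk x).map L z = 0 →
      ∃ w, (QCohMod.stalk x).map (C.d 1 0) w = z) :
    Curv2.IsMRegular k r Q d := by
  have : IsLocallyNoetherian (CohB1.ProjSpace r k) := PnCoh.isLocallyNoetherian_projSpace r k
  have : CompactSpace (CohB1.ProjSpace r k) :=
    QuasiCompact.compactSpace_of_compactSpace (CohB1.ProjSpace.toSpec r k)
  have : IsNoetherian (CohB1.ProjSpace r k) := {}
  have hsupp : ∀ i : ℕ, 0 < i → CohB1.support (C.homology i) ⊆ Z := by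
    intro i hi x hx
    by_contra hxV
    obtain ⟨j, rfl⟩ : ∃ j, i = j + 1 := ⟨i - 1, by omega⟩
    refine support_subset_of_iso (C.homologyIsoSc' (j + 2) (j + 1) j (by simp) (by simp)).symm hx ?_
    have he : ((C.sc' (j + 2) (j + 1) j).map (QCohMod.stalk x)).Exact :=
      (ShortComplex.ab_exact_iff _).mpr (hex x hxV j)
    have hz : IsZero ((QCohMod.stalk x).obj (C.sc' (j + 2) (j + 1) j).homology) :=
      IsZero.of_iso ((ShortComplex.exact_iff_isZero_homology _).mp he)
        ((C.sc' (j + 2) (j + 1) j).mapHomologyIso (QCohMod.stalk x)).symm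
    exact AddCommGrpCat.subsingleton_of_isZero hz
  obtain ⟨hcok, -⟩ := Groth.Agent.S12910.result k r C t hbdd hcoh d hreg fun i hi =>
    (Topology.IsEmbedding.inclusion (hsupp i hi)).isInducing.topologicalKrullDim_le.trans hdim
  let q : cokernel (C.d 1 0) ⟶ Q := cokernel.desc _ L hd0
  have hq : cokernel.π (C.d 1 0) ≫ q = L := cokernel.π_desc _ _ _
  have : Epi q := epi_of_epi_fac hq
  have hK : CohB1.support (kernel q) ⊆ Z := by
    intro x hx
    by_contra hxV
    refine hx (subsingleton_of_forall_eq 0 fun z => ?_)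
    refine Misc6.ExtIdeal.sm_injective (kernel.ι q) x ?_
    obtain ⟨w, hw⟩ := (QCohMod.epi_iff_stalk (cokernel.π (C.d 1 0))).mp inferInstance x
      (RefHull.stalkMapₗ (kernel.ι q) x z)
    have h1 : RefHull.stalkMapₗ L x w = 0 := by
      rw [← hq, Misc6.ExtIdeal.sm_comp]
      refine (congrArg (RefHull.stalkMapₗ q x) hw).trans ?_
      rw [← Misc6.ExtIdeal.sm_comp]
      show (QCohMod.stalk x).map (kernel.ι q ≫ q) z = 0
      rw [kernel.condition, Functor.map_zero]
      rfl
    obtain ⟨v, hv⟩ := hex0 x hxV w h1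
    rw [map_zero]
    refine hw.symm.trans ((congrArg _ (show RefHull.stalkMapₗ (C.d 1 0) x v = w from hv)).symm.trans ?_)
    refine (Misc6.ExtIdeal.sm_comp (C.d 1 0) (cokernel.π (C.d 1 0)) x v).symm.trans ?_
    show (QCohMod.stalk x).map (C.d 1 0 ≫ cokernel.π (C.d 1 0)) v = 0
    rw [cokernel.condition, Functor.map_zero]
    rfl
  intro p hp hpr
  refine subsingleton_right k (shortExact_fT (kernel_shortExact q) (d - p)) (hcok p hp hpr) ?_
  exact subsingleton_HH_of_support_one _ hZ hdim ((support_fT_subset _ _).trans hK) (by omega)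

lemma fittI_mem [(enX (r := r) (k := k) m n 0).IsQuasicoherent] (U : (Proj PP).affineOpens)
    (g : Γ(enX (r := r) (k := k) m n 0, U.1)) :
    Misc6.ExtIdeal.funApp (enPsi hA) U.1 g ∈ (fittI hA).ideal U := by
  rw [fittI_eq hA, Misc6.ExtIdeal.imageIdeal_ideal]
  exact LinearMap.mem_range_self _ g

/-- The map onto the ideal of minors. -/
def enL [(enX (r := r) (k := k) m n 0).IsQuasicoherent] :
    enX (r := r) (k := k) m n 0 ⟶ ClSub.idealMod (fittI hA) :=
  Misc6.ExtIdeal.liftIdeal (enPsi hA) (fittI hA) (fittI_mem hA)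

lemma enL_ι [(enX (r := r) (k := k) m n 0).IsQuasicoherent] :
    enL hA ≫ ClSub.idealModι (fittI hA) = enPsi hA :=
  Misc6.ExtIdeal.liftIdeal_ι _ _ _

lemma epi_enL [(enX (r := r) (k := k) m n 0).IsQuasicoherent] : Epi (enL hA) := by
  have hI := fittI_eq hA
  have hLι := enL_ι hA
  refine (QCohMod.epi_iff_stalk (enL hA)).mpr fun x z => ?_
  obtain ⟨u, hu, hx⟩ := exists_upow_notMem x
  let U : (Proj PP).affineOpens := ⟨_, Proj.isAffineOpen_basicOpen PP u hu Nat.one_pos⟩
  obtain ⟨W, hxW, s, rfl⟩ := QCohMod.exists_germ (ClSub.idealMod (fittI hA)) x z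
  obtain ⟨_, ⟨V, hV, rfl⟩, hxV, hVW⟩ :=
    (Proj PP).isBasis_affineOpens.exists_subset_of_mem_open (show x ∈ (W : Set (Proj PP)) from hxW) W.2
  let s' := QCohMod.res (ClSub.idealMod (fittI hA)) (show V ≤ W from hVW) s
  have hw : psiStalk (ClSub.idealModι (fittI hA)) x (QCohMod.germ _ x hxV s') ∈
      LinearMap.range (psiStalk (enPsi hA) x) := by
    rw [psiStalk_germ, Misc6.ExtIdeal.funApp_idealModι]
    have h1 : (Proj PP).presheaf.germ V x hxV (OmegaSh.idealSect (fittI hA) V s') ∈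
        Ideal.map ((Proj PP).presheaf.germ U.1 x hx).hom ((fittI hA).ideal U) := by
      rw [← Groth.RefRank.EffCartierLocal.map_germ_eq (fittI hA) (V := ⟨V, hV⟩) (W := U) hxV hx]
      exact Ideal.mem_map_of_mem _ (OmegaSheaf.idealSect_mem (fittI hA) ⟨V, hV⟩ s')
    have h2 : Ideal.map ((Proj PP).presheaf.germ U.1 x hx).hom ((fittI hA).ideal U) ≤
        LinearMap.range (psiStalk (enPsi hA) x) := by
      rw [hI, Misc6.ExtIdeal.imageIdeal_ideal, Ideal.map_le_iff_le_comap]
      rintro _ ⟨g, rfl⟩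
      exact ⟨_, psiStalk_germ _ x hx g⟩
    exact h2 h1
  obtain ⟨v, hv⟩ := hw
  refine ⟨v, ?_⟩
  refine Misc6.ExtIdeal.sm_injective (ClSub.idealModι (fittI hA)) x ?_
  refine ((Misc6.ExtIdeal.sm_comp (enL hA) (ClSub.idealModι (fittI hA)) x v).symm.trans ?_).trans
    (congrArg _ (QCohMod.germ_res (ClSub.idealMod (fittI hA)) (show V ≤ W from hVW) x hxV s))
  rw [hLι]
  exact (RefRank.oneEquiv x).symm.injective hv

lemma enL_exact [(enX (r := r) (k := k) m n 0).IsQuasicoherent] (x : Proj PP) {T : Finset (Fin n)}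
    (hT : T.card = m) (hxT : x ∈ Proj.basicOpen PP (EN.minor A T))
    (z : (QCohMod.stalk x).obj (enX (r := r) (k := k) m n 0))
    (hz : (QCohMod.stalk x).map (enL hA) z = 0) :
    ∃ w, (QCohMod.stalk x).map (enD hA 0) w = z := by
  refine (en_exact_stalk hA x hT hxT).2 z (Misc6.ExtIdeal.sm_injective (oneIso (r := r) (k := k)).hom x ?_)
  refine Eq.trans ?_ (map_zero _).symm
  refine (Misc6.ExtIdeal.sm_comp (enE hA) oneIso.hom x z).symm.trans ?_
  show RefHull.stalkMapₗ (enPsi hA) x z = 0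
  rw [← enL_ι hA, Misc6.ExtIdeal.sm_comp]
  exact (congrArg _ hz).trans (map_zero _)

lemma enD_enL [(enX (r := r) (k := k) m n 0).IsQuasicoherent] : enD hA 0 ≫ enL hA = 0 := by
  rw [← cancel_mono (ClSub.idealModι (fittI hA)), Category.assoc, zero_comp, enL_ι, enPsi,
    ← Category.assoc, enD_enE, zero_comp]

theorem mReg_fittI (hdim : topologicalKrullDim ((fittI hA).support : Set (Proj PP)) ≤ 1) :
    Curv2.IsMRegular k r (ClSub.idealMod (fittI hA)) m := by
  let C := enCx hA
  have hcoh : ∀ s, Coh.IsCoh (C.X s) := fun s => isCoh_frSheaf _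
  have hbdd : ∀ s : ℕ, n < s → IsZero (C.X s) := fun s hs => by
    have : IsEmpty (Fin (EN.rk m n s)) := ⟨fun b => by
      have h1 := (EN.mem_BS.mp (EN.bas m n s b).2).1
      have h2 := Finset.card_le_univ (EN.bas m n s b).1.1
      rw [Fintype.card_fin] at h2
      omega⟩
    change IsZero (C := (Proj PP).Modules) (enX (r := r) (k := k) m n s)
    exact (IsZero.iff_id_eq_zero _).mpr (Sigma.hom_ext _ _ fun b => isEmptyElim b)
  have hreg : ∀ s : ℕ, Curv2.IsMRegular k r (C.X s) ((m : ℤ) + s) := fun s i hi _ =>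
    subsingleton_fT_frSheaf _ _ hi fun hir b => by
      show -(r : ℤ) ≤ (m : ℤ) + s - i - ((m + s : ℕ) : ℤ)
      push_cast
      omega
  have : (enX (r := r) (k := k) m n 0).IsQuasicoherent := (hcoh 0).1
  have := epi_enL hA
  refine @mReg_of_data r k _ C n hbdd hcoh m hreg _ (fittI hA).support.isClosed hdim ?_ _ (enL hA) (epi_enL hA) ?_ ?_
  · intro x hx s z hz
    obtain ⟨T, hT, hxT⟩ := exists_minor_of_notMem hA x hx
    rw [enCx_d hA (s + 1)]
    rw [enCx_d hA s] at hz
    exact (en_exact_stalk hA x hT hxT).1 s z hz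
  · rw [enCx_d hA 0]
    exact enD_enL hA
  · intro x hx z hz
    obtain ⟨T, hT, hxT⟩ := exists_minor_of_notMem hA x hx
    rw [enCx_d hA 0]
    exact enL_exact hA x hT hxT z hz

end Groth.Variety2.Reg
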