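import Groth.Agent.Variety2.Reg.Cohom
import Groth.Agent.PicAux.EffCartierLine
import Groth.Agent.EulerDeg.CartierDegree
import Groth.Agent.Ega2Proj.TensorGen
import Groth.Agent.QCohMod.Category
import Groth.Agent.RefRank.DivSheaf

/-!
# Cohomology of a twisted ideal sheaf through the twisted quotient
-/

universe u

open CategoryTheory CategoryTheory.Limits AlgebraicGeometry Opposite TopologicalSpace
open Groth.PicAux

noncomputable section

namespace Groth.Variety2.Reg.IdealTwist

variable {X : Scheme.{u}} (I : X.IdealSheafData) {L : X.Modules} (hL : PicF.IsInvertible L)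

/-- `φ ⊗ L`. -/
def tmap {A B : X.Modules} (φ : A ⟶ B) (L : X.Modules) : CohB1.tensorMod A L ⟶ CohB1.tensorMod B L :=
  (DCoh.tensorRightMod L).map φ

lemma tmap_tmulSec {A B : X.Modules} (φ : A ⟶ B) (L : X.Modules) (W : X.Opens) (a : Γ(A, W))
    (b : Γ(L, W)) : (tmap φ L).app W (tmulSec a b) = tmulSec (φ.app W a) b :=
  tensorRightMod_map_tmulSec L φ W a b

include hL in
lemma epi_tmap {A B : X.Modules} (φ : A ⟶ B) [Epi φ] : Epi (tmap φ L) := by
  have := isEquivalence_tensorRightMod_of_isInvertible hL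
  exact (DCoh.tensorRightMod L).map_epi φ

include hL in
theorem subsingleton_succ_gen (k : Type u) [Field k] [X.Over (Spec (CommRingCat.of k))] {A B C : X.Modules} (f : A ⟶ B) (g : B ⟶ C) (w : f ≫ g = 0)
    (hS : (ShortComplex.mk f g w).ShortExact) {q : ℕ}
    (h₃ : Subsingleton (Coh.HH X (CohB1.tensorMod C L) q))
    (h₂ : Subsingleton (Coh.HH X (CohB1.tensorMod B L) (q + 1))) :
    Subsingleton (Coh.HH X (CohB1.tensorMod A L) (q + 1)) :=
  subsingleton_left k (shortExact_tensorRightMod hL hS) h₃ h₂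

include hL in
theorem subsingleton_one_gen (k : Type u) [Field k] [X.Over (Spec (CommRingCat.of k))] {A B C : X.Modules} (f : A ⟶ B) (g : B ⟶ C) (w : f ≫ g = 0)
    (hS : (ShortComplex.mk f g w).ShortExact) (hg : Function.Surjective ((tmap g L).app ⊤))
    (h₂ : Subsingleton (Coh.HH X (CohB1.tensorMod B L) 1)) :
    Subsingleton (Coh.HH X (CohB1.tensorMod A L) 1) :=
  subsingleton_one_of_surjective k (shortExact_tensorRightMod hL hS) hg h₂

/-- The twisted projection `O ⊗ L ⟶ O/I ⊗ L`. -/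
def proj (L : X.Modules) :
    CohB1.tensorMod (Coh.structureModule X) L ⟶ CohB1.tensorMod (ClSub.quotMod I) L :=
  tmap (ClSub.toSubscheme I) L

lemma proj_tmulSec (L : X.Modules) (W : X.Opens) (a : Γ(Coh.structureModule X, W)) (b : Γ(L, W)) :
    (proj I L).app W (tmulSec a b) = tmulSec ((ClSub.toSubscheme I).app W a) b :=
  tmap_tmulSec (ClSub.toSubscheme I) L W a b

lemma proj_kill (L : X.Modules) (W : X.Opens) (c : Γ(ClSub.idealMod I, W)) (b : Γ(L, W)) :
    (proj I L).app W (tmulSec ((ClSub.idealModι I).app W c) b) = 0 := by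
  rw [proj_tmulSec, show (ClSub.toSubscheme I).app W ((ClSub.idealModι I).app W c) = 0 from
    congr(($(kernel.condition (ClSub.toSubscheme I))).app W c), tmulSec_zero_left]

include hL in
lemma epi_proj : Epi (proj I L) :=
  haveI : Epi (ClSub.toSubscheme I) := (shortExact_idealMod I).epi_g
  epi_tmap hL _

include hL in
theorem subsingleton_succ (k : Type u) [Field k] [X.Over (Spec (CommRingCat.of k))] {q : ℕ}
    (h₃ : Subsingleton (Coh.HH X (CohB1.tensorMod (ClSub.quotMod I) L) q))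
    (h₂ : Subsingleton (Coh.HH X (CohB1.tensorMod (Coh.structureModule X) L) (q + 1))) :
    Subsingleton (Coh.HH X (CohB1.tensorMod (ClSub.idealMod I) L) (q + 1)) :=
  subsingleton_succ_gen hL k _ _ _ (shortExact_idealMod I) h₃ h₂

include hL in
theorem subsingleton_one (k : Type u) [Field k] [X.Over (Spec (CommRingCat.of k))] (hg : Function.Surjective ((proj I L).app ⊤))
    (h₂ : Subsingleton (Coh.HH X (CohB1.tensorMod (Coh.structureModule X) L) 1)) :
    Subsingleton (Coh.HH X (CohB1.tensorMod (ClSub.idealMod I) L) 1) :=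
  subsingleton_one_gen hL k _ _ _ (shortExact_idealMod I) hg h₂

include hL in
/-- A global section of `O/I ⊗ L` lifts once its coefficient on an affine open containing `V(I)` does. -/
theorem exists_lift [IsLocallyNoetherian X] (U : X.affineOpens) (W : X.Opens) (hUW : (⊤ : X.Opens) ≤ U.1 ⊔ W)
    (hW : ∀ s t : Γ(CohB1.tensorMod (ClSub.quotMod I) L, W), s = t)
    {e : Γ(L, U.1)} (he : Gen L U.1 e)
    (happ : ∀ g : Γ(X, U.1), ∃ (G : Γ(L, ⊤)) (φ : Γ(X, U.1)),
      res L (le_top : U.1 ≤ ⊤) G = φ • e ∧ g - φ ∈ I.ideal U)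
    (z : Γ(CohB1.tensorMod (ClSub.quotMod I) L, ⊤)) : ∃ s, (proj I L).app ⊤ s = z := by
  haveI : Epi (proj I L) := epi_proj I hL
  have hLc : L.IsQuasicoherent := isQCoh_of_isInvertible hL
  haveI : (Coh.structureModule X).IsQuasicoherent := QCohMod.isQCoh_unit X
  haveI : (ClSub.quotMod I).IsQuasicoherent := (EulerDeg.isCoh_quotMod I).1
  haveI : (CohB1.tensorMod (Coh.structureModule X) L).IsQuasicoherent := QCohMod.isQCoh_tensorMod
  haveI : (CohB1.tensorMod (ClSub.quotMod I) L).IsQuasicoherent := QCohMod.isQCoh_tensorMod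
  obtain ⟨t, ht⟩ := QCohMod.app_surjective_of_epi (proj I L) U.2 (res _ (le_top : U.1 ≤ ⊤) z)
  obtain ⟨a, ha⟩ := (Ega2Proj.tmulSec_bijective (M := Coh.structureModule X) le_rfl he).2 t
  simp only [res_self] at ha
  obtain ⟨G, φ, hG, hd⟩ := happ (toFun a)
  obtain ⟨c, hc⟩ := OmegaSheaf.exists_idealSect I U hd
  refine ⟨tmulSec (oneSec X ⊤) G, ?_⟩
  have hat : tmulSec a e = res _ (le_top : U.1 ≤ ⊤) (tmulSec (oneSec X ⊤) G) +
      tmulSec ((ClSub.idealModι I).app U.1 c) e := by
    rw [res_tmulSec, hG, res_oneSec, tmulSec_smul_right, ← tmulSec_smul_left, ← tmulSec_add_left]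
    congr 1
    change toFun a = φ * 1 + OmegaSh.idealSect I U.1 c
    rw [hc, mul_one]
    exact (add_sub_cancel _ _).symm
  refine res_ext (fun b : Bool => if b then U.1 else W) (fun b => le_top)
    (fun y hy => Opens.mem_iSup.2 ?_) fun b => ?_
  · rcases hUW hy with h | h
    · exact ⟨true, h⟩
    · exact ⟨false, h⟩
  · cases b
    · exact hW _ _
    · refine Eq.trans ?_ ht
      rw [← ha, hat, map_add, proj_kill, add_zero, app_res]

omit I in
/-- Functions vanishing to high order at every point of a fattened finite closed subscheme lie in its ideal. -/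
theorem mem_ker_of_germ {Z : Scheme.{u}} (i : Z ⟶ X) [QuasiCompact i] (U : X.affineOpens)
    (hmem : ∀ z : Z, i z ∈ U.1) (μ : Z → ℕ)
    (hμ : ∀ z : Z, IsLocalRing.maximalIdeal (Z.presheaf.stalk z) ^ (μ z + 1) = ⊥) (d : Γ(X, U.1))
    (hd : ∀ z : Z, X.presheaf.germ U.1 (i z) (hmem z) d ∈
      IsLocalRing.maximalIdeal (X.presheaf.stalk (i z)) ^ (μ z + 1)) :
    d ∈ i.ker.ideal U := by
  rw [Scheme.Hom.ker_apply, RingHom.mem_ker]
  refine TopCat.Presheaf.section_ext Z.sheaf _ _ _ fun x hx => ?_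
  refine Eq.trans ?_ (map_zero _).symm
  show (Z.presheaf.germ (i ⁻¹ᵁ U.1) x hx) ((i.app U.1) d) = 0
  rw [← Scheme.Hom.germ_stalkMap_apply i U.1 x hx]
  have h' := Ideal.mem_map_of_mem (i.stalkMap x).hom (hd x)
  rw [Ideal.map_pow] at h'
  have h'' := Ideal.pow_right_mono (IsLocalRing.map_maximalIdeal_le (i.stalkMap x).hom) _ h'
  rw [hμ x] at h''
  exact Ideal.mem_bot.mp h''

end Groth.Variety2.Reg.IdealTwist
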