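import Groth.Agent.Variety2.Reg.FreeSheaf
import Groth.Agent.PicAux.MeroRegular
import Groth.Prelude.Def_RefHull

/-!
# Sheaf maps of homogeneous matrices and their stalks
-/

universe u

open CategoryTheory CategoryTheory.Limits AlgebraicGeometry Opposite TopologicalSpace
open Groth.PicAux Groth.Ega2Proj Groth.GrSyzLib

noncomputable section

namespace Groth.Variety2.Reg

section Generic

variable {R A : Type u} [CommRing R] [CommRing A] [Algebra R A] {𝒜 : ℕ → Submodule R A} [GradedAlgebra 𝒜]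

/-- Multiplication by a homogeneous element on sections of twisting sheaves. -/
def twSec {n₀ n : ℤ} {a : A} (h : Tilde.CanMul 𝒜 𝒜 n₀ n a) {U : (Proj 𝒜).Opens}
    (s : Γ(Twist.twist 𝒜 n₀, U)) : Γ(Twist.twist 𝒜 n, U) :=
  Tilde.mapSec h s

lemma wval_twSec {n₀ n : ℤ} {a : A} (h : Tilde.CanMul 𝒜 𝒜 n₀ n a) {U : (Proj 𝒜).Opens}
    (s : Γ(Twist.twist 𝒜 n₀, U)) (x : ProjectiveSpectrum 𝒜) (hx : x ∈ U) :
    wval (twSec h s) x hx = wval s x hx • LocalizedModule.mk a ⟨1, Tilde.notMem_one' x⟩ := rfl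

theorem exists_twMap {n₀ n : ℤ} {a : A} (h : Tilde.CanMul 𝒜 𝒜 n₀ n a) :
    ∃ φ : Twist.twist 𝒜 n₀ ⟶ Twist.twist 𝒜 n,
      ∀ (U : (Proj 𝒜).Opens) (s : Γ(Twist.twist 𝒜 n₀, U)), φ.app U s = twSec h s := by
  let g (U : (Proj 𝒜).Opens) : Γ(Twist.twist 𝒜 n₀, U) →+ Γ(Twist.twist 𝒜 n, U) :=
    AddMonoidHom.mk' (twSec h) fun s t => wval_ext fun x hx => by
      change _ = wval (twSec h s) x hx + wval (twSec h t) x hx
      rw [wval_twSec, wval_twSec, wval_twSec, ← add_smul]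
      rfl
  let η : (Twist.twist 𝒜 n₀).presheaf ⟶ (Twist.twist 𝒜 n).presheaf :=
    { app := fun U => AddCommGrpCat.ofHom (g U.unop)
      naturality := fun _ _ _ => rfl }
  refine ⟨⟨PresheafOfModules.homMk η ?_⟩, fun U s => rfl⟩
  intro U r s
  have key : ∀ (r : Γ(Proj 𝒜, U.unop)) (s : Γ(Twist.twist 𝒜 n₀, U.unop)),
      twSec h (r • s) = r • twSec h s := fun r s => wval_ext fun x hx => by
    rw [wval_smul, wval_twSec, wval_twSec, wval_smul, mul_smul]
    rfl
  exact key r s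

/-- Multiplication by a homogeneous element between twisting sheaves. -/
def twMap {n₀ n : ℤ} {a : A} (h : Tilde.CanMul 𝒜 𝒜 n₀ n a) : Twist.twist 𝒜 n₀ ⟶ Twist.twist 𝒜 n :=
  (exists_twMap h).choose

lemma wval_twMap {n₀ n : ℤ} {a : A} (h : Tilde.CanMul 𝒜 𝒜 n₀ n a) {U : (Proj 𝒜).Opens}
    (s : Γ(Twist.twist 𝒜 n₀, U)) (x : ProjectiveSpectrum 𝒜) (hx : x ∈ U) :
    wval ((twMap h).app U s) x hx = wval s x hx • LocalizedModule.mk a ⟨1, Tilde.notMem_one' x⟩ := by
  rw [show (twMap h).app U s = twSec h s from (exists_twMap h).choose_spec U s, wval_twSec]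

lemma twist_germ_eq_zero {n : ℤ} {U : (Proj 𝒜).Opens} (s : Γ(Twist.twist 𝒜 n, U))
    (x : ProjectiveSpectrum 𝒜) (hx : x ∈ U) (h : wval s x hx = 0) :
    QCohMod.germ (Twist.twist 𝒜 n) (X := Proj 𝒜) x hx s = 0 := by
  obtain ⟨V, hxV, ι, i, j, ⟨a, ha⟩, ⟨b, hb⟩, hnin, -, hval⟩ := s.2 ⟨x, hx⟩
  have h0 : (LocalizedModule.mk a ⟨b, hnin ⟨x, hxV⟩⟩ : GrTilde.LocMod 𝒜 (M := A) x) = 0 :=
    (hval ⟨x, hxV⟩).symm.trans h
  obtain ⟨u, hu, hua⟩ := (Ega2Proj.Tilde.mk_eq_zero_iff 𝒜).mp h0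
  let W : (Proj 𝒜).Opens := V ⊓ Proj.basicOpen 𝒜 u
  have hWU : W ≤ U := fun y hy => ι.le hy.1
  have hres : res (Twist.twist 𝒜 n) hWU s = 0 := wval_ext fun y hy => by
    rw [wval_res]
    exact (hval ⟨y, hy.1⟩).trans ((Ega2Proj.Tilde.mk_eq_zero_iff 𝒜).mpr ⟨u, hy.2, hua⟩)
  rw [← QCohMod.germ_res (Twist.twist 𝒜 n) hWU x ⟨hxV, hu⟩ s]
  exact (congrArg _ hres).trans (map_zero _)

lemma twist_germ_congr {n : ℤ} {U V : (Proj 𝒜).Opens} (s : Γ(Twist.twist 𝒜 n, U))
    (t : Γ(Twist.twist 𝒜 n, V)) (x : Proj 𝒜) (hx : x ∈ U) (hx' : x ∈ V)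
    (h : wval s x hx = wval t x hx') :
    QCohMod.germ (Twist.twist 𝒜 n) x hx s = QCohMod.germ (Twist.twist 𝒜 n) x hx' t := by
  have hxW : x ∈ U ⊓ V := ⟨hx, hx'⟩
  rw [← QCohMod.germ_res _ (inf_le_left : U ⊓ V ≤ U) x hxW s,
    ← QCohMod.germ_res _ (inf_le_right : U ⊓ V ≤ V) x hxW t]
  refine sub_eq_zero.mp ((map_sub _ _ _).symm.trans (twist_germ_eq_zero _ x hxW ?_))
  exact sub_eq_zero.mpr h

end Generic

variable {r : ℕ} {k : Type u} [Field k]

/-- The polynomial ring. -/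
local notation "S" => MvPolynomial (Fin (r + 1)) k
/-- Its grading by `ℕ`. -/
local notation "PP" => CohB1.polyGrading r k
/-- Its grading by `ℤ`. -/
local notation "GS" => GrSyz.stdGr k (Fin (r + 1))

variable {N N' N'' : ℕ} {deg : Fin N → ℤ} {deg' : Fin N' → ℤ} {deg'' : Fin N'' → ℤ}
  {A : Matrix (Fin N) (Fin N') (MvPolynomial (Fin (r + 1)) k)}
  {B : Matrix (Fin N') (Fin N'') (MvPolynomial (Fin (r + 1)) k)}

lemma canMul_hom (hA : IsHomMat deg deg' A) (a : Fin N) (b : Fin N') :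
    Tilde.CanMul PP PP (-deg' b) (-deg a) (A a b) :=
  canMul_ring (δ := deg' b - deg a) (hA a b) (by ring)

/-- The component `O(-deg' b) ⟶ O(-deg a)`. -/
def tcomp (hA : IsHomMat deg deg' A) (a : Fin N) (b : Fin N') :
    Twist.twist PP (-deg' b) ⟶ Twist.twist PP (-deg a) :=
  twMap (canMul_hom hA a b)

lemma wval_tcomp (hA : IsHomMat deg deg' A) (a : Fin N) (b : Fin N') {U : (Proj PP).Opens}
    (s : Γ(Twist.twist PP (-deg' b), U)) (x : ProjectiveSpectrum PP) (hx : x ∈ U) :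
    wval ((tcomp hA a b).app U s) x hx =
      wval s x hx • LocalizedModule.mk (A a b) ⟨1, Tilde.notMem_one' x⟩ :=
  wval_twMap (canMul_hom hA a b) s x hx

/-- The sheaf map of a homogeneous matrix. -/
def matMap (hA : IsHomMat deg deg' A) : frSheaf (r := r) (k := k) deg' ⟶ frSheaf deg :=
  Sigma.desc fun b => ∑ a, tcomp hA a b ≫ Sigma.ι (fun a => Twist.twist PP (-deg a)) a

lemma ι_matMap (hA : IsHomMat deg deg' A) (b : Fin N') :
    Sigma.ι (fun b => Twist.twist PP (-deg' b)) b ≫ matMap hA =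
      ∑ a, tcomp hA a b ≫ Sigma.ι (fun a => Twist.twist PP (-deg a)) a :=
  Sigma.ι_desc _ _

lemma ι_matMap_proj (hA : IsHomMat deg deg' A) (a : Fin N) (b : Fin N') :
    Sigma.ι (fun b => Twist.twist PP (-deg' b)) b ≫ matMap hA ≫ frProj deg a = tcomp hA a b := by
  rw [← Category.assoc, ι_matMap, Preadditive.sum_comp, Finset.sum_eq_single a]
  · rw [Category.assoc, ι_frProj, dif_pos rfl, eqToHom_refl]
    exact Category.comp_id _
  · intro a' _ ha
    rw [Category.assoc, ι_frProj, dif_neg ha, comp_zero]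
  · exact fun h => absurd (Finset.mem_univ a) h

lemma matMap_vecSec (hA : IsHomMat deg deg' A) {v : Fin N' → S} {j : ℕ} (hv : v ∈ fr deg' (j : ℤ))
    (hw : A.mulVecLin v ∈ fr deg (j : ℤ)) {t : S} (ht : t ∈ PP j) {U : (Proj PP).Opens}
    (hU : ∀ x : ProjectiveSpectrum PP, x ∈ U → t ∉ x.asHomogeneousIdeal) :
    (matMap hA).app U (vecSec hv ht hU) = vecSec hw ht hU := by
  rw [vecSec, map_sum, vecSec]
  have e : ∀ b, (matMap hA).app U ((Sigma.ι (fun b => Twist.twist PP (-deg' b)) b).app U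
      (compSec hv ht hU b)) = ∑ a, (Sigma.ι (fun a => Twist.twist PP (-deg a)) a).app U
        ((tcomp hA a b).app U (compSec hv ht hU b)) := fun b => by
    refine (congr(($(ι_matMap hA b)).app U (compSec hv ht hU b))).trans ?_
    rw [QCohMod.app_sum]
    rfl
  refine (Finset.sum_congr rfl fun b _ => e b).trans ?_
  rw [Finset.sum_comm]
  refine Finset.sum_congr rfl fun a _ => ?_
  rw [← map_sum]
  refine congrArg _ (wval_ext fun x hx => ?_)
  let φ : Γ(Twist.twist PP (-deg a), U) →+ GrTilde.LocMod PP (M := S) x :=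
    AddMonoidHom.mk' (fun s => wval s x hx) fun _ _ => rfl
  refine (map_sum φ _ _).trans ?_
  refine Eq.trans (Finset.sum_congr rfl fun b _ =>
    (wval_tcomp hA a b (compSec hv ht hU b) x hx).trans ?_)
    ((mk_sum (M := S) (fun b => A a b * v b) ⟨t, hU x hx⟩).trans rfl)
  rw [wval_compSec, LocalizedModule.mk_smul_mk]
  congr 1
  · exact mul_comm _ _
  · exact Subtype.ext (mul_one t)

lemma matMap_comp_eq_zero (hA : IsHomMat deg deg' A) (hB : IsHomMat deg' deg'' B)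
    (h : ∀ v, A.mulVecLin (B.mulVecLin v) = 0) : matMap hB ≫ matMap hA = 0 := by
  refine eq_zero_of_stalk _ fun x z => ?_
  obtain ⟨v, j, hv, t, ht, hx, rfl⟩ := exists_vecSec x z
  have h1 := mulVec_mem hB _ v hv
  have h2 := mulVec_mem hA _ _ h1
  refine (QCohMod.stalk_map_germ (matMap hB ≫ matMap hA) x hx _).trans ?_
  rw [Scheme.Modules.Hom.comp_app, ConcreteCategory.comp_apply, matMap_vecSec hB hv h1,
    matMap_vecSec hA h1 h2]
  rw [show vecSec h2 ht (U := Proj.basicOpen PP t) (fun _ hy => hy) = 0 by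
    revert h2; rw [h v]; exact fun h2 => germ_vecSec_zero h2 ht _]
  exact map_zero _

/-- Exactness at a stalk, from exactness up to a homogeneous element that is a unit there. -/
theorem exact_stalk_of_annihilated (hA : IsHomMat deg deg' A) (hB : IsHomMat deg' deg'' B)
    (x : Proj PP) {δ : ℕ} {Δ : S} (hΔ : Δ ∈ PP δ) (hΔx : x ∈ Proj.basicOpen PP Δ)
    (h : ∀ v, A.mulVecLin v = 0 → Δ • v ∈ LinearMap.range B.mulVecLin)
    (z : (QCohMod.stalk x).obj (frSheaf (r := r) (k := k) deg'))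
    (hz : (QCohMod.stalk x).map (matMap hA) z = 0) :
    ∃ w, (QCohMod.stalk x).map (matMap hB) w = z := by
  obtain ⟨v, j, hv, t, ht, hx, rfl⟩ := exists_vecSec x z
  have h1 := mulVec_mem hA _ v hv
  have e := (QCohMod.stalk_map_germ (matMap hA) x hx (vecSec hv ht fun _ hy => hy)).symm.trans hz
  rw [matMap_vecSec hA hv h1] at e
  have hker : A.mulVecLin v = 0 := eq_zero_of_germ h1 ht _ x hx e
  have hv' : Δ • v ∈ fr deg' ((δ + j : ℕ) : ℤ) := by
    rw [Nat.cast_add]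
    exact smul_mem' (fr deg') (stdGr_nat_iff.mpr hΔ) hv
  obtain ⟨w, hw, hwv⟩ := exists_preimage (fr deg'') (fr deg') B.mulVecLin (mulVec_mem hB) hv' (h v hker)
  have hct : Δ * t ∈ PP (δ + j) := SetLike.mul_mem_graded hΔ ht
  have hxct : x ∈ Proj.basicOpen PP (Δ * t) :=
    x.asHomogeneousIdeal.toIdeal.primeCompl.mul_mem (show Δ ∈ x.asHomogeneousIdeal.toIdeal.primeCompl from hΔx) hx
  refine ⟨QCohMod.germ (frSheaf deg'') x hxct (vecSec hw hct fun _ hy => hy),
    (QCohMod.stalk_map_germ _ x hxct _).trans ?_⟩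
  have h4 := mulVec_mem hB _ w hw
  rw [matMap_vecSec hB hw h4, germ_total, germ_total]
  refine Finset.sum_congr rfl fun b _ => congrArg _ ?_
  rw [frProj_vecSec, frProj_vecSec]
  refine twist_germ_congr _ _ x hxct hx ?_
  change lfrac PP x (B.mulVecLin w b) _ = lfrac PP x (v b) _
  rw [congrFun hwv b, lfrac, lfrac, Localization.mk_eq_mk_iff, Localization.r_iff_exists]
  refine ⟨1, ?_⟩
  simp only [OneMemClass.coe_one, one_mul, Pi.smul_apply, smul_eq_mul]
  ring

/-! ## Bases of the stalks -/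

lemma smul_mapₗ {X : Scheme.{u}} {M M' : X.Modules} (φ : M ⟶ M') (x : X) (a : X.presheaf.stalk x)
    (z : M.presheaf.stalk x) :
    (QCohMod.stalk x).map φ (a • z : M.presheaf.stalk x) =
      (a • (show M'.presheaf.stalk x from (QCohMod.stalk x).map φ z) : M'.presheaf.stalk x) :=
  (RefHull.stalkMapₗ φ x).map_smul a z

section Frac

variable {u : MvPolynomial (Fin (r + 1)) k} (hu : u ∈ CohB1.polyGrading r k 1)

include hu in
lemma upow_mem (e : ℕ) : u ^ e ∈ PP e := by simpa using SetLike.pow_mem_graded e hu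

omit hu in
lemma upow_notMem (e : ℕ) (x : ProjectiveSpectrum PP) (hx : x ∈ Proj.basicOpen PP u) :
    u ^ e ∉ x.asHomogeneousIdeal := fun h => hx (x.isPrime.mem_of_pow_mem e h)

include hu in
lemma exists_fracFun {δ : ℕ} {f : S} (hf : f ∈ GS (δ : ℤ)) :
    ∃ ρ : Γ(Proj PP, Proj.basicOpen PP u), ∀ (x : ProjectiveSpectrum PP) (hx : x ∈ Proj.basicOpen PP u),
      (ρ.1 ⟨x, hx⟩).val = lfrac PP x f (upow_notMem δ x hx) := by
  obtain ⟨ρ, hρ⟩ := exists_fun_eq_wval (fracGen (n := 0) (stdGr_nat_iff.mp hf) (upow_mem hu δ) (by omega)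
    (Proj.basicOpen PP u) fun x hx => upow_notMem δ x hx)
  exact ⟨ρ, hρ⟩

/-- The fraction `f / u ^ δ`. -/
def fracFun {δ : ℕ} {f : S} (hf : f ∈ GS (δ : ℤ)) : Γ(Proj PP, Proj.basicOpen PP u) :=
  (exists_fracFun hu hf).choose

lemma val_fracFun {δ : ℕ} {f : S} (hf : f ∈ GS (δ : ℤ)) (x : ProjectiveSpectrum PP)
    (hx : x ∈ Proj.basicOpen PP u) :
    ((fracFun hu hf).1 ⟨x, hx⟩).val = lfrac PP x f (upow_notMem δ x hx) :=
  (exists_fracFun hu hf).choose_spec x hx

variable (x : Proj (CohB1.polyGrading r k)) (hx : x ∈ Proj.basicOpen (CohB1.polyGrading r k) u)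

/-- The germ of `f / u ^ δ`. -/
def sfrac {δ : ℕ} {f : S} (hf : f ∈ GS (δ : ℤ)) : (Proj PP).presheaf.stalk x :=
  (Proj PP).presheaf.germ _ x hx (fracFun hu hf)

include hu in
lemma det_sfrac {m : ℕ} (M : Matrix (Fin m) (Fin m) S) (hM : ∀ i l, M i l ∈ GS (((1 : ℕ)) : ℤ))
    (hdet : M.det ∈ GS (m : ℤ)) :
    (Matrix.of fun i l => sfrac hu x hx (hM i l)).det = sfrac hu x hx hdet := by
  have h1 : (Matrix.of fun i l => fracFun hu (hM i l)).det = fracFun hu hdet := by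
    refine fun_ext fun y hy => ?_
    let φ : Γ(Proj PP, Proj.basicOpen PP u) →+* Twist.Loc PP y :=
      { toFun := fun ρ => (ρ.1 ⟨y, hy⟩).val
        map_one' := HomogeneousLocalization.val_one
        map_mul' := fun a b => HomogeneousLocalization.val_mul _ _
        map_zero' := HomogeneousLocalization.val_zero
        map_add' := fun a b => HomogeneousLocalization.val_add _ _ }
    show φ _ = φ _
    rw [RingHom.map_det]
    have hφ : ∀ {δ : ℕ} {f : S} (hf : f ∈ GS (δ : ℤ)), φ (fracFun hu hf) =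
        Localization.mk 1 ⟨u ^ δ, upow_notMem δ y hy⟩ * algebraMap S (Twist.Loc PP y) f := fun hf => by
      show _ = _
      refine (val_fracFun hu hf y hy).trans ?_
      rw [← Localization.mk_one_eq_algebraMap, Localization.mk_mul, one_mul, mul_one]
    have : φ.mapMatrix (Matrix.of fun i l => fracFun hu (hM i l)) =
        (Localization.mk 1 ⟨u ^ 1, upow_notMem 1 y hy⟩ : Twist.Loc PP y) •
          (algebraMap S (Twist.Loc PP y)).mapMatrix M := by
      ext i l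
      exact hφ (hM i l)
    rw [this, Matrix.det_smul, ← RingHom.map_det, hφ hdet, Fintype.card_fin, Localization.mk_pow,
      one_pow]
    congr 2
    exact Subtype.ext (by simp)
  rw [sfrac, ← h1, RingHom.map_det]
  rfl

/-- The basis `1 / u ^ c` of the stalk of `O(-c)`. -/
def sgen {c : ℤ} (c' : ℕ) (hc : c = c') : (Twist.twist PP (-c)).presheaf.stalk x :=
  QCohMod.germ (X := Proj PP) (Twist.twist PP (-c)) x hx
    (fracGen (e := 0) (SetLike.GradedOne.one_mem : (1 : S) ∈ PP 0) (upow_mem hu c') (by omega) _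
      fun y hy => upow_notMem c' y hy)

lemma gen_sgen (c : ℤ) (c' : ℕ) (hc : c = c') :
    Gen (X := Proj PP) (Twist.twist PP (-c)) (Proj.basicOpen PP u)
      (fracGen (e := 0) (SetLike.GradedOne.one_mem : (1 : S) ∈ PP 0) (upow_mem hu c') (by omega) _
        fun y hy => upow_notMem c' y hy) :=
  gen_fracGen _ _ _ _ _ fun y _ h => y.isPrime.ne_top ((Ideal.eq_top_iff_one _).mpr h)

lemma exists_smul_sgen {c : ℤ} (c' : ℕ) (hc : c = c')
    (z : (Twist.twist PP (-c)).presheaf.stalk x) : ∃ a : (Proj PP).presheaf.stalk x, a • sgen hu x hx c' hc = z := by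
  obtain ⟨W, hxW, s, rfl⟩ := QCohMod.exists_germ (X := Proj PP) (Twist.twist PP (-c)) x z
  have hxV : x ∈ Proj.basicOpen PP u ⊓ W := ⟨hx, hxW⟩
  obtain ⟨ρ, hρ⟩ := (gen_sgen hu c c' hc).exists_coeff (inf_le_left : _ ⊓ W ≤ _)
    (res _ (inf_le_right : Proj.basicOpen PP u ⊓ W ≤ W) s)
  refine ⟨(Proj PP).presheaf.germ _ x hxV ρ, ?_⟩
  have h := congrArg (QCohMod.germ (X := Proj PP) (Twist.twist PP (-c)) x hxV) hρ
  rw [QCohMod.germ_smul] at h
  refine Eq.trans ?_ (h.symm.trans (QCohMod.germ_res _ _ x hxV _))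
  congr 1
  refine Eq.symm ?_
  exact QCohMod.germ_res (X := Proj PP) (Twist.twist PP (-c)) inf_le_left x hxV _

lemma smul_sgen_injective {c : ℤ} (c' : ℕ) (hc : c = c') {a : (Proj PP).presheaf.stalk x}
    (h : a • sgen hu x hx c' hc = 0) : a = 0 :=
  germ_smul_eq_zero (gen_sgen hu c c' hc) hx h

lemma map_sgen {c c₁ : ℤ} (d₀ d₁ δ : ℕ) (hc : c = d₀) (hc₁ : c₁ = d₁) (hd : d₁ = d₀ + δ) {f : S}
    (hf : f ∈ GS (c₁ - c)) (hf' : f ∈ GS (δ : ℤ)) :
    (QCohMod.stalk x).map (twMap (canMul_ring (n₀ := -c₁) (n := -c) hf (by ring)))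
      (sgen hu x hx d₁ hc₁) = sfrac hu x hx hf' • sgen hu x hx d₀ hc := by
  rw [sgen, sgen, sfrac, ← QCohMod.germ_smul]
  refine (QCohMod.stalk_map_germ _ x hx _).trans ?_
  refine twist_germ_congr _ _ x hx hx ?_
  rw [wval_twMap, wval_fracGen, LocalizedModule.mk_smul_mk, wval_smul, val_fracFun, wval_fracGen, lfrac,
    lfrac, Localization.mk_mul]
  show Localization.mk _ _ = Localization.mk _ _
  congr 1
  · rw [smul_eq_mul, one_mul, mul_one]
  · refine Subtype.ext ?_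
    show u ^ d₁ * 1 = u ^ δ * u ^ d₀
    rw [hd, pow_add, mul_one, mul_comm]

/-- The basis of the stalk of `⊕ O(-c)`. -/
def fgen {c : ℕ} (hdeg : ∀ b, deg b = c) (b : Fin N) : (frSheaf (r := r) (k := k) deg).presheaf.stalk x :=
  (QCohMod.stalk x).map (Sigma.ι (fun b : Fin N => Twist.twist PP (-deg b)) b) (sgen hu x hx c (hdeg b))

lemma proj_fgen {c : ℕ} (hdeg : ∀ b, deg b = c) (a b : Fin N) :
    (QCohMod.stalk x).map (frProj deg a) (fgen hu x hx hdeg b) =
      if a = b then sgen hu x hx c (hdeg a) else 0 := by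
  rw [fgen, ← ConcreteCategory.comp_apply, ← Functor.map_comp, ι_frProj]
  by_cases h : a = b
  · subst h
    rw [dif_pos rfl, if_pos rfl, eqToHom_refl, CategoryTheory.Functor.map_id]
    rfl
  · rw [dif_neg (Ne.symm h), if_neg h, Functor.map_zero]
    rfl

/-- Stalk elements of `⊕ O(-deg b)` with equal components are equal. -/
lemma fr_ext {z z' : (frSheaf (r := r) (k := k) deg).presheaf.stalk x}
    (h : ∀ a, (QCohMod.stalk x).map (frProj deg a) z = (QCohMod.stalk x).map (frProj deg a) z') : z = z' := by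
  have key : ∀ w : (QCohMod.stalk x).obj (frSheaf (r := r) (k := k) deg), w =
      ∑ a, (QCohMod.stalk x).map (Sigma.ι (fun b : Fin N => Twist.twist PP (-deg b)) a)
        ((QCohMod.stalk x).map (frProj deg a) w) := fun w => by
    obtain ⟨W, hxW, s, rfl⟩ := QCohMod.exists_germ (frSheaf deg) x w
    refine (germ_total x hxW s).trans (Finset.sum_congr rfl fun a _ => congrArg _ ?_)
    exact (QCohMod.stalk_map_germ _ x hxW s).symm
  refine (key z).trans ((Finset.sum_congr rfl fun a _ => congrArg _ (h a)).trans (key z').symm)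

lemma proj_sum_fgen {c : ℕ} (hdeg : ∀ b, deg b = c) (g : Fin N → (Proj PP).presheaf.stalk x) (a : Fin N) :
    (QCohMod.stalk x).map (frProj deg a) (∑ b, g b • fgen hu x hx hdeg b) =
      g a • sgen hu x hx c (hdeg a) := by
  rw [map_sum, Finset.sum_eq_single a]
  · rw [smul_mapₗ, proj_fgen, if_pos rfl]
  · intro b _ hb
    rw [smul_mapₗ, proj_fgen, if_neg (Ne.symm hb)]
    exact smul_zero (A := (Twist.twist PP (-deg a)).presheaf.stalk x) _
  · simp

lemma exists_sum_fgen {c : ℕ} (hdeg : ∀ b, deg b = c)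
    (z : (frSheaf (r := r) (k := k) deg).presheaf.stalk x) :
    ∃ g : Fin N → (Proj PP).presheaf.stalk x, ∑ b, g b • fgen hu x hx hdeg b = z := by
  choose g hg using fun a => exists_smul_sgen hu x hx c (hdeg a) ((QCohMod.stalk x).map (frProj deg a) z)
  exact ⟨g, fr_ext x fun a => (proj_sum_fgen hu x hx hdeg g a).trans (hg a)⟩

lemma fgen_indep {c : ℕ} (hdeg : ∀ b, deg b = c) {g : Fin N → (Proj PP).presheaf.stalk x}
    (h : ∑ b, g b • fgen hu x hx hdeg b = 0) : g = 0 := funext fun a =>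
  smul_sgen_injective hu x hx c (hdeg a) ((proj_sum_fgen hu x hx hdeg g a).symm.trans ((congrArg _ h).trans (map_zero _)))

lemma matMap_fgen {c c₁ δ : ℕ} (hd : c₁ = c + δ) (hdeg : ∀ a, deg a = c) (hdeg' : ∀ b, deg' b = c₁)
    (hA : IsHomMat deg deg' A) (hA' : ∀ a b, A a b ∈ GS (δ : ℤ)) (b : Fin N') :
    (QCohMod.stalk x).map (matMap hA) (fgen hu x hx hdeg' b) =
      ∑ a, sfrac hu x hx (hA' a b) • fgen hu x hx hdeg a := by
  refine fr_ext x fun a => ?_
  refine Eq.trans ?_ (proj_sum_fgen hu x hx hdeg (fun a => sfrac hu x hx (hA' a b)) a).symm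
  refine Eq.trans ?_ (map_sgen hu x hx c c₁ δ (hdeg a) (hdeg' b) hd (hA a b) (hA' a b))
  refine Eq.trans ?_ (congr(((QCohMod.stalk x).map $(ι_matMap_proj hA a b)) (sgen hu x hx c₁ (hdeg' b))))
  rw [Functor.map_comp, Functor.map_comp]
  rfl

end Frac

end Groth.Variety2.Reg
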