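import Groth.Agent.Variety2.Reg.PointsAlg
import Groth.Agent.Variety2.Reg.MatMap
import Groth.Agent.PnCoh.ToGlobal
import Groth.Agent.Ega2Proj.TwistGen

/-!
# Forms of given degree interpolate at finitely many fattened closed points of `P^r_k`
-/

universe u

open CategoryTheory CategoryTheory.Limits AlgebraicGeometry Opposite TopologicalSpace
open Groth.Ega2Proj

noncomputable section

namespace Groth.Variety2.Reg

variable {r : ℕ} {k : Type u} [Field k]

local notation "S" => MvPolynomial (Fin (r + 1)) k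
local notation "PP" => CohB1.polyGrading r k
local notation "GS" => GrSyz.stdGr k (Fin (r + 1))

/-- The value of a function at a point. -/
def fv {U : (Proj (CohB1.polyGrading r k)).Opens} (a : Γ(Proj (CohB1.polyGrading r k), U))
    (x : ProjectiveSpectrum (CohB1.polyGrading r k)) (hx : x ∈ U) : Twist.Loc (CohB1.polyGrading r k) x :=
  (a.1 ⟨x, hx⟩).val

lemma fv_ext {U : (Proj PP).Opens} {a b : Γ(Proj PP, U)} (h : ∀ x hx, fv a x hx = fv b x hx) : a = b :=
  Subtype.ext (funext fun y => HomogeneousLocalization.val_injective _ (h y.1 y.2))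

lemma fv_mul {U : (Proj PP).Opens} (a b : Γ(Proj PP, U)) (x : ProjectiveSpectrum PP) (hx : x ∈ U) :
    fv (a * b) x hx = fv a x hx * fv b x hx := HomogeneousLocalization.val_mul _ _

lemma fv_add {U : (Proj PP).Opens} (a b : Γ(Proj PP, U)) (x : ProjectiveSpectrum PP) (hx : x ∈ U) :
    fv (a + b) x hx = fv a x hx + fv b x hx := HomogeneousLocalization.val_add _ _

lemma fv_one {U : (Proj PP).Opens} (x : ProjectiveSpectrum PP) (hx : x ∈ U) :
    fv (1 : Γ(Proj PP, U)) x hx = 1 := HomogeneousLocalization.val_one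

variable {u : MvPolynomial (Fin (r + 1)) k} (hu : u ∈ CohB1.polyGrading r k 1)

/-- The constants on a standard open. -/
def chartScalar (u : MvPolynomial (Fin (r + 1)) k) :
    k →+* Γ(Proj (CohB1.polyGrading r k), Proj.basicOpen (CohB1.polyGrading r k) u) :=
  (Coh.resTop (CohB1.ProjSpace r k) (op (Proj.basicOpen (CohB1.polyGrading r k) u))).comp
    (Coh.toGlobal ((CohB1.ProjSpace r k) ↘ Spec (CommRingCat.of k)))

lemma fv_chartScalar (c : k) (x : ProjectiveSpectrum PP) (hx : x ∈ Proj.basicOpen PP u) :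
    fv (chartScalar u c) x hx = Localization.mk (MvPolynomial.C c) 1 :=
  PnCoh.toGlobal_projSpace_val r k c (Proj.basicOpen PP u) ⟨x, hx⟩

include hu in
lemma fv_fracFun {δ : ℕ} {f : S} (hf : f ∈ GS (δ : ℤ)) (x : ProjectiveSpectrum PP)
    (hx : x ∈ Proj.basicOpen PP u) :
    fv (fracFun hu hf) x hx = lfrac PP x f (upow_notMem δ x hx) := val_fracFun hu hf x hx

lemma lfrac_add (x : ProjectiveSpectrum PP) (f g : S) {h : S} (hh : h ∉ x.asHomogeneousIdeal) :
    lfrac PP x (f + g) hh = lfrac PP x f hh + lfrac PP x g hh :=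
  (Localization.add_mk_self f _ g).symm

lemma lfrac_mul_pow (x : ProjectiveSpectrum PP) (hx : u ∉ x.asHomogeneousIdeal) (f g : S) (a b : ℕ) :
    lfrac PP x f (upow_notMem (u := u) a x hx) * lfrac PP x g (upow_notMem (u := u) b x hx) =
      lfrac PP x (f * g) (upow_notMem (u := u) (a + b) x hx) := by
  rw [lfrac_mul_lfrac (hxx := by rw [← pow_add]; exact upow_notMem (u := u) (a + b) x hx)]
  congr 1
  simp [pow_add]

include hu in
lemma fracFun_mul {a b : ℕ} {f g : S} (hf : f ∈ GS (a : ℤ)) (hg : g ∈ GS (b : ℤ))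
    (hfg : f * g ∈ GS ((a + b : ℕ) : ℤ)) :
    fracFun hu hf * fracFun hu hg = fracFun hu hfg := fv_ext fun y hy => by
  rw [fv_mul, fv_fracFun, fv_fracFun, fv_fracFun, lfrac_mul_pow]
  exact hy

include hu in
lemma fracFun_add {a : ℕ} {f g : S} (hf : f ∈ GS (a : ℤ)) (hg : g ∈ GS (a : ℤ)) :
    fracFun hu (add_mem hf hg) = fracFun hu hf + fracFun hu hg := fv_ext fun y hy => by
  rw [fv_add, fv_fracFun, fv_fracFun, fv_fracFun, lfrac_add]

include hu in
lemma chartScalar_mul_fracFun (c : k) {a : ℕ} {f : S} (hf : f ∈ GS (a : ℤ)) :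
    chartScalar u c * fracFun hu hf = fracFun hu (Submodule.smul_mem _ c hf) :=
  fv_ext fun y hy => by
  rw [fv_mul, fv_chartScalar, fv_fracFun, fv_fracFun]
  change Localization.mk _ _ * Localization.mk _ _ = Localization.mk _ _
  rw [Localization.mk_mul, one_mul, MvPolynomial.smul_eq_C_mul]

include hu in
lemma exists_fracFun_eq (g : Γ(Proj PP, Proj.basicOpen PP u)) :
    ∃ (e : ℕ) (f : S) (hf : f ∈ GS (e : ℤ)), g = fracFun hu hf := by
  obtain ⟨z, rfl⟩ : ∃ z, Proj.awayToSection PP u z = g :=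
    ⟨(Proj.basicOpenIsoAway PP u hu Nat.one_pos).inv g,
      congr($((Proj.basicOpenIsoAway PP u hu Nat.one_pos).inv_hom_id) g)⟩
  obtain ⟨e, f, hf, rfl⟩ := HomogeneousLocalization.Away.mk_surjective PP hu z
  have hf' : f ∈ GS (e : ℤ) := stdGr_nat_iff.mpr (by simpa using hf)
  refine ⟨e, f, hf', fv_ext fun y hy => ?_⟩
  rw [fv_fracFun]
  change (((ProjectiveSpectrum.Proj.awayToSection PP u).1 _).val ⟨y, hy⟩).val = _
  rw [ProjectiveSpectrum.Proj.awayToSection_apply, HomogeneousLocalization.Away.val_mk,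
    Localization.mk_eq_mk', IsLocalization.map_mk']
  simp only [lfrac, Localization.mk_eq_mk']
  rfl

include hu in
lemma res_globalSec_eq {j : ℕ} {f : S} (hf : f ∈ GS (j : ℤ)) :
    Groth.PicAux.res (Twist.twist PP (j : ℤ)) (le_top : Proj.basicOpen PP u ≤ ⊤)
        (globalSec (stdGr_nat_iff.mp hf)) =
      fracFun hu hf • pwSec (N := (j : ℤ)) hu j (by simp) fun _ hy => hy := by
  refine wval_ext fun y hy => ?_
  rw [wval_res, wval_globalSec, wval_smul, wval_pwSec, zpow_natCast, Units.val_pow_eq_pow_val, coe_funit]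
  show _ = fv (fracFun hu hf) y hy * _
  rw [fv_fracFun, ← map_pow, ← Localization.mk_one_eq_algebraMap, ← Localization.mk_one_eq_algebraMap]
  simp only [lfrac, Localization.mk_mul, mul_one]
  rw [Localization.mk_eq_mk_iff, Localization.r_iff_exists]
  exact ⟨1, by simp [mul_comm]⟩

include hu in
/-- Forms of degree `j ≥ Σ (μ x + 1) - 1` interpolate modulo the powers of the maximal ideals. -/
theorem exists_fracFun_interpolate [IsAlgClosed k] {ι : Type*} [Fintype ι] [DecidableEq ι]
    (pt : ι → Proj PP) (hinj : Function.Injective pt) (hcl : ∀ a, IsClosed ({pt a} : Set (Proj PP)))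
    (hmem : ∀ a, pt a ∈ Proj.basicOpen PP u) (μ : ι → ℕ) (j : ℕ) (hj : ∑ a, (μ a + 1) ≤ j + 1)
    (g : Γ(Proj PP, Proj.basicOpen PP u)) :
    ∃ (f : S) (hf : f ∈ GS (j : ℤ)), ∀ a,
      (Proj PP).presheaf.germ (Proj.basicOpen PP u) (pt a) (hmem a) (g - fracFun hu hf) ∈
        IsLocalRing.maximalIdeal ((Proj PP).presheaf.stalk (pt a)) ^ (μ a + 1) := by
  let R := Γ(Proj PP, Proj.basicOpen PP u)
  letI : Algebra k R := (chartScalar u).toAlgebra
  have hsmul : ∀ (c : k) (x : R), c • x = chartScalar u c * x := fun c x => Algebra.smul_def c x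
  let φ : GS ((1 : ℕ) : ℤ) →ₗ[k] R :=
    { toFun := fun l => fracFun hu l.2
      map_add' := fun l l' => fracFun_add hu l.2 l'.2
      map_smul' := fun c l => by
        rw [RingHom.id_apply, hsmul]
        exact (chartScalar_mul_fracFun hu c l.2).symm }
  let V := LinearMap.range φ
  have h1 : (1 : R) ∈ V := by
    refine ⟨⟨u, stdGr_nat_iff.mpr hu⟩, fv_ext fun y hy => ?_⟩
    change fv (fracFun hu (stdGr_nat_iff.mpr hu)) y hy = _
    rw [fv_fracFun, fv_one]
    simp only [lfrac, pow_one]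
    exact Localization.mk_self ⟨u, hy⟩
  have hpow : ∀ (e : ℕ) (f : S) (hf : f ∈ GS (e : ℤ)), fracFun hu hf ∈ V ^ e := by
    intro e
    induction e with
    | zero =>
      intro f hf
      obtain ⟨c, rfl⟩ : ∃ c, f = MvPolynomial.C c := by
        have : MvPolynomial.IsHomogeneous f 0 := stdGr_nat_iff.mp hf
        exact ⟨_, MvPolynomial.totalDegree_eq_zero_iff_eq_C.mp (Nat.le_zero.mp this.totalDegree_le)⟩
      rw [pow_zero]
      refine Submodule.mem_one.2 ⟨c, fv_ext fun y hy => ?_⟩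
      change fv (chartScalar u c) y hy = _
      rw [fv_chartScalar, fv_fracFun]
      simp only [lfrac, pow_zero]
      rfl
    | succ e ih =>
      intro f hf
      have hf' : f ∈ MvPolynomial.homogeneousSubmodule (Fin (r + 1)) k (e + 1) := stdGr_nat_iff.mp hf
      rw [← MvPolynomial.homogeneousSubmodule_one_pow, pow_succ,
        MvPolynomial.homogeneousSubmodule_one_pow] at hf'
      have key : ∃ h : f ∈ GS ((e + 1 : ℕ) : ℤ), fracFun hu h ∈ V ^ (e + 1) := by
        refine Submodule.mul_induction_on hf' (fun a ha b hb => ?_) fun a b ⟨ha, ha'⟩ ⟨hb, hb'⟩ =>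
          ⟨add_mem ha hb, by rw [fracFun_add hu ha hb]; exact add_mem ha' hb'⟩
        have hab : a * b ∈ GS ((e + 1 : ℕ) : ℤ) :=
          stdGr_nat_iff.mpr (SetLike.mul_mem_graded (A := PP) ha hb)
        refine ⟨hab, ?_⟩
        rw [← fracFun_mul hu (stdGr_nat_iff.mpr ha) (stdGr_nat_iff.mpr hb) hab, pow_succ]
        exact Submodule.mul_mem_mul (ih a _) ⟨⟨b, stdGr_nat_iff.mpr hb⟩, rfl⟩
      exact key.2
  have hgen : Algebra.adjoin k (V : Set R) = ⊤ := by
    have hle : ∀ e : ℕ, V ^ e ≤ Subalgebra.toSubmodule (Algebra.adjoin k (V : Set R)) := by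
      intro e
      induction e with
      | zero =>
        rw [pow_zero, Submodule.one_le]
        exact (Algebra.adjoin k (V : Set R)).one_mem
      | succ e ih =>
        rw [pow_succ, Submodule.mul_le]
        exact fun a ha b hb => (Algebra.adjoin k (V : Set R)).mul_mem (ih ha) (Algebra.subset_adjoin hb)
    refine eq_top_iff.2 fun x _ => ?_
    obtain ⟨e, f, hf, rfl⟩ := exists_fracFun_eq hu x
    exact hle e (hpow e f hf)
  have hfg : Algebra.FiniteType k R := by
    have hVfg : V.FG := by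
      have : Module.Finite k (GS ((1 : ℕ) : ℤ)) := by
        have h := MvPolynomial.homogeneousSubmodule_fg (σ := Fin (r + 1)) (R := k) 1
        exact Module.Finite.of_fg (by convert h using 1; ext p; exact stdGr_nat_iff)
      exact Submodule.fg_range _
    obtain ⟨s, hs⟩ := hVfg
    refine ⟨⟨s, eq_top_iff.2 (hgen.ge.trans (Algebra.adjoin_le ?_))⟩⟩
    rw [← hs]
    exact Algebra.span_le_adjoin k _
  have hU : IsAffineOpen (Proj.basicOpen PP u) := Proj.isAffineOpen_basicOpen PP u hu Nat.one_pos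
  let M : ι → Ideal R := fun a => (hU.primeIdealOf ⟨pt a, hmem a⟩).asIdeal
  have hmax : ∀ a, (M a).IsMaximal := fun a => hU.primeIdealOf_isMaximal_of_isClosed _ (hcl a)
  have hM : ∀ a (x : R), ∃ c : k, x - algebraMap k R c ∈ M a := fun a x => by
    have := hmax a
    letI : Field (R ⧸ M a) := Ideal.Quotient.field _
    have : Module.Finite k (R ⧸ M a) := finite_of_finite_type_of_isJacobsonRing k _
    obtain ⟨c, hc⟩ := (IsAlgClosed.algebraMap_bijective_of_isIntegral (k := k) (K := R ⧸ M a)).2 (Ideal.Quotient.mk (M a) x)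
    refine ⟨c, ?_⟩
    rw [← Ideal.Quotient.eq, ← hc]
    rfl
  have hMinj : Function.Injective M := fun a b h => hinj (by
    have h' : hU.primeIdealOf ⟨pt a, hmem a⟩ = hU.primeIdealOf ⟨pt b, hmem b⟩ := PrimeSpectrum.ext h
    have := congrArg (fun q => hU.fromSpec q) h'
    simpa [IsAffineOpen.fromSpec_primeIdealOf] using this)
  obtain ⟨v, hv, hv'⟩ := PointsAlg.exists_interpolation V h1 hgen M hmax hM hMinj μ j hj g
  obtain ⟨f, hf, rfl⟩ : ∃ (f : S) (hf : f ∈ GS (j : ℤ)), fracFun hu hf = v := by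
    clear hv' hj
    induction j generalizing v with
    | zero =>
      rw [pow_zero] at hv
      obtain ⟨c, rfl⟩ := Submodule.mem_one.1 hv
      have hc : (MvPolynomial.C c : S) ∈ GS ((0 : ℕ) : ℤ) :=
        stdGr_nat_iff.mpr (MvPolynomial.isHomogeneous_C _ c)
      refine ⟨_, hc, fv_ext fun y hy => ?_⟩
      change _ = fv (chartScalar u c) y hy
      rw [fv_chartScalar, fv_fracFun]
      simp only [lfrac, pow_zero]
      rfl
    | succ j ih =>
      rw [pow_succ] at hv
      refine Submodule.mul_induction_on hv ?_ ?_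
      · intro a ha b hb
        obtain ⟨f, hf, rfl⟩ := ih a ha
        obtain ⟨⟨l, hl⟩, rfl⟩ := hb
        have hfl : f * l ∈ GS ((j + 1 : ℕ) : ℤ) :=
          stdGr_nat_iff.mpr (SetLike.mul_mem_graded (A := PP) (stdGr_nat_iff.mp hf) (stdGr_nat_iff.mp hl))
        exact ⟨_, hfl, (fracFun_mul hu hf hl hfl).symm⟩
      · rintro a b ⟨f, hf, rfl⟩ ⟨f', hf', rfl⟩
        exact ⟨_, add_mem hf hf', fracFun_add hu hf hf'⟩
  refine ⟨f, hf, fun a => ?_⟩
  have hmap : Ideal.map ((Proj PP).presheaf.germ _ (pt a) (hmem a)).hom (M a) ≤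
      IsLocalRing.maximalIdeal ((Proj PP).presheaf.stalk (pt a)) := by
    rw [Ideal.map_le_iff_le_comap]
    intro z hz
    simp only [M, IsAffineOpen.primeIdealOf_eq_map_closedPoint] at hz
    exact hz
  refine Ideal.pow_right_mono hmap _ ?_
  rw [← Ideal.map_pow]
  exact Ideal.mem_map_of_mem _ (hv' a)

end Groth.Variety2.Reg
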