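import Groth.Agent.CohC3.GradedVanishing
import Groth.Agent.CohC3.GenSections
import Groth.Agent.VarietyBC.CurveGG
import Groth.Agent.OmegaSheaf.IdealMod
import Groth.Agent.Misc6.ExtIdeal
import Groth.Agent.RefRank.DivSheaf
import Groth.Agent.RefRank.Divisor
import Groth.Agent.PicAux.Powers
import Groth.Agent.Ega2Proj.TensorGen

/-!
# Uniform vanishing for the powers of an ideal sheaf with globally generated twist

If `I ⊗ L` is globally generated and `A` is ample, then `H^q(I^p ⊗ L^p ⊗ A^d) = 0` for `q > 0` and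
`d` large, uniformly in `p`: the modules `I^p ⊗ L^p` form a sequence generated by the multiplication
by finitely many sections of `I ⊗ L`.
-/

universe u

open CategoryTheory CategoryTheory.Limits AlgebraicGeometry Opposite TopologicalSpace
open Groth.PicAux

noncomputable section

namespace Groth.Variety2.Reg.PowVan

variable {X : Scheme.{u}} (I : X.IdealSheafData) (L : X.Modules)

/-- `I^p ⊗ L^p`. -/
abbrev pt (p : ℕ) : X.Modules :=
  CohB1.tensorMod (ClSub.idealMod (I ^ p)) (CohB1.tensorPow L p)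

/-- The inclusion `J ⊗ M ⟶ M`. -/
def incl (J : X.IdealSheafData) (M : X.Modules) : CohB1.tensorMod (ClSub.idealMod J) M ⟶ M :=
  (DCoh.tensorRightMod M).map (ClSub.idealModι J) ≫ (exists_leftUnitor M).choose.hom

lemma incl_tmulSec (J : X.IdealSheafData) (M : X.Modules) (W : X.Opens)
    (a : Γ(ClSub.idealMod J, W)) (b : Γ(M, W)) :
    (incl J M).app W (tmulSec a b) = OmegaSh.idealSect J W a • b := by
  refine Eq.trans (congrArg ((exists_leftUnitor M).choose.hom.app W)
    (tensorRightMod_map_tmulSec M (ClSub.idealModι J) W a b)) ?_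
  exact (exists_leftUnitor M).choose_spec W _ b

lemma mono_incl (J : X.IdealSheafData) {M : X.Modules} (hM : PicF.IsInvertible M) :
    Mono (incl J M) := by
  have := isEquivalence_tensorRightMod_of_isInvertible hM
  have hι : Mono (ClSub.idealModι J) :=
    inferInstanceAs (Mono (kernel.ι (ClSub.toSubscheme J)))
  have h1 : Mono ((DCoh.tensorRightMod M).map (ClSub.idealModι J)) :=
    (DCoh.tensorRightMod M).map_mono _
  exact @mono_comp _ _ _ _ _ _ h1 _ inferInstance

lemma mem_pow_succ (J : X.IdealSheafData) (p : ℕ) (V : X.affineOpens) {a c : Γ(X, V.1)}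
    (ha : a ∈ (J ^ p).ideal V) (hc : c ∈ J.ideal V) : a * c ∈ (J ^ (p + 1)).ideal V := by
  rw [Scheme.IdealSheafData.ideal_pow, Pi.pow_apply] at ha ⊢
  rw [pow_succ]
  exact Ideal.mul_mem_mul ha hc

lemma smul_tmul_comm {A B : X.Modules} {V : X.Opens} (c d : Γ(X, V)) (a : Γ(A, V)) (e : Γ(B, V)) :
    c • tmulSec (d • tmulSec a e) e = d • tmulSec (c • tmulSec a e) e := by
  rw [tmulSec_smul_left, tmulSec_smul_left, ← mul_smul, mul_comm c d, mul_smul]

variable {L}

/-- Small affine opens on which `L` has a basis. -/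
lemma exists_affine_gen (hL : PicF.IsInvertible L) {W : X.Opens} {x : X} (hx : x ∈ W) :
    ∃ (V : X.affineOpens) (e : Γ(L, V.1)), x ∈ V.1 ∧ V.1 ≤ W ∧ Gen L V.1 e := by
  obtain ⟨U, e, hxU, he⟩ := (isInvertible_iff_exists_gen L).1 hL x
  obtain ⟨_, ⟨V, hV, rfl⟩, hxV, hVW⟩ :=
    X.isBasis_affineOpens.exists_subset_of_mem_open (show x ∈ ((W ⊓ U : X.Opens) : Set X) from ⟨hx, hxU⟩)
      (W ⊓ U).2
  exact ⟨⟨V, hV⟩, res L ((show V ≤ W ⊓ U from hVW).trans inf_le_right) e, hxV,
    (show V ≤ W ⊓ U from hVW).trans inf_le_left, he.res _⟩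

variable (hL : PicF.IsInvertible L)

/-- Multiplication by a global section. -/
def mulBy (σ : Γ(L, ⊤)) (p : ℕ) : CohB1.tensorPow L p ⟶ CohB1.tensorPow L (p + 1) :=
  (VarietyBC.CurveGG.exists_mulHom (isInvertible_tensorPow hL p) σ).choose

lemma mulBy_app (σ : Γ(L, ⊤)) (p : ℕ) (W : X.Opens) (a : Γ(CohB1.tensorPow L p, W)) :
    (mulBy hL σ p).app W a = tmulSec a (res L le_top σ) :=
  (VarietyBC.CurveGG.exists_mulHom (isInvertible_tensorPow hL p) σ).choose_spec W a

include hL in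
lemma mulBy_comm (σ τ : Γ(L, ⊤)) (p : ℕ) :
    mulBy hL τ p ≫ mulBy hL σ (p + 1) = mulBy hL σ p ≫ mulBy hL τ (p + 1) := by
  ext W a
  choose V e hxV hVW he using fun x : (W : Type u) => exists_affine_gen hL x.2
  refine res_ext (fun x => (V x).1) hVW (fun x hx => Opens.mem_iSup.2 ⟨⟨x, hx⟩, hxV ⟨x, hx⟩⟩)
    fun x => ?_
  change res _ (hVW x) ((mulBy hL σ (p + 1)).app W ((mulBy hL τ p).app W a)) =
    res _ (hVW x) ((mulBy hL τ (p + 1)).app W ((mulBy hL σ p).app W a))
  rw [← app_res, ← app_res, ← app_res, ← app_res]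
  obtain ⟨c, hc⟩ := (he x).exists_coeff le_rfl (res L le_top σ)
  obtain ⟨d, hd⟩ := (he x).exists_coeff le_rfl (res L le_top τ)
  simp only [mulBy_app, hc, hd, res_self, tmulSec_smul_right, tmulSec_smul_left]
  exact smul_tmul_comm c d _ _

variable {I} in
/-- Sections of `I ⊗ L` give sections of `L` with coefficients in `I`. -/
lemma coeff_mem (t : Γ(CohB1.tensorMod (ClSub.idealMod I) L, ⊤)) (V : X.affineOpens) {e : Γ(L, V.1)}
    (he : Gen L V.1 e) {c : Γ(X, V.1)}
    (hc : res L (le_top : V.1 ≤ ⊤) ((incl I L).app ⊤ t) = c • e) : c ∈ I.ideal V := by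
  obtain ⟨y, hy⟩ := (Groth.Ega2Proj.tmulSec_bijective (M := ClSub.idealMod I) (le_refl V.1) he).2
    (res _ (le_top : V.1 ≤ ⊤) t)
  simp only [res_self] at hy
  rw [← app_res, ← hy, incl_tmulSec] at hc
  have := (he V.1 le_rfl).1 (a₁ := OmegaSh.idealSect I V.1 y) (a₂ := c) (by simpa using hc)
  rw [← this]
  exact OmegaSheaf.idealSect_mem I V y

include hL in
lemma exists_op (t : Γ(CohB1.tensorMod (ClSub.idealMod I) L, ⊤)) (p : ℕ) :
    ∃ φ : pt I L p ⟶ pt I L (p + 1),
      φ ≫ incl (I ^ (p + 1)) (CohB1.tensorPow L (p + 1)) =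
        incl (I ^ p) (CohB1.tensorPow L p) ≫ mulBy hL ((incl I L).app ⊤ t) p := by
  have := mono_incl (I ^ (p + 1)) (isInvertible_tensorPow hL (p + 1))
  let i := incl (I ^ (p + 1)) (CohB1.tensorPow L (p + 1))
  let g := incl (I ^ p) (CohB1.tensorPow L p) ≫ mulBy hL ((incl I L).app ⊤ t) p
  suffices hg : g ≫ cokernel.π i = 0 by
    exact ⟨Abelian.monoLift i g hg, Abelian.monoLift_comp i g hg⟩
  refine tensor_hom_ext fun W a b => ?_
  change (g ≫ cokernel.π i).app W (tmulSec a b) = 0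
  choose V e hxV hVW he using fun x : (W : Type u) => exists_affine_gen hL x.2
  refine res_ext (fun x => (V x).1) hVW (fun x hx => Opens.mem_iSup.2 ⟨⟨x, hx⟩, hxV ⟨x, hx⟩⟩)
    fun x => ?_
  rw [← app_res, res_tmulSec, res_zero]
  set a' := res _ (hVW x) a
  set b' := res _ (hVW x) b
  obtain ⟨c, hc⟩ := (he x).exists_coeff le_rfl (res L le_top ((incl I L).app ⊤ t))
  rw [res_self] at hc
  have hcI := coeff_mem t (V x) (he x) hc
  obtain ⟨k, hk⟩ := OmegaSheaf.exists_idealSect (I ^ (p + 1)) (V x)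
    (mem_pow_succ I p (V x) (OmegaSheaf.idealSect_mem (I ^ p) (V x) a') hcI)
  have hfac : g.app (V x).1 (tmulSec a' b') = i.app (V x).1 (tmulSec k (tmulSec b' (e x))) := by
    change (mulBy hL _ p).app _ ((incl (I ^ p) (CohB1.tensorPow L p)).app _ (tmulSec a' b')) =
      (incl (I ^ (p + 1)) (CohB1.tensorPow L (p + 1))).app _ (tmulSec k (tmulSec b' (e x)))
    rw [incl_tmulSec, incl_tmulSec, hk, mulBy_app, hc, tmulSec_smul_left, tmulSec_smul_right,
      ← mul_smul]
    rfl
  change (cokernel.π i).app (V x).1 (g.app (V x).1 (tmulSec a' b')) = 0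
  rw [hfac]
  exact congr(($(cokernel.condition i)).app (V x).1 (tmulSec k (tmulSec b' (e x))))

/-- The operator of a section of `I ⊗ L`. -/
def opMap (t : Γ(CohB1.tensorMod (ClSub.idealMod I) L, ⊤)) (p : ℕ) : pt I L p ⟶ pt I L (p + 1) :=
  (exists_op I hL t p).choose

lemma opMap_incl (t : Γ(CohB1.tensorMod (ClSub.idealMod I) L, ⊤)) (p : ℕ) :
    opMap I hL t p ≫ incl (I ^ (p + 1)) (CohB1.tensorPow L (p + 1)) =
      incl (I ^ p) (CohB1.tensorPow L p) ≫ mulBy hL ((incl I L).app ⊤ t) p :=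
  (exists_op I hL t p).choose_spec

/-- The sequence `I^p ⊗ L^p`. -/
def seq {r : ℕ} (t : Fin r → Γ(CohB1.tensorMod (ClSub.idealMod I) L, ⊤)) : CohC3.GSeq X r where
  obj := pt I L
  op j := opMap I hL (t j)
  comm a b p := by
    have := mono_incl (I ^ (p + 1 + 1)) (isInvertible_tensorPow hL (p + 1 + 1))
    rw [← cancel_mono (incl (I ^ (p + 1 + 1)) (CohB1.tensorPow L (p + 1 + 1))), Category.assoc,
      Category.assoc, opMap_incl, opMap_incl, ← Category.assoc, ← Category.assoc, opMap_incl,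
      opMap_incl, Category.assoc, Category.assoc, mulBy_comm hL]

include hL in
lemma gen_seq {r : ℕ} (t : Fin r → Γ(CohB1.tensorMod (ClSub.idealMod I) L, ⊤))
    (ht : ∀ V : X.affineOpens, ∀ y : Γ(CohB1.tensorMod (ClSub.idealMod I) L, V.1),
      ∃ a : Fin r → Γ(X, V.1), y = ∑ j, a j • res _ (le_top : V.1 ≤ ⊤) (t j)) :
    (seq I hL t).Gen := by
  refine ⟨0, fun p _ => Preadditive.epi_of_cancel_zero _ fun {Q} g hg => ?_⟩
  have hg' : ∀ j, opMap I hL (t j) p ≫ (show pt I L (p + 1) ⟶ Q from g) = 0 := fun j => by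
    have := congr(biproduct.ι _ j ≫ $hg)
    rwa [biproduct.ι_desc_assoc, comp_zero] at this
  revert hg'
  show ∀ (_ : ∀ j, opMap I hL (t j) p ≫ (show pt I L (p + 1) ⟶ Q from g) = 0),
    (show pt I L (p + 1) ⟶ Q from g) = 0
  generalize (show pt I L (p + 1) ⟶ Q from g) = g₁
  clear hg g
  rename' g₁ => g
  intro hg'
  refine tensor_hom_ext fun W a b => ?_
  change g.app W (tmulSec a b) = 0
  choose V e hxV hVW he using fun x : (W : Type u) => exists_affine_gen hL x.2
  refine res_ext (fun x => (V x).1) hVW (fun x hx => Opens.mem_iSup.2 ⟨⟨x, hx⟩, hxV ⟨x, hx⟩⟩)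
    fun x => ?_
  rw [← app_res, res_zero]
  refine (congrArg (g.app (V x).1) (res_tmulSec (hVW x) a b)).trans ?_
  set a' := res _ (hVW x) a
  obtain ⟨d, hd⟩ := ((he x).pow (p + 1)).exists_coeff le_rfl (res _ (hVW x) b)
  rw [res_self] at hd
  rw [hd, tmulSec_smul_right, Scheme.Modules.Hom.app_smul]
  suffices g.app (V x).1 (tmulSec a' (powSec (e x) (p + 1))) = 0 by rw [this, smul_zero]
  have hinj : ∀ (z z' : Γ(pt I L (p + 1), (V x).1)),
      (incl (I ^ (p + 1)) (CohB1.tensorPow L (p + 1))).app _ z =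
        (incl (I ^ (p + 1)) (CohB1.tensorPow L (p + 1))).app _ z' → z = z' := fun z z' h => by
    have := mono_incl (I ^ (p + 1)) (isInvertible_tensorPow hL (p + 1))
    exact CohTwo.app_injective (incl (I ^ (p + 1)) (CohB1.tensorPow L (p + 1))) _ h
  -- the set of ideal elements killed by `g`
  let Φ := OmegaSheaf.idealSecEquiv (I ^ (p + 1)) (V x)
  have key : ∀ z : Γ(X, (V x).1), z ∈ (I ^ (p + 1)).ideal (V x) →
      ∃ h : z ∈ (I ^ (p + 1)).ideal (V x),
        g.app (V x).1 (tmulSec (Φ.symm ⟨z, h⟩) (powSec (e x) (p + 1))) = 0 := by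
    intro z hz
    have hz' := hz
    rw [Scheme.IdealSheafData.ideal_pow, Pi.pow_apply, pow_succ] at hz'
    refine Submodule.mul_induction_on hz' (fun u hu c hc => ?_) fun u v ⟨hu, hu0⟩ ⟨hv, hv0⟩ => ?_
    · have hu' : u ∈ (I ^ p).ideal (V x) := by
        rwa [Scheme.IdealSheafData.ideal_pow, Pi.pow_apply]
      refine ⟨mem_pow_succ I p (V x) hu' hc, ?_⟩
      obtain ⟨k, hk⟩ := OmegaSheaf.exists_idealSect I (V x) hc
      obtain ⟨w, hw⟩ := ht (V x) (tmulSec k (e x))
      choose c' hc' using fun j => (he x).exists_coeff le_rfl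
        (res L (le_top : (V x).1 ≤ ⊤) ((incl I L).app ⊤ (t j)))
      simp only [res_self] at hc'
      have hsum : c = ∑ j, w j * c' j := by
        have h1 := congrArg ((incl I L).app (V x).1) hw
        rw [incl_tmulSec, hk, map_sum] at h1
        simp only [Scheme.Modules.Hom.app_smul, app_res, hc', ← mul_smul, ← Finset.sum_smul] at h1
        exact (he x (V x).1 le_rfl).1 (by simpa using h1)
      obtain ⟨k', hk'⟩ := OmegaSheaf.exists_idealSect (I ^ p) (V x) hu'
      have himg : tmulSec (Φ.symm ⟨u * c, mem_pow_succ I p (V x) hu' hc⟩) (powSec (e x) (p + 1)) =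
          ∑ j, w j • (opMap I hL (t j) p).app (V x).1 (tmulSec k' (powSec (e x) p)) := by
        refine hinj _ _ ?_
        rw [incl_tmulSec, map_sum]
        have hΦ : OmegaSh.idealSect (I ^ (p + 1)) (V x).1
            (Φ.symm ⟨u * c, mem_pow_succ I p (V x) hu' hc⟩) = u * c :=
          congrArg Subtype.val (Φ.apply_symm_apply ⟨u * c, mem_pow_succ I p (V x) hu' hc⟩)
        rw [hΦ]
        have hterm : ∀ j, (incl (I ^ (p + 1)) (CohB1.tensorPow L (p + 1))).app (V x).1
            (w j • (opMap I hL (t j) p).app (V x).1 (tmulSec k' (powSec (e x) p))) =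
              (w j * (u * c' j)) • powSec (e x) (p + 1) := fun j => by
          have h2 := congr(($(opMap_incl I hL (t j) p)).app (V x).1 (tmulSec k' (powSec (e x) p)))
          simp only [Scheme.Modules.Hom.comp_app, ConcreteCategory.comp_apply] at h2
          rw [Scheme.Modules.Hom.app_smul, h2, incl_tmulSec, hk', mulBy_app, hc',
            tmulSec_smul_left, tmulSec_smul_right, ← mul_smul]
          exact (mul_smul _ _ _).symm
        rw [Finset.sum_congr rfl fun j _ => hterm j, ← Finset.sum_smul]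
        congr 1
        rw [hsum, Finset.mul_sum]
        exact Finset.sum_congr rfl fun j _ => by ring
      rw [himg, map_sum]
      refine Finset.sum_eq_zero fun j _ => ?_
      rw [Scheme.Modules.Hom.app_smul]
      have h3 : g.app (V x).1 ((opMap I hL (t j) p).app (V x).1 (tmulSec k' (powSec (e x) p))) = 0 :=
        congr(($(hg' j)).app (V x).1 (tmulSec k' (powSec (e x) p)))
      rw [h3, smul_zero]
    · refine ⟨add_mem hu hv, ?_⟩
      rw [show (⟨u + v, add_mem hu hv⟩ : (I ^ (p + 1)).ideal (V x)) = ⟨u, hu⟩ + ⟨v, hv⟩ from rfl,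
        map_add, tmulSec_add_left, map_add, hu0, hv0, add_zero]
  obtain ⟨h, h0⟩ := key _ (OmegaSheaf.idealSect_mem (I ^ (p + 1)) (V x) a')
  rwa [show (⟨_, h⟩ : (I ^ (p + 1)).ideal (V x)) = Φ a' from rfl, LinearEquiv.symm_apply_apply] at h0

/-- **Uniform vanishing**: `H^q(I^p ⊗ L^p ⊗ A^d) = 0` for `q > 0`, all `p` and all large `d`. -/
theorem exists_uniform_vanishing {R : Type u} [CommRing R] [IsNoetherianRing R]
    [X.Over (Spec (CommRingCat.of R))] [IsProper (X ↘ Spec (CommRingCat.of R))]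
    (hL : PicF.IsInvertible L) (hg : Curv2.IsGloballyGenerated (CohB1.tensorMod (ClSub.idealMod I) L))
    {A : X.Modules} (hA : CohB1.IsAmple A) :
    ∃ d₀ : ℕ, ∀ p d, d₀ ≤ d → ∀ q, 0 < q →
      Subsingleton (Coh.HH X (CohB1.tensorMod (pt I L p) (CohB1.tensorPow A d)) q) := by
  classical
  haveI := CohC3.isNoetherian_of_proper R X
  have hcoh : Coh.IsCoh (CohB1.tensorMod (ClSub.idealMod I) L) :=
    RefRank.isCoh_tensorMod (RefRank.isCoh_idealMod I) (VarietyBC.CurveGG.isCoh_of_isInvertible hL)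
  obtain ⟨T, hT⟩ := CohC3.exists_epi_secHom hcoh hg
  let t : Fin T.card → Γ(CohB1.tensorMod (ClSub.idealMod I) L, ⊤) := fun j => (T.equivFin.symm j).1
  have ht : ∀ V : X.affineOpens, ∀ y : Γ(CohB1.tensorMod (ClSub.idealMod I) L, V.1),
      ∃ a : Fin T.card → Γ(X, V.1), y = ∑ j, a j • res _ (le_top : V.1 ≤ ⊤) (t j) := by
    intro V y
    have hO : Coh.IsCoh (Coh.structureModule X) :=
      VarietyBC.CurveGG.isCoh_of_isInvertible (Ega2Proj.isInvertible_structure X)
    have := hcoh.1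
    have := (CohC3.isCoh_pw T.card hO).1
    obtain ⟨z, rfl⟩ := QCohMod.app_surjective_of_epi (CohC3.secHom T) V.2 y
    refine ⟨fun j => toFun ((biproduct.π (fun _ : Fin T.card => Coh.structureModule X) j).app V.1 z),
      ?_⟩
    conv_lhs => rw [← CohC3.pw_total_app V.1 z, map_sum]
    refine Finset.sum_congr rfl fun j _ => ?_
    rw [CohC3.app_comp_apply, biproduct.ι_desc, hom_structure_apply, homOfSection_one]
  obtain ⟨d₀, hd₀⟩ := CohC3.GSeq.exists_uniform_vanishing (A := R) hA (seq I hL t)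
    (fun p => RefRank.isCoh_tensorMod (RefRank.isCoh_idealMod _)
      (VarietyBC.CurveGG.isCoh_of_isInvertible (isInvertible_tensorPow hL p)))
    (gen_seq I hL t ht)
  exact ⟨d₀, hd₀⟩

end Groth.Variety2.Reg.PowVan
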