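import Groth.Agent.Variety2.Reg.TildeMap
import Groth.Agent.GrSyz.Res

/-!
# The complex of sheaves of a graded free resolution

For a graded free resolution `F` of `M` over the polynomial ring, `shE F i` is the sum of the `O(-deg)`
and `shD`, `shAug` are the induced maps; the resulting complex resolves `M~`.
-/

universe u

open CategoryTheory CategoryTheory.Limits AlgebraicGeometry Opposite TopologicalSpace
open Groth.PicAux Groth.Ega2Proj Groth.GrSyzLib

noncomputable section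

namespace Groth.Variety2.Reg

variable {r : ℕ} {k : Type u} [Field k]

/-- The polynomial ring. -/
local notation "S" => MvPolynomial (Fin (r + 1)) k
/-- Its grading by `ℕ`. -/
local notation "PP" => CohB1.polyGrading r k
/-- Its grading by `ℤ`. -/
local notation "GS" => GrSyz.stdGr k (Fin (r + 1))

lemma stdGr_nat_iff {j : ℕ} {p : S} : p ∈ GS (j : ℤ) ↔ p ∈ PP j := by
  rw [stdGr_natCast]

lemma canMul_ring {p : S} {δ n₀ n : ℤ} (hp : p ∈ GS δ) (hn : n = n₀ + δ) :
    Tilde.CanMul PP PP n₀ n p := by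
  intro i j a ha hdeg
  rcases hdeg with h | rfl
  · have hap : a * p ∈ GS ((i : ℤ) + δ) := SetLike.mul_mem_graded (stdGr_nat_iff.mpr ha) hp
    rcases lt_or_ge ((i : ℤ) + δ) 0 with hneg | hpos
    · exact ⟨0, by rw [smul_eq_mul, eq_zero_of_neg hneg hap]; exact zero_mem _,
        Or.inr (by rw [smul_eq_mul, eq_zero_of_neg hneg hap])⟩
    · obtain ⟨i', hi'⟩ : ∃ i' : ℕ, (i : ℤ) + δ = i' := ⟨_, (Int.toNat_of_nonneg hpos).symm⟩
      exact ⟨i', by rw [hi'] at hap; exact stdGr_nat_iff.mp hap, Or.inl (by omega)⟩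
  · exact ⟨0, by simp, Or.inr (by simp)⟩

variable {M : Type u} [AddCommGroup M] [Module k M] [Module (MvPolynomial (Fin (r + 1)) k) M]
  {ℳ : ℤ → Submodule k M} [DirectSum.Decomposition ℳ]
  [SetLike.GradedSMul (GrSyz.stdGr k (Fin (r + 1))) ℳ]
  [SetLike.GradedSMul (CohB1.polyGrading r k) (fun n : ℕ => ℳ (n : ℤ))]

omit [SetLike.GradedSMul (CohB1.polyGrading r k) (fun n : ℕ => ℳ (n : ℤ))] in
lemma canMul_module {m : M} {e : ℤ} (hm : m ∈ ℳ e) :
    Tilde.CanMul PP (fun n : ℕ => ℳ (n : ℤ)) (-e) 0 m := by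
  intro i j a ha hdeg
  rcases hdeg with h | rfl
  · refine ⟨j, ?_, Or.inl (by simp)⟩
    have := smul_mem' ℳ (stdGr_nat_iff.mpr ha) hm
    rwa [show (i : ℤ) + e = (j : ℤ) by omega] at this
  · exact ⟨0, by simp, Or.inr (by simp)⟩

/-! ## Free sheaves and vectors of fractions -/

section Free

variable {N : ℕ} (deg : Fin N → ℤ)

/-- `⊕ O(-deg b)`. -/
abbrev frSheaf : (Proj PP).Modules := ∐ fun b : Fin N => Twist.twist PP (-deg b)

variable {deg}

/-- The `b`-th fraction `v b / t`. -/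
def compSec {v : Fin N → S} {j : ℕ} (hv : v ∈ fr deg (j : ℤ)) {t : S} (ht : t ∈ PP j) {U : (Proj PP).Opens}
    (hU : ∀ x : ProjectiveSpectrum PP, x ∈ U → t ∉ x.asHomogeneousIdeal) (b : Fin N) :
    Γ(Twist.twist PP (-deg b), U) :=
  Ega2Proj.Tilde.fracSect PP PP (-deg b) U (i := ((j : ℤ) - deg b).toNat) (v b)
    (by
      rcases lt_or_ge ((j : ℤ) - deg b) 0 with h | h
      · rw [eq_zero_of_neg h (mem_fr.1 hv b)]; exact zero_mem _
      · exact stdGr_nat_iff.mp (by rw [Int.toNat_of_nonneg h]; exact mem_fr.1 hv b))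
    t ht (fun x => hU x.1 x.2)
    (by
      rcases lt_or_ge ((j : ℤ) - deg b) 0 with h | h
      · exact Or.inr (eq_zero_of_neg h (mem_fr.1 hv b))
      · exact Or.inl (by rw [Int.toNat_of_nonneg h]; ring))

@[simp] lemma wval_compSec {v : Fin N → S} {j : ℕ} (hv : v ∈ fr deg (j : ℤ)) {t : S} (ht : t ∈ PP j)
    {U : (Proj PP).Opens} (hU : ∀ x : ProjectiveSpectrum PP, x ∈ U → t ∉ x.asHomogeneousIdeal)
    (b : Fin N) (x : ProjectiveSpectrum PP) (hx : x ∈ U) :
    wval (compSec hv ht hU b) x hx = lfrac PP x (v b) (hU x hx) := rfl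

/-- The section of `⊕ O(-deg b)` with components `v b / t`. -/
def vecSec {v : Fin N → S} {j : ℕ} (hv : v ∈ fr deg (j : ℤ)) {t : S} (ht : t ∈ PP j) {U : (Proj PP).Opens}
    (hU : ∀ x : ProjectiveSpectrum PP, x ∈ U → t ∉ x.asHomogeneousIdeal) : Γ(frSheaf (r := r) (k := k) deg, U) :=
  ∑ b, (Sigma.ι (fun b : Fin N => Twist.twist PP (-deg b)) b).app U (compSec hv ht hU b)

variable (deg)

/-- The `b`-th projection. -/
def frProj (b : Fin N) : frSheaf (r := r) (k := k) deg ⟶ Twist.twist PP (-deg b) :=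
  PnCoh.sigmaProj (fun b : Fin N => Twist.twist PP (-deg b)) b

lemma frProj_total : ∑ b, frProj (r := r) (k := k) deg b ≫
    Sigma.ι (fun b : Fin N => Twist.twist PP (-deg b)) b = 𝟙 (frSheaf deg) :=
  PnCoh.sigmaProj_total _

lemma ι_frProj (a b : Fin N) :
    Sigma.ι (fun b : Fin N => Twist.twist PP (-deg b)) a ≫ frProj (r := r) (k := k) deg b =
      if h : a = b then eqToHom (congrArg (fun b => Twist.twist PP (-deg b)) h) else 0 :=
  Sigma.ι_desc _ _

variable {deg}

lemma frProj_vecSec {v : Fin N → S} {j : ℕ} (hv : v ∈ fr deg (j : ℤ)) {t : S} (ht : t ∈ PP j)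
    {U : (Proj PP).Opens} (hU : ∀ x : ProjectiveSpectrum PP, x ∈ U → t ∉ x.asHomogeneousIdeal) (b : Fin N) :
    (frProj deg b).app U (vecSec hv ht hU) = compSec hv ht hU b := by
  rw [vecSec, map_sum, Finset.sum_eq_single b]
  · refine (congr(($(ι_frProj (r := r) (k := k) deg b b)).app U (compSec hv ht hU b))).trans ?_
    rw [dif_pos rfl]
    rfl
  · intro a _ hab
    refine (congr(($(ι_frProj (r := r) (k := k) deg a b)).app U (compSec hv ht hU a))).trans ?_
    rw [dif_neg hab]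
    rfl
  · simp

lemma sec_total {U : (Proj PP).Opens} (z : Γ(frSheaf (r := r) (k := k) deg, U)) :
    z = ∑ b, (Sigma.ι (fun b : Fin N => Twist.twist PP (-deg b)) b).app U ((frProj deg b).app U z) := by
  refine (congr(($(frProj_total (r := r) (k := k) deg)).app U z)).symm.trans ?_
  rw [QCohMod.app_sum]
  rfl

/-- The germ of a section of a twisting sheaf vanishes iff its value does. -/
lemma twist_germ_eq_iff {n : ℤ} {U : (Proj PP).Opens} (s s' : Γ(Twist.twist PP n, U))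
    (x : ProjectiveSpectrum PP) (hx : x ∈ U) :
    QCohMod.germ (X := Proj PP) (Twist.twist PP n) x hx s = QCohMod.germ (X := Proj PP) (Twist.twist PP n) x hx s' ↔
      wval s x hx = wval s' x hx := by
  rw [← sub_eq_zero, ← map_sub]
  constructor
  · intro h
    exact sub_eq_zero.mp (Tilde.tval_eq_zero_of_germ (ℳ := PP) (s - s') x hx h)
  · intro h
    exact Tilde.germ_eq_zero (ℳ := PP) (s - s') x hx (sub_eq_zero.mpr h)

lemma germ_total {U : (Proj PP).Opens} (x : Proj PP) (hx : x ∈ U)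
    (z : Γ(frSheaf (r := r) (k := k) deg, U)) :
    QCohMod.germ (frSheaf deg) x hx z =
      ∑ b, (QCohMod.stalk x).map (Sigma.ι (fun b : Fin N => Twist.twist PP (-deg b)) b)
        (QCohMod.germ (Twist.twist PP (-deg b)) x hx ((frProj deg b).app U z)) := by
  conv_lhs => rw [sec_total z, map_sum]
  exact Finset.sum_congr rfl fun b _ => (QCohMod.stalk_map_germ _ x hx _).symm

/-- Every germ of `⊕ O(-deg b)` is the germ of a vector of fractions. -/
lemma exists_vecSec (x : Proj PP) (z : (QCohMod.stalk x).obj (frSheaf (r := r) (k := k) deg)) :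
    ∃ (v : Fin N → S) (j : ℕ) (hv : v ∈ fr deg (j : ℤ)) (t : S) (ht : t ∈ PP j)
      (hx : x ∈ Proj.basicOpen PP t),
      QCohMod.germ (frSheaf deg) x hx (vecSec hv ht (U := Proj.basicOpen PP t) fun _ hy => hy) = z := by
  classical
  obtain ⟨W, hxW, s, rfl⟩ := QCohMod.exists_germ (frSheaf deg) x z
  choose i j a t htx ha htj hdeg hval using fun b =>
    exists_lfrac_of_mem_twistAt ((((frProj deg b).app W s : Γ(Twist.twist PP (-deg b), W)).1 ⟨x, hxW⟩).2)
  let J : ℕ := ∑ b, j b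
  let T : S := ∏ b, t b
  let v : Fin N → S := fun b => a b * ∏ c ∈ Finset.univ.erase b, t c
  have hT : T ∈ PP J := SetLike.prod_mem_graded PP _ _ (fun b _ => htj b)
  have hxT : x ∈ Proj.basicOpen PP T := fun h => by
    obtain ⟨b, -, hb⟩ := (Ideal.IsPrime.prod_mem_iff (hp := x.isPrime)).mp h
    exact htx b hb
  have hv : v ∈ fr deg (J : ℤ) := mem_fr.2 fun b => by
    rcases hdeg b with h | h
    · have h1 : a b ∈ GS ((j b : ℤ) - deg b) := by
        rw [show (j b : ℤ) - deg b = (i b : ℤ) by omega]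
        exact stdGr_nat_iff.mpr (ha b)
      have h2 : ∏ c ∈ Finset.univ.erase b, t c ∈ GS ((∑ c ∈ Finset.univ.erase b, j c : ℕ) : ℤ) :=
        stdGr_nat_iff.mpr (SetLike.prod_mem_graded PP _ _ fun c _ => htj c)
      have h3 := SetLike.mul_mem_graded h1 h2
      rwa [show (j b : ℤ) - deg b + ((∑ c ∈ Finset.univ.erase b, j c : ℕ) : ℤ) = (J : ℤ) - deg b by
        simp only [J, ← Finset.add_sum_erase _ j (Finset.mem_univ b)]; push_cast; ring] at h3
    · simp [v, h]
  refine ⟨v, J, hv, T, hT, hxT, ?_⟩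
  rw [germ_total, germ_total]
  refine Finset.sum_congr rfl fun b _ => congrArg _ ?_
  rw [frProj_vecSec]
  refine Tilde.germ_congr (ℳ := PP) _ _ x hxT hxW ?_
  refine Eq.trans ?_ (hval b).symm
  change lfrac PP x (v b) _ = lfrac PP x (a b) _
  rw [lfrac, lfrac, Localization.mk_eq_mk_iff, Localization.r_iff_exists]
  refine ⟨1, ?_⟩
  simp only [OneMemClass.coe_one, one_mul, v, T, ← Finset.mul_prod_erase _ t (Finset.mem_univ b)]
  ring

/-- A vector of fractions whose germ vanishes is zero. -/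
lemma eq_zero_of_germ {v : Fin N → S} {j : ℕ} (hv : v ∈ fr deg (j : ℤ)) {t : S} (ht : t ∈ PP j)
    {U : (Proj PP).Opens} (hU : ∀ x : ProjectiveSpectrum PP, x ∈ U → t ∉ x.asHomogeneousIdeal)
    (x : Proj PP) (hx : x ∈ U) (h : QCohMod.germ (frSheaf deg) x hx (vecSec hv ht hU) = 0) : v = 0 := by
  funext b
  have hb := (congrArg ((QCohMod.stalk x).map (frProj deg b)) h).trans (map_zero _)
  have hb' : QCohMod.germ (X := Proj PP) (Twist.twist PP (-deg b)) x hx (compSec hv ht hU b) = 0 := by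
    rw [← frProj_vecSec hv ht hU b]
    exact (QCohMod.stalk_map_germ (frProj deg b) x hx _).symm.trans hb
  have h0 := Tilde.tval_eq_zero_of_germ (ℳ := PP) (compSec hv ht hU b) x hx hb'
  obtain ⟨u, hu, hu0⟩ := (Ega2Proj.Tilde.mk_eq_zero_iff PP).mp h0
  exact (mul_eq_zero.mp (show u * v b = 0 from hu0)).resolve_left fun h' => hu (h' ▸ zero_mem _)

lemma germ_vecSec_zero {j : ℕ} (hv : (0 : Fin N → S) ∈ fr deg (j : ℤ)) {t : S} (ht : t ∈ PP j)
    {U : (Proj PP).Opens} (hU : ∀ x : ProjectiveSpectrum PP, x ∈ U → t ∉ x.asHomogeneousIdeal) :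
    vecSec hv ht hU = 0 := by
  rw [vecSec]
  refine Finset.sum_eq_zero fun b _ => ?_
  rw [show compSec hv ht hU b = 0 from wval_ext fun x hx => by
    rw [wval_compSec]
    exact Localization.mk_zero _]
  exact map_zero _

end Free

/-! ## The complex of a resolution -/

variable (F : GrSyz.FreeRes (GrSyz.stdGr k (Fin (r + 1))) ℳ)

/-- The `i`-th term. -/
abbrev shE (i : ℕ) : (Proj PP).Modules := frSheaf (F.deg i)

/-- The `i`-th differential. -/
def shD (i : ℕ) : shE F (i + 1) ⟶ shE F i :=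
  Sigma.desc fun b => ∑ a,
    Tilde.map (canMul_ring (n₀ := -F.deg (i + 1) b) (n := -F.deg i a) (F.d_mem i a b) (by ring)) ≫
      Sigma.ι (fun a => Twist.twist PP (-F.deg i a)) a

/-- The augmentation to `M~`. -/
def shAug : shE F 0 ⟶ GrTilde.tilde PP (fun n : ℕ => ℳ (n : ℤ)) 0 :=
  Sigma.desc fun b => Tilde.map (canMul_module (F.aug_mem b))

lemma mk_sum {x : ProjectiveSpectrum PP} {N : ℕ} (q : Fin N → M) (t : x.asHomogeneousIdeal.toIdeal.primeCompl) :
    ∑ b, (LocalizedModule.mk (q b) t : GrTilde.LocMod PP (M := M) x) = LocalizedModule.mk (∑ b, q b) t := by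
  induction N with
  | zero => simp
  | succ N ih =>
    rw [Fin.sum_univ_succ, Fin.sum_univ_succ, ih, LocalizedModule.mk_add_mk, LocalizedModule.mk_eq]
    exact ⟨1, by simp [smul_add, smul_smul, Submonoid.smul_def]⟩

lemma shD_vecSec (i : ℕ) {v : Fin (F.rk (i + 1)) → S} {j : ℕ} (hv : v ∈ fr (F.deg (i + 1)) (j : ℤ))
    (hw : (F.d i).mulVecLin v ∈ fr (F.deg i) (j : ℤ)) {t : S} (ht : t ∈ PP j) {U : (Proj PP).Opens}
    (hU : ∀ x : ProjectiveSpectrum PP, x ∈ U → t ∉ x.asHomogeneousIdeal) :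
    (shD F i).app U (vecSec hv ht hU) = vecSec hw ht hU := by
  rw [vecSec, map_sum, vecSec]
  have e : ∀ b, (shD F i).app U ((Sigma.ι (fun b => Twist.twist PP (-F.deg (i + 1) b)) b).app U
      (compSec hv ht hU b)) = ∑ a, (Sigma.ι (fun a => Twist.twist PP (-F.deg i a)) a).app U
        ((Tilde.map (canMul_ring (n₀ := -F.deg (i + 1) b) (n := -F.deg i a) (F.d_mem i a b) (by ring))).app U
          (compSec hv ht hU b)) := fun b => by
    have h : Sigma.ι (fun b => Twist.twist PP (-F.deg (i + 1) b)) b ≫ shD F i = _ := Sigma.ι_desc _ _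
    refine (congr(($h).app U (compSec hv ht hU b))).trans ?_
    rw [QCohMod.app_sum]
    rfl
  refine (Finset.sum_congr rfl fun b _ => e b).trans ?_
  rw [Finset.sum_comm]
  refine Finset.sum_congr rfl fun a _ => ?_
  rw [← map_sum]
  refine congrArg _ (Ega2Proj.Tilde.tval_ext (ℳ := PP) fun x hx => ?_)
  let φ : Γ(Twist.twist PP (-F.deg i a), U) →+ GrTilde.LocMod PP (M := S) x :=
    AddMonoidHom.mk' (fun s => Ega2Proj.Tilde.tval (ℳ := PP) s x hx) fun _ _ => rfl
  refine (map_sum φ _ _).trans ?_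
  refine Eq.trans (Finset.sum_congr rfl fun b _ =>
    (Tilde.tval_map (ℳ := PP) _ (compSec hv ht hU b) x hx).trans ?_)
    ((mk_sum (M := S) (fun b => F.d i a b * v b) ⟨t, hU x hx⟩).trans rfl)
  rw [wval_compSec, LocalizedModule.mk_smul_mk]
  congr 1
  · exact mul_comm _ _
  · exact Subtype.ext (mul_one t)

lemma tval_shAug {v : Fin (F.rk 0) → S} {j : ℕ} (hv : v ∈ fr (F.deg 0) (j : ℤ)) {t : S} (ht : t ∈ PP j)
    {U : (Proj PP).Opens} (hU : ∀ x : ProjectiveSpectrum PP, x ∈ U → t ∉ x.asHomogeneousIdeal)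
    (x : ProjectiveSpectrum PP) (hx : x ∈ U) :
    Ega2Proj.Tilde.tval ((shAug F).app U (vecSec hv ht hU)) x hx =
      LocalizedModule.mk (F.augLin v) ⟨t, hU x hx⟩ := by
  rw [vecSec, map_sum]
  let φ : Γ(GrTilde.tilde PP (fun n : ℕ => ℳ (n : ℤ)) 0, U) →+ GrTilde.LocMod PP (M := M) x :=
    AddMonoidHom.mk' (fun s => Ega2Proj.Tilde.tval s x hx) fun _ _ => rfl
  refine (map_sum φ _ _).trans ?_
  refine Eq.trans (Finset.sum_congr rfl fun b _ => ?_)
    ((mk_sum (fun b => v b • F.aug b) ⟨t, hU x hx⟩).trans (by rw [Fintype.linearCombination_apply]))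
  have h : Sigma.ι (fun b => Twist.twist PP (-F.deg 0 b)) b ≫ shAug F =
      Tilde.map (canMul_module (F.aug_mem b)) := Sigma.ι_desc _ _
  refine (congrArg (fun s => Ega2Proj.Tilde.tval s x hx) (congr(($h).app U (compSec hv ht hU b)))).trans ?_
  refine (Tilde.tval_map _ (compSec hv ht hU b) x hx).trans ?_
  rw [wval_compSec, LocalizedModule.mk_smul_mk]
  congr 1
  exact Subtype.ext (mul_one t)

theorem epi_shAug : Epi (shAug F) := by
  refine (QCohMod.epi_iff_stalk _).mpr fun x z => ?_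
  obtain ⟨W, hxW, s, rfl⟩ := QCohMod.exists_germ (GrTilde.tilde PP (fun n : ℕ => ℳ (n : ℤ)) 0) (X := Proj PP) x z
  obtain ⟨i, j, m, t, htx, hm, htj, hdeg, hval⟩ :=
    Ega2Proj.Tilde.exists_frac_of_mem_tildeAt PP (fun n : ℕ => ℳ (n : ℤ)) 0 (Ega2Proj.Tilde.tval_mem s x hxW)
  have hmj : m ∈ ℳ (j : ℤ) := by
    rcases hdeg with h | h
    · rw [show (j : ℤ) = (i : ℤ) by omega]; exact hm
    · rw [h]; exact zero_mem _
  obtain ⟨v, hv, hvm⟩ := exists_preimage (fr (F.deg 0)) ℳ F.augLin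
    (linearCombination_mem ℳ F.aug_mem) hmj (LinearMap.range_eq_top.mpr F.aug_surjective ▸ Submodule.mem_top)
  have hxt : x ∈ Proj.basicOpen PP t := htx
  let u := vecSec hv htj (U := Proj.basicOpen PP t) fun _ hy => hy
  refine ⟨QCohMod.germ (shE F 0) x hxt u, (QCohMod.stalk_map_germ _ x hxt _).trans ?_⟩
  refine Tilde.germ_congr _ _ x hxt hxW ?_
  refine (tval_shAug F hv htj (fun _ hy => hy) x hxt).trans ?_
  refine Eq.trans ?_ hval.symm
  rw [hvm]

lemma eq_zero_of_stalk {X : Scheme.{u}} {M N : X.Modules} (φ : M ⟶ N)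
    (h : ∀ (x : X) (z : (QCohMod.stalk x).obj M), (QCohMod.stalk x).map φ z = 0) : φ = 0 := by
  refine CohTwo.hom_ext_app fun U s => ?_
  refine TopCat.Presheaf.section_ext ((Groth.CohBase.toAbF X).obj N) U _ _ fun x hx => ?_
  change QCohMod.germ N x hx (φ.app U s) = QCohMod.germ N x hx 0
  exact ((QCohMod.stalk_map_germ φ x hx s).symm.trans (h x _)).trans (map_zero _).symm

lemma shD_comp (i : ℕ) : shD F (i + 1) ≫ shD F i = 0 := by
  refine eq_zero_of_stalk _ fun x z => ?_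
  obtain ⟨v, j, hv, t, ht, hx, rfl⟩ := exists_vecSec x z
  have h1 := mulVec_mem (F.d_mem (i + 1)) _ v hv
  have h2 := mulVec_mem (F.d_mem i) _ _ h1
  refine (QCohMod.stalk_map_germ (shD F (i + 1) ≫ shD F i) x hx _).trans ?_
  rw [Scheme.Modules.Hom.comp_app, ConcreteCategory.comp_apply, shD_vecSec F (i + 1) hv h1,
    shD_vecSec F i h1 h2]
  have h0 : (F.d i).mulVecLin ((F.d (i + 1)).mulVecLin v) = 0 := by
    rw [← LinearMap.mem_ker, F.exact_succ]; exact ⟨v, rfl⟩
  rw [show vecSec h2 ht (U := Proj.basicOpen PP t) (fun _ hy => hy) = 0 by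
    revert h2; rw [h0]; exact fun h2 => germ_vecSec_zero h2 ht _]
  exact map_zero _

theorem exact_shD (i : ℕ) : (ShortComplex.mk (shD F (i + 1)) (shD F i) (shD_comp F i)).Exact := by
  refine (QCohMod.exact_iff_stalk _).mpr fun x => (ShortComplex.ab_exact_iff _).mpr fun z hz => ?_
  obtain ⟨v, j, hv, t, ht, hx, rfl⟩ := exists_vecSec x z
  have h1 := mulVec_mem (F.d_mem i) _ v hv
  have e := (QCohMod.stalk_map_germ (shD F i) x hx (vecSec hv ht fun _ hy => hy)).symm.trans hz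
  rw [shD_vecSec F i hv h1] at e
  have hker : v ∈ LinearMap.ker (F.d i).mulVecLin := eq_zero_of_germ h1 ht _ x hx e
  rw [F.exact_succ] at hker
  obtain ⟨w, hw, hwv⟩ := exists_preimage (fr (F.deg (i + 2))) (fr (F.deg (i + 1))) (F.d (i + 1)).mulVecLin
    (mulVec_mem (F.d_mem (i + 1))) hv hker
  refine ⟨QCohMod.germ (shE F (i + 2)) x hx (vecSec hw ht fun _ hy => hy),
    (QCohMod.stalk_map_germ _ x hx _).trans (congrArg _ ?_)⟩
  subst hwv
  exact shD_vecSec F (i + 1) hw hv ht _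

theorem exact_shD_shAug : ∃ w, (ShortComplex.mk (shD F 0) (shAug F) w).Exact := by
  classical
  have w : shD F 0 ≫ shAug F = 0 := by
    refine eq_zero_of_stalk _ fun x z => ?_
    obtain ⟨v, j, hv, t, ht, hx, rfl⟩ := exists_vecSec x z
    have h1 := mulVec_mem (F.d_mem 0) _ v hv
    refine (QCohMod.stalk_map_germ (shD F 0 ≫ shAug F) x hx _).trans (Tilde.germ_eq_zero _ x hx ?_)
    rw [Scheme.Modules.Hom.comp_app, ConcreteCategory.comp_apply, shD_vecSec F 0 hv h1, tval_shAug]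
    have h0 : F.augLin ((F.d 0).mulVecLin v) = 0 := by
      rw [← LinearMap.mem_ker, F.exact_zero]; exact ⟨v, rfl⟩
    rw [h0, LocalizedModule.zero_mk]
  refine ⟨w, (QCohMod.exact_iff_stalk _).mpr fun x => (ShortComplex.ab_exact_iff _).mpr fun z hz => ?_⟩
  obtain ⟨v, j, hv, t, ht, hx, rfl⟩ := exists_vecSec x z
  have h0 := Tilde.tval_eq_zero_of_germ _ x hx
    ((QCohMod.stalk_map_germ (shAug F) x hx (vecSec hv ht fun _ hy => hy)).symm.trans hz)
  rw [tval_shAug] at h0
  obtain ⟨u, hu, hu0⟩ := (Ega2Proj.Tilde.mk_eq_zero_iff PP).mp h0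
  -- a homogeneous component of `u` outside `x`
  obtain ⟨l, hl⟩ : ∃ l : ℕ, (DirectSum.decompose PP u l : S) ∉ x.asHomogeneousIdeal := by
    by_contra hc
    push Not at hc
    refine hu ?_
    rw [← DirectSum.sum_support_decompose PP u]
    exact Ideal.sum_mem _ fun l _ => hc l
  let c : S := DirectSum.decompose PP u l
  have hc : c ∈ PP l := SetLike.coe_mem _
  have hQ : F.augLin v ∈ ℳ (j : ℤ) := linearCombination_mem ℳ F.aug_mem _ v hv
  have hcQ : c • F.augLin v = 0 := by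
    have h2 := pr_smul_right ℳ hQ u ((l : ℤ) + j)
    rw [hu0, map_zero, add_sub_cancel_right] at h2
    have h3 : pr GS (l : ℤ) u = c := by
      conv_lhs => rw [← DirectSum.sum_support_decompose PP u, map_sum]
      rw [Finset.sum_eq_single l]
      · exact pr_of_mem GS (stdGr_nat_iff.mpr hc)
      · exact fun l' _ hl' => pr_of_mem_ne GS (stdGr_nat_iff.mpr (SetLike.coe_mem _)) (by omega)
      · intro hl'
        rw [DFinsupp.notMem_support_iff.mp hl', ZeroMemClass.coe_zero, map_zero]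
    rw [← h3]
    exact h2.symm
  have hv' : c • v ∈ fr (F.deg 0) ((l + j : ℕ) : ℤ) := by
    rw [Nat.cast_add]
    exact smul_mem' (fr (F.deg 0)) (stdGr_nat_iff.mpr hc) hv
  have hker : c • v ∈ LinearMap.ker F.augLin := by
    rw [LinearMap.mem_ker, map_smul, hcQ]
  rw [F.exact_zero] at hker
  obtain ⟨w', hw', hwv⟩ := exists_preimage (fr (F.deg 1)) (fr (F.deg 0)) (F.d 0).mulVecLin
    (mulVec_mem (F.d_mem 0)) hv' hker
  have hct : c * t ∈ PP (l + j) := SetLike.mul_mem_graded hc ht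
  have hxct : x ∈ Proj.basicOpen PP (c * t) :=
    x.asHomogeneousIdeal.toIdeal.primeCompl.mul_mem (show c ∈ x.asHomogeneousIdeal.toIdeal.primeCompl from hl) hx
  refine ⟨QCohMod.germ (shE F 1) x hxct (vecSec hw' hct fun _ hy => hy),
    (QCohMod.stalk_map_germ _ x hxct _).trans ?_⟩
  have h4 := mulVec_mem (F.d_mem 0) _ w' hw'
  rw [shD_vecSec F 0 hw' h4, germ_total, germ_total]
  refine Finset.sum_congr rfl fun b _ => congrArg _ ?_
  rw [frProj_vecSec, frProj_vecSec]
  refine Tilde.germ_congr (ℳ := PP) _ _ x hxct hx ?_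
  change lfrac PP x ((F.d 0).mulVecLin w' b) _ = lfrac PP x (v b) _
  rw [congrFun hwv b, lfrac, lfrac, Localization.mk_eq_mk_iff, Localization.r_iff_exists]
  refine ⟨1, ?_⟩
  simp only [OneMemClass.coe_one, one_mul, Pi.smul_apply, smul_eq_mul]
  ring

end Groth.Variety2.Reg
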