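import Groth.Agent.GrSyz.SubQuot

/-!
# Extending a grading by `ℕ` to a grading by `ℤ`
-/

universe u

open DirectSum

namespace Groth.Variety2.Reg

variable {k : Type u} [Field k] {σ : Type} {N : Type u} [AddCommGroup N] [Module k N]
  [Module (MvPolynomial σ k) N] (𝒩 : ℕ → Submodule k N)

/-- The extension by zero in negative degrees. -/
def zP : ℤ → Submodule k N
  | Int.ofNat n => 𝒩 n
  | Int.negSucc _ => ⊥

@[simp] lemma zP_natCast (n : ℕ) : zP 𝒩 (n : ℤ) = 𝒩 n := rfl

lemma zP_of_neg {g : ℤ} (hg : g < 0) : zP 𝒩 g = ⊥ := by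
  obtain ⟨m, rfl⟩ := Int.eq_negSucc_of_lt_zero hg
  rfl

lemma zP_isInternal [Decomposition 𝒩] : DirectSum.IsInternal (zP 𝒩) := by
  classical
  let q : ℤ → N →ₗ[k] N := fun g =>
    if 0 ≤ g then (𝒩 g.toNat).subtype ∘ₗ DirectSum.component k ℕ (fun n => 𝒩 n) g.toNat ∘ₗ
      (DirectSum.decomposeLinearEquiv 𝒩).toLinearMap else 0
  have hq : ∀ (n : ℕ) (x : N), q (n : ℤ) x = (decompose 𝒩 x n : N) := fun n x => by
    simp only [q, Int.natCast_nonneg, if_true, Int.toNat_natCast]
    rfl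
  refine GrSyzLib.isInternal_of_proj _ q (fun g x hx => ?_) (fun g j hne x hx => ?_) (fun g x => ?_)
    fun x => ?_
  · rcases lt_or_ge g 0 with hg | hg
    · rw [zP_of_neg 𝒩 hg, Submodule.mem_bot] at hx
      rw [hx, map_zero]
    · lift g to ℕ using hg
      rw [hq, decompose_of_mem_same 𝒩 hx]
  · rcases lt_or_ge j 0 with hj | hj
    · rw [zP_of_neg 𝒩 hj, Submodule.mem_bot] at hx
      rw [hx, map_zero]
    · lift j to ℕ using hj
      rcases lt_or_ge g 0 with hg | hg
      · simp [q, hg.not_ge]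
      · lift g to ℕ using hg
        rw [hq, decompose_of_mem_ne 𝒩 hx fun h => hne (congrArg _ h.symm)]
  · rcases lt_or_ge g 0 with hg | hg
    · rw [zP_of_neg 𝒩 hg]
      simp [q, hg.not_ge]
    · lift g to ℕ using hg
      rw [hq]
      exact SetLike.coe_mem _
  · refine ⟨(decompose 𝒩 x).support.image Nat.cast, ?_⟩
    rw [Finset.sum_image Nat.cast_injective.injOn]
    simp only [hq]
    exact sum_support_decompose 𝒩 x

variable [SetLike.GradedSMul (MvPolynomial.homogeneousSubmodule σ k) 𝒩]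

lemma zP_gradedSMul : SetLike.GradedSMul (GrSyz.stdGr k σ) (zP 𝒩) := by
  refine ⟨fun {i j p x} hp hx => ?_⟩
  rcases lt_or_ge i 0 with hi | hi
  · rw [GrSyzLib.eq_zero_of_neg hi hp, zero_smul]
    exact zero_mem _
  rcases lt_or_ge j 0 with hj | hj
  · rw [zP_of_neg 𝒩 hj, Submodule.mem_bot] at hx
    rw [hx, smul_zero]
    exact zero_mem _
  lift i to ℕ using hi
  lift j to ℕ using hj
  rw [GrSyzLib.stdGr_natCast] at hp
  exact SetLike.GradedSMul.smul_mem (A := MvPolynomial.homogeneousSubmodule σ k) (B := 𝒩) hp hx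

end Groth.Variety2.Reg
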