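import Groth.Agent.Variety2.Reg.FreeSheaf
import Groth.Agent.Variety2.Reg.Seq
import Groth.Agent.Variety2.Reg.Complex

/-!
# Regularity of the sheaf of a module of bounded regularity
-/

universe u

open CategoryTheory CategoryTheory.Limits AlgebraicGeometry Opposite TopologicalSpace

namespace Groth.Variety2.Reg

variable {r : ℕ} {k : Type u} [Field k]

lemma subsingleton_fT_frSheaf {N : ℕ} (deg : Fin N → ℤ) (c : ℤ) {q : ℕ} (hq : 1 ≤ q)
    (h : q = r → ∀ b, -(r : ℤ) ≤ c - deg b) :
    Subsingleton (Coh.HH (CohB1.ProjSpace r k)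
      (fT (show (CohB1.ProjSpace r k).Modules from frSheaf deg) c) q) := by
  let L : Fin N → (CohB1.ProjSpace r k).Modules := fun b => Twist.twistProjSpace r k (-deg b)
  let T := DCoh.tensorRightMod (Twist.twistProjSpace r k c)
  haveI : T.Additive := DCoh.additive_tensorRightMod _
  refine subsingleton_of_decomp (k := k) Finset.univ (fun b => T.obj (L b))
    (fun b => T.map (PnCoh.sigmaProj L b)) (fun b => T.map (Sigma.ι L b)) ?_ fun b => ?_
  · simp only [← T.map_comp]
    rw [← Functor.map_sum, PnCoh.sigmaProj_total]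
    exact T.map_id _
  · obtain ⟨e⟩ := Ega2Proj.nonempty_tensor_iso (gen_one r k) (-deg b) c
    refine subsingleton_of_iso (X := CohB1.ProjSpace r k) k e.symm
      (PnCoh.subsingleton_HH_twist _ q (fun h' => by omega) fun h' => ?_)
    have := h h'.1 b
    omega

variable {M : Type u} [AddCommGroup M] [Module k M] [Module (MvPolynomial (Fin (r + 1)) k) M]
  {ℳ : ℤ → Submodule k M} [DirectSum.Decomposition ℳ]
  [SetLike.GradedSMul (GrSyz.stdGr k (Fin (r + 1))) ℳ]
  [SetLike.GradedSMul (CohB1.polyGrading r k) (fun n : ℕ => ℳ (n : ℤ))]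

/-- A module with a resolution generated in degrees `≤ d + i` has `d`-regular sheaf. -/
theorem mReg_tilde_of_isGenLE (F : GrSyz.FreeRes (GrSyz.stdGr k (Fin (r + 1))) ℳ) {d : ℤ}
    (hF : F.IsGenLE d) :
    Curv2.IsMRegular k r (GrTilde.tilde (CohB1.polyGrading r k) (fun n : ℕ => ℳ (n : ℤ)) 0) d := by
  haveI : IsLocallyNoetherian (CohB1.ProjSpace r k) := PnCoh.isLocallyNoetherian_projSpace r k
  let E : ℕ → (CohB1.ProjSpace r k).Modules := fun i => shE F i
  let D : ∀ i, E (i + 1) ⟶ E i := fun i => shD F i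
  have hE : ∀ i, Coh.IsCoh (E i) := fun i => PnCoh.isCoh_sigma _ fun _ => PnCoh.isCoh_twist r k _
  have key : ∀ (e i p : ℕ), 1 ≤ p → r + 1 ≤ p + e →
      Subsingleton (Coh.HH _ (fT (Abelian.image (D i)) (d + i + 1 - p)) p) := by
    intro e
    induction e with
    | zero =>
      intro i p _ hp
      haveI := (isCoh_image (D i) (hE (i + 1)) (hE i)).1
      exact subsingleton_fT_of_lt _ _ (by omega)
    | succ e ih =>
      intro i p hp hpe
      refine subsingleton_image_step (ShortComplex.mk (D (i + 1)) (D i) (shD_comp F i)) _ ?_ ?_ ?_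
      · refine subsingleton_fT_frSheaf (F.deg (i + 1)) _ hp fun hpr b => ?_
        have := hF (i + 1) b
        omega
      · have := ih (i + 1) (p + 1) (by omega) (by omega)
        rwa [show d + ((i + 1 : ℕ) : ℤ) + 1 - ((p + 1 : ℕ) : ℤ) = d + i + 1 - p by push_cast; ring] at this
      · refine subsingleton_of_isZero' (X := CohB1.ProjSpace r k) k ?_ _
        exact (DCoh.tensorRightMod _).map_isZero
          ((ShortComplex.exact_iff_isZero_homology _).mp (exact_shD F i))
  intro q hq hqr
  obtain ⟨w, hw⟩ := exact_shD_shAug F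
  let aug : E 0 ⟶ (GrTilde.tilde (CohB1.polyGrading r k) (fun n : ℕ => ℳ (n : ℤ)) 0 :
      (CohB1.ProjSpace r k).Modules) := shAug F
  haveI : Epi aug := epi_shAug F
  have hse : (ShortComplex.mk (Abelian.image.ι (D 0)) aug (by
      rw [← cancel_epi (Abelian.factorThruImage (D 0)), ← Category.assoc, Abelian.image.fac]
      exact w.trans comp_zero.symm)).ShortExact :=
    { exact := by
        refine (ShortComplex.exact_iff_of_epi_of_isIso_of_mono
          (S₁ := ShortComplex.mk (D 0) aug w) (S₂ := ShortComplex.mk (Abelian.image.ι (D 0)) aug _)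
          { τ₁ := Abelian.factorThruImage (D 0), τ₂ := 𝟙 _, τ₃ := 𝟙 _ }).mp hw }
  refine subsingleton_right k (shortExact_fT hse (d - q)) ?_ ?_
  · refine subsingleton_fT_frSheaf (F.deg 0) _ hq fun hqr' b => ?_
    have := hF 0 b
    omega
  · have := key (r + 1) 0 (q + 1) (by omega) (by omega)
    rwa [show d + ((0 : ℕ) : ℤ) + 1 - ((q + 1 : ℕ) : ℤ) = d - q by push_cast; ring] at this

end Groth.Variety2.Reg
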