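import Groth.Agent.Variety2.Reg.Pn
import Groth.Agent.Variety2.Reg.Support
import Groth.Agent.Variety2.Reg.Seq
import Groth.Agent.VarietyBC.CurveGG
import Groth.Agent.HilbStab.Mult
import Groth.Agent.Duality.SupportVanish
import Groth.Agent.Ega2Proj.TwistGen
import Groth.Agent.EulerDeg.Basic

/-!
# Growth of cohomology in negative twists: `h^i(F(-c)) = O(c^i)`
-/

universe u

open CategoryTheory CategoryTheory.Limits AlgebraicGeometry Opposite TopologicalSpace
open Groth.PicAux

noncomputable section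

namespace Groth.Variety2.Reg.NegGrowth

/-- Removing the sections supported off a quasi-compact open: the kernel avoids the open. -/
theorem exists_quotient_injective {X : Scheme.{u}} [IsLocallyNoetherian X] {M F : X.Modules}
    (hF : Coh.IsCoh F) (s : Γ(M, ⊤)) (hqc : QuasiCompact (Groth.PropsBasic.Ample.gloc s).ι) :
    ∃ (G : X.Modules) (q : F ⟶ G), Epi q ∧ Coh.IsCoh G ∧ Coh.IsCoh (kernel q) ∧
      CohB1.support (kernel q) ⊆ (Groth.PropsBasic.Ample.gloc s : Set X)ᶜ ∧
      Mono (HilbStab.mulSec s G) := by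
  haveI := hF.1
  haveI := hqc
  let U := Groth.PropsBasic.Ample.gloc s
  let η : F ⟶ (Scheme.Modules.pushforward U.ι).obj ((Scheme.Modules.restrictFunctor U.ι).obj F) :=
    (Scheme.Modules.restrictAdjunction U.ι).unit.app F
  haveI hq1 : ((Scheme.Modules.restrictFunctor U.ι).obj F).IsQuasicoherent := inferInstance
  haveI hq2 : ((Scheme.Modules.pushforward U.ι).obj
      ((Scheme.Modules.restrictFunctor U.ι).obj F)).IsQuasicoherent :=
    QCohMod.isQCoh_pushforward _ U.ι
  have hK : Coh.IsCoh (kernel η) := QCohMod.isCoh_kernel η hF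
  haveI := hK.1
  have hG : Coh.IsCoh (Abelian.coimage η) := QCohMod.isCoh_cokernel (kernel.ι η) hF
  haveI := hG.1
  refine ⟨Abelian.coimage η, Abelian.coimage.π η, inferInstance, hG,
    QCohMod.isCoh_kernel _ hF, fun x hxK hx => hxK ?_, ?_⟩
  · have hinj : Function.Injective ((QCohMod.stalk x).map η) := by
      have h := CohTwo.restrict_stalk_map η U ⟨x, hx⟩
      have hsplit : Function.Injective ((QCohMod.stalk (⟨x, hx⟩ : (U : Scheme.{u}))).map
          ((Scheme.Modules.restrictFunctor U.ι).map η)) := by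
        haveI : IsSplitMono ((Scheme.Modules.restrictFunctor U.ι).map η) :=
          IsSplitMono.mk' ⟨(Scheme.Modules.restrictAdjunction U.ι).counit.app _,
            Adjunction.left_triangle_components _ _⟩
        exact (AddCommGrpCat.mono_iff_injective _).1 inferInstance
      rw [h] at hsplit
      have hm := (AddCommGrpCat.mono_iff_injective _).2 hsplit
      exact (AddCommGrpCat.mono_iff_injective _).1 (HilbStab.mono_of_conj
        ((Scheme.Modules.restrictStalkNatIso U.ι ⟨x, hx⟩).app _)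
        ((Scheme.Modules.restrictStalkNatIso U.ι ⟨x, hx⟩).app _) _ hm)
    have hinj' : Function.Injective ((QCohMod.stalk x).map (Abelian.coimage.π η)) := fun a b hab =>
      hinj (by
        rw [← Abelian.coimage.fac η, Functor.map_comp, ConcreteCategory.comp_apply,
          ConcreteCategory.comp_apply, hab])
    haveI := (AddCommGrpCat.mono_iff_injective _).2 hinj'
    exact AddCommGrpCat.subsingleton_of_isZero
      ((isZero_kernel_of_mono ((QCohMod.stalk x).map (Abelian.coimage.π η))).of_iso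
        (PreservesKernel.iso (QCohMod.stalk x) _))
  · refine Preadditive.mono_of_kernel_zero ?_
    let m := Abelian.factorThruCoimage η
    have hmono : Mono m := inferInstance
    have hz : IsZero ((Scheme.Modules.restrictFunctor U.ι).obj
        (kernel (HilbStab.mulSec s (Abelian.coimage η)))) :=
      (QCohMod.isZero_iff_stalk _).2 fun y => CohTwo.subsingleton_stalk_restrict _ _ y
        fun hy => HilbStab.support_kernel_mulSec_subset s _ hy y.2
    rw [← cancel_mono m, zero_comp]
    exact ((Scheme.Modules.restrictAdjunction U.ι).homEquiv _ _).symm.injective (hz.eq_of_src _ _)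

lemma finrank_mid_le {k A B C : Type*} [Field k] [AddCommGroup A] [Module k A] [AddCommGroup B]
    [Module k B] [AddCommGroup C] [Module k C] [Module.Finite k A] [Module.Finite k B]
    [Module.Finite k C] (f : A →ₗ[k] B) (g : B →ₗ[k] C) (h : Function.Exact f g) :
    Module.finrank k B ≤ Module.finrank k A + Module.finrank k C := by
  have h1 := LinearMap.finrank_range_add_finrank_ker g
  have h2 := Submodule.finrank_le (LinearMap.range g)
  have h3 : Module.finrank k (LinearMap.ker g) ≤ Module.finrank k A := by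
    rw [h.linearMap_ker_eq]
    exact LinearMap.finrank_range_le f
  omega

lemma finrank_inj_le {k A B : Type*} [Field k] [AddCommGroup A] [Module k A] [AddCommGroup B]
    [Module k B] [Module.Finite k B] (f : A →ₗ[k] B) (h : Function.Injective f) :
    Module.finrank k A ≤ Module.finrank k B := LinearMap.finrank_le_finrank_of_injective h

section Generic

variable {X : Scheme.{u}} (k : Type u) [Field k] [X.Over (Spec (CommRingCat.of k))]

/-- `dim H^q(M)`. -/
def hrank (M : X.Modules) (q : ℕ) : ℕ := Module.finrank k (Coh.HH X M q)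

/-- `H^q(M)` is finite-dimensional. -/
def HFin (M : X.Modules) (q : ℕ) : Prop := Module.Finite k (Coh.HH X M q)

variable {S : ShortComplex X.Modules} (hS : S.ShortExact)

include hS in
lemma hrank_mid_le (q : ℕ) (hA : HFin k S.X₁ q) (hB : HFin k S.X₂ q) (hC : HFin k S.X₃ q) :
    hrank k S.X₂ q ≤ hrank k S.X₁ q + hrank k S.X₃ q := by
  unfold HFin at hA hB hC
  exact finrank_mid_le _ _ (EulerDeg.exact_mid k hS q)

include hS in
lemma hrank_left_le (q : ℕ) (hA : HFin k S.X₁ (q + 1)) (hB : HFin k S.X₂ (q + 1)) (hC : HFin k S.X₃ q) :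
    hrank k S.X₁ (q + 1) ≤ hrank k S.X₃ q + hrank k S.X₂ (q + 1) := by
  unfold HFin at hA hB hC
  exact finrank_mid_le _ _ (EulerDeg.exact_left k hS q)

include hS in
lemma hrank_zero_le (q : ℕ) (hq : q = 0) (hB : HFin k S.X₂ q) : hrank k S.X₁ q ≤ hrank k S.X₂ q := by
  subst hq
  unfold HFin at hB
  exact finrank_inj_le _ (EulerDeg.injective_zero k hS)

lemma hrank_congr {M N : X.Modules} (e : M ≅ N) (q : ℕ) : hrank k M q = hrank k N q :=
  LinearEquiv.finrank_eq (EulerDeg.hEquiv k e q)

lemma hrank_eq_zero {M : X.Modules} (q : ℕ) (h : Subsingleton (Coh.HH X M q)) : hrank k M q = 0 := by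
  unfold hrank
  exact Module.finrank_zero_of_subsingleton

end Generic

variable {n : ℕ} {k : Type u} [Field k]

lemma gen_res_oneGlobal {f : MvPolynomial (Fin (n + 1)) k} (hf : f ∈ CohB1.polyGrading n k 1) :
    Gen (Twist.twist (CohB1.polyGrading n k) 1) (Proj.basicOpen (CohB1.polyGrading n k) f)
      (res _ le_top (Ega2Proj.oneGlobal hf)) := by
  have e : res (Twist.twist (CohB1.polyGrading n k) 1) (le_top : Proj.basicOpen _ f ≤ ⊤)
      (Ega2Proj.oneGlobal hf) = Ega2Proj.pwSec (N := 1) hf 1 (by simp) fun _ hx => hx := by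
    refine Ega2Proj.wval_ext fun x hx => ?_
    rw [Ega2Proj.wval_res, Ega2Proj.wval_oneGlobal]
    refine Eq.trans ?_ (Ega2Proj.wval_pwSec hf 1 (by simp) (fun _ hx => hx) x hx).symm
    rw [zpow_one]
    exact (Ega2Proj.coe_funit x hx).symm
  rw [e]
  exact Ega2Proj.gen_pwSec _ _ _ _

/-- `dim H^q(F(a))`. -/
abbrev hdim (F : (CohB1.ProjSpace n k).Modules) (a : ℤ) (q : ℕ) : ℕ := hrank k (fT F a) q

lemma finite_of_coh (M : (CohB1.ProjSpace n k).Modules) (hM : Coh.IsCoh M) (q : ℕ) : HFin k M q :=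
  PnCoh.hFin_projSpace n k M hM q

lemma finite_fT {F : (CohB1.ProjSpace n k).Modules} (hF : Coh.IsCoh F) (a : ℤ) (q : ℕ) :
    HFin k (fT F a) q :=
  finite_of_coh _ (isCoh_fT F hF a) q

lemma hdim_mid_le {A B C : (CohB1.ProjSpace n k).Modules} (f : A ⟶ B) (g : B ⟶ C) (w : f ≫ g = 0)
    (hS : (ShortComplex.mk f g w).ShortExact) (hA : Coh.IsCoh A) (hB : Coh.IsCoh B) (hC : Coh.IsCoh C)
    (a : ℤ) (q : ℕ) : hdim B a q ≤ hdim A a q + hdim C a q :=
  hrank_mid_le k (shortExact_fT hS a) q (finite_fT hA a q) (finite_fT hB a q) (finite_fT hC a q)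

lemma hdim_left_le {A B C : (CohB1.ProjSpace n k).Modules} (f : A ⟶ B) (g : B ⟶ C) (w : f ≫ g = 0)
    (hS : (ShortComplex.mk f g w).ShortExact) (hA : Coh.IsCoh A) (hB : Coh.IsCoh B) (hC : Coh.IsCoh C)
    (a : ℤ) (q : ℕ) : hdim A a (q + 1) ≤ hdim C a q + hdim B a (q + 1) :=
  hrank_left_le k (shortExact_fT hS a) q (finite_fT hA a (q + 1)) (finite_fT hB a (q + 1))
    (finite_fT hC a q)

lemma hdim_zero_le {A B C : (CohB1.ProjSpace n k).Modules} (f : A ⟶ B) (g : B ⟶ C) (w : f ≫ g = 0)
    (hS : (ShortComplex.mk f g w).ShortExact) (hB : Coh.IsCoh B) (a : ℤ) (q : ℕ) (hq : q = 0) :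
    hdim A a q ≤ hdim B a q :=
  hrank_zero_le k (shortExact_fT hS a) q hq (finite_fT hB a q)

/-- The property of growing at most like `c^q` in `H^q`. -/
def Bound (F : (CohB1.ProjSpace n k).Modules) : Prop :=
  ∀ q : ℕ, ∃ C : ℕ, ∀ c : ℕ, hdim F (-(c : ℤ)) q ≤ C * (c + 1) ^ q

lemma bound_of_support (F : (CohB1.ProjSpace n k).Modules) (hF : Coh.IsCoh F) : Bound F := by
  haveI : IsProper (CohB1.ProjSpace.toSpec n k) := inferInstance
  haveI : IsLocallyNoetherian (CohB1.ProjSpace n k) := PnCoh.isLocallyNoetherian_projSpace n k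
  haveI : CompactSpace (CohB1.ProjSpace n k) :=
    QuasiCompact.compactSpace_of_compactSpace (CohB1.ProjSpace.toSpec n k)
  haveI : IsNoetherian (CohB1.ProjSpace n k) := {}
  suffices H : ∀ Y : Closeds (CohB1.ProjSpace n k), ∀ F : (CohB1.ProjSpace n k).Modules,
      Coh.IsCoh F → CohB1.support F ⊆ Y → Bound F from
    H ⟨_, CohTwo.isClosed_support F hF⟩ F hF subset_rfl
  intro Y
  induction Y using WellFoundedLT.induction with
  | ind Y ih =>
  intro F hF hsupp q
  rcases Set.eq_empty_or_nonempty (Y : Set (CohB1.ProjSpace n k)) with hY | ⟨x, hx⟩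
  · refine ⟨0, fun c => ?_⟩
    have : Subsingleton (Coh.HH _ (fT F (-(c : ℤ))) q) :=
      subsingleton_of_isZero' (X := CohB1.ProjSpace n k) k ((QCohMod.isZero_iff_support_eq_empty _).2
        (Set.subset_eq_empty ((support_fT_subset F _).trans hsupp) hY)) q
    rw [hdim, hrank_eq_zero k q this]
    exact Nat.zero_le _
  obtain ⟨i, hi⟩ := Opens.mem_iSup.mp ((PnCoh.isAcyclicCover_stdOpen n k).cover.ge
    (show x ∈ (⊤ : (CohB1.ProjSpace n k).Opens) from trivial))
  let L : (CohB1.ProjSpace n k).Modules := Twist.twistProjSpace n k 1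
  let s : Γ(L, ⊤) := Ega2Proj.oneGlobal (X_mem n k i.down)
  have hxs : x ∈ Groth.PropsBasic.Ample.gloc s := by
    refine Groth.PropsBasic.Ample.le_gloc ?_ hi
    exact gen_res_oneGlobal (X_mem n k i.down)
  let Y' : Closeds (CohB1.ProjSpace n k) :=
    ⟨(Y : Set (CohB1.ProjSpace n k)) ∩ (Groth.PropsBasic.Ample.gloc s : Set (CohB1.ProjSpace n k))ᶜ,
      Y.2.inter (Groth.PropsBasic.Ample.gloc s).2.isClosed_compl⟩
  have hlt : Y' < Y := lt_of_le_of_ne Set.inter_subset_left fun e =>
    (show x ∈ (Y' : Set (CohB1.ProjSpace n k)) by rw [e]; exact hx).2 hxs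
  obtain ⟨G, π, hπ, hG, hKc, hKs, hmono⟩ := exists_quotient_injective hF s inferInstance
  have hGs : CohB1.support G ⊆ Y := (CohTwo.support_subset_of_epi π).trans hsupp
  obtain ⟨CK, hCK⟩ := ih Y' hlt (kernel π) hKc (Set.subset_inter
    ((CohTwo.support_subset_of_mono (kernel.ι π)).trans hsupp) hKs) q
  suffices hGq : ∃ C : ℕ, ∀ c : ℕ, hdim G (-(c : ℤ)) q ≤ C * (c + 1) ^ q by
    obtain ⟨CG, hCG⟩ := hGq
    refine ⟨CK + CG, fun c => ?_⟩
    refine (hdim_mid_le _ _ _ (VarietyBC.CurveGG.shortExact_of_epi π) hKc hF hG _ q).trans ?_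
    rw [add_mul]
    exact add_le_add (hCK c) (hCG c)
  have hG1 : Coh.IsCoh (CohB1.tensorMod G L) := isCoh_fT G hG 1
  haveI := hG.1
  haveI := hG1.1
  have hQc : Coh.IsCoh (cokernel (HilbStab.mulSec s G)) := QCohMod.isCoh_cokernel _ hG1
  have hQs : CohB1.support (cokernel (HilbStab.mulSec s G)) ⊆ (Y' : Set (CohB1.ProjSpace n k)) :=
    Set.subset_inter (((CohTwo.support_subset_of_epi (cokernel.π (HilbStab.mulSec s G))).trans (support_fT_subset G 1)).trans hGs)
      (HilbStab.support_cokernel_mulSec_subset s G)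
  have hS := CohTwo.cokerSeq_shortExact (HilbStab.mulSec s G)
  have hshift : ∀ (c : ℕ) (q : ℕ),
      hdim (CohB1.tensorMod G L) (-((c + 1 : ℕ) : ℤ)) q = hdim G (-(c : ℤ)) q := fun c q => by
    obtain ⟨e⟩ := nonempty_twist_twist G 1 (-((c + 1 : ℕ) : ℤ)) (-(c : ℤ)) (by push_cast; ring)
    exact hrank_congr k e q
  cases q with
  | zero =>
    refine ⟨hdim G 0 0, fun c => ?_⟩
    rw [pow_zero, mul_one]
    induction c with
    | zero => simp
    | succ c ihc => exact ((hdim_zero_le _ _ _ hS hG1 _ 0 rfl).trans_eq (hshift c 0)).trans ihc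
  | succ p =>
    obtain ⟨CQ, hCQ⟩ := ih Y' hlt _ hQc hQs p
    refine ⟨max (hdim G 0 (p + 1)) CQ * 2 ^ (p + 1), fun c => ?_⟩
    induction c with
    | zero =>
      rw [Nat.cast_zero, neg_zero, zero_add, one_pow, mul_one]
      exact (le_max_left _ _).trans (Nat.le_mul_of_pos_right _ (by positivity))
    | succ c ihc =>
      refine (hdim_left_le _ _ _ hS hG hG1 hQc _ p).trans ?_
      rw [hshift c (p + 1)]
      refine (add_le_add (hCQ (c + 1)) ihc).trans ?_
      set M := max (hdim G 0 (p + 1)) CQ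
      have h1 : CQ ≤ M * 2 ^ (p + 1) :=
        (le_max_right _ _).trans (Nat.le_mul_of_pos_right _ (by positivity))
      calc CQ * (c + 1 + 1) ^ p + M * 2 ^ (p + 1) * (c + 1) ^ (p + 1)
          ≤ M * 2 ^ (p + 1) * (c + 1 + 1) ^ p + M * 2 ^ (p + 1) * ((c + 1) * (c + 1 + 1) ^ p) := by
            gcongr
            rw [pow_succ, mul_comm]
            gcongr
            omega
        _ = M * 2 ^ (p + 1) * (c + 1 + 1) ^ (p + 1) := by rw [pow_succ (c + 1 + 1) p]; ring

end Groth.Variety2.Reg.NegGrowth
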