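import Groth.Agent.GrMod.KoszulReg
import Mathlib.LinearAlgebra.Matrix.Adjugate
import Mathlib.Data.Finset.Sort

/-!
# The Eagon–Northcott complex of a matrix: homology is killed by the maximal minors

`K` consists of the functions `Finset (Fin n) → (Fin m →₀ ℕ) → R` (exterior monomial, monomial of the
inverse system).  `d` is the Koszul differential of the operators `∑ i, A i k • Yᵢ` and the Eagon–Northcott
complex sits in bidegrees `(m + s, s)`, augmented by the maximal minors.
-/

universe u

open GrothGr Finsupp

noncomputable section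

namespace Groth.Variety2.Reg.EN

variable {R : Type u} [CommRing R] {m n : ℕ}

/-- The ambient module. -/
abbrev K (R : Type u) (m n : ℕ) : Type u := Finset (Fin n) → (Fin m →₀ ℕ) → R

/-- Exterior multiplication by the `k`-th basis vector. -/
def khom (k : Fin n) : (Finset (Fin n) → R) →ₗ[R] (Finset (Fin n) → R) where
  toFun f S := if k ∈ S then ksgn R k (S.erase k) * f (S.erase k) else 0
  map_add' f g := funext fun S => by
    simp only [Pi.add_apply]
    split_ifs <;> ring
  map_smul' c f := funext fun S => by
    simp only [Pi.smul_apply, smul_eq_mul, RingHom.id_apply]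
    split_ifs <;> ring

lemma khom_apply (k : Fin n) (f : Finset (Fin n) → R) (S : Finset (Fin n)) :
    khom k f S = if k ∈ S then ksgn R k (S.erase k) * f (S.erase k) else 0 := rfl

lemma koz_add_khom (x : Fin n → R) (k : Fin n) (f : Finset (Fin n) → R) (S : Finset (Fin n)) :
    koz x R (khom k f) S + khom k (koz x R f) S = x k * f S := by
  classical
  rw [koz_apply]
  by_cases hk : k ∈ S
  · have hkT : k ∉ S.erase k := Finset.notMem_erase k S
    rw [khom_apply, if_pos hk, koz_apply, Finset.mul_sum, ← Finset.sum_add_distrib,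
      Finset.sum_eq_single k]
    · rw [if_pos hk, if_neg hkT, Finset.insert_erase hk, smul_eq_mul, zero_add]
      linear_combination (x k * f S) * ksgn_mul_self (R := R) k (S.erase k)
    · intro l _ hlk
      by_cases hlS : l ∈ S
      · rw [if_pos hlS, if_pos (Finset.mem_erase.2 ⟨hlk, hlS⟩), mul_zero, add_zero]
      have hlT : l ∉ S.erase k := fun h => hlS (Finset.mem_of_mem_erase h)
      rw [if_neg hlS, if_neg hlT, khom_apply, if_pos (Finset.mem_insert_of_mem hk),
        Finset.erase_insert_of_ne hlk, smul_eq_mul, smul_eq_mul]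
      have hac := ksgn_anticomm (R := R) (Ne.symm hlk) hkT hlT
      rw [Finset.insert_erase hk] at hac
      have h1 := ksgn_mul_self (R := R) k (S.erase k)
      have h2 := ksgn_mul_self (R := R) k (insert l (S.erase k))
      linear_combination (x l * f (insert l (S.erase k))) *
        (ksgn R k (S.erase k) * ksgn R k (insert l (S.erase k))) * hac -
        (x l * f (insert l (S.erase k))) * ksgn R l S * ksgn R k (insert l (S.erase k)) * h1 -
        (x l * f (insert l (S.erase k))) * ksgn R k (S.erase k) * ksgn R l (S.erase k) * h2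
    · exact fun h => absurd (Finset.mem_univ k) h
  · rw [khom_apply, if_neg hk, add_zero, Finset.sum_eq_single k (fun l _ hlk => ?_) (fun h => absurd (Finset.mem_univ k) h),
      if_neg hk, khom_apply, if_pos (Finset.mem_insert_self k S), Finset.erase_insert hk, smul_eq_mul]
    · linear_combination (x k * f S) * ksgn_mul_self (R := R) k S
    · split_ifs with hl
      · rfl
      · rw [khom_apply, if_neg (fun h => (Finset.mem_insert.1 h).elim (fun e => hlk e.symm) hk), smul_zero]

lemma koz_add_left (x y : Fin n → R) (f : Finset (Fin n) → R) :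
    koz (x + y) R f = koz x R f + koz y R f := funext fun S => by
  rw [Pi.add_apply, koz_apply, koz_apply, koz_apply, ← Finset.sum_add_distrib]
  refine Finset.sum_congr rfl fun k _ => ?_
  split_ifs
  · rw [add_zero]
  · simp only [Pi.add_apply, smul_eq_mul]
    ring

lemma koz_anticomm (x y : Fin n → R) (f : Finset (Fin n) → R) :
    koz x R (koz y R f) + koz y R (koz x R f) = 0 := by
  have h := koz_koz (x + y) f
  rw [koz_add_left, koz_add_left, map_add, map_add, koz_koz, koz_koz, zero_add, add_zero] at h
  exact h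

variable (A : Matrix (Fin m) (Fin n) R)

/-- The slice at a monomial. -/
def slice (α : Fin m →₀ ℕ) : K R m n →ₗ[R] (Finset (Fin n) → R) where
  toFun f S := f S α
  map_add' _ _ := rfl
  map_smul' _ _ := rfl

/-- The differential. -/
def d : K R m n →ₗ[R] K R m n where
  toFun f S α := ∑ i, koz (A i) R (slice (α + single i 1) f) S
  map_add' f g := by
    funext S α
    simp only [map_add, Pi.add_apply, Finset.sum_add_distrib]
  map_smul' c f := by
    funext S α
    simp only [map_smul, Pi.smul_apply, Finset.smul_sum, RingHom.id_apply]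

lemma d_apply (f : K R m n) (S : Finset (Fin n)) (α : Fin m →₀ ℕ) :
    d A f S α = ∑ i, koz (A i) R (slice (α + single i 1) f) S := rfl

lemma slice_d (β : Fin m →₀ ℕ) (f : K R m n) :
    slice β (d A f) = ∑ l, koz (A l) R (slice (β + single l 1) f) := funext fun S => by
  rw [Finset.sum_apply]
  rfl

theorem d_d (f : K R m n) : d A (d A f) = 0 := by
  funext S α
  rw [d_apply]
  simp only [slice_d, map_sum, Finset.sum_apply, Pi.zero_apply]
  rw [← Fintype.sum_prod_type']
  refine Finset.sum_involution (fun a _ => (a.2, a.1)) (fun a _ => ?_) (fun a _ ha he => ha ?_)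
    (fun a _ => Finset.mem_univ _) (fun a _ => rfl)
  · dsimp only
    rw [add_right_comm α (single a.2 1) (single a.1 1)]
    exact congrFun (koz_anticomm (A a.1) (A a.2) _) S
  · have h12 : a.2 = a.1 := congrArg Prod.fst he
    rw [h12, koz_koz]
    rfl

variable (T : Fin m → Fin n)

/-- The minor of the columns `T`. -/
def dlt : R := (A.submatrix id T).det

/-- Multiplication by `∑ t, adj t p • e_{T t}`. -/
def hom (p : Fin m) : K R m n →ₗ[R] K R m n where
  toFun f S α := ∑ t, (A.submatrix id T).adjugate t p * khom (T t) (slice α f) S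
  map_add' f g := by
    funext S α
    simp only [map_add, Pi.add_apply, mul_add, Finset.sum_add_distrib]
  map_smul' c f := by
    funext S α
    simp only [map_smul, Pi.smul_apply, smul_eq_mul, Finset.mul_sum, RingHom.id_apply]
    exact Finset.sum_congr rfl fun t _ => by ring

/-- The operator `Y_p`. -/
def yop (p : Fin m) : K R m n →ₗ[R] K R m n where
  toFun f S α := f S (α + single p 1)
  map_add' _ _ := rfl
  map_smul' _ _ := rfl

/-- A right inverse of `Y_p`. -/
def pinv (p : Fin m) (f : K R m n) : K R m n := fun S α =>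
  if α p = 0 then 0 else f S (α - single p 1)

lemma yop_pinv (p : Fin m) (f : K R m n) : yop p (pinv p f) = f := by
  funext S α
  show (if (α + single p 1 : Fin m →₀ ℕ) p = 0 then 0 else f S (α + single p 1 - single p 1)) = f S α
  rw [if_neg (by simp), add_tsub_cancel_right]

theorem d_hom (p : Fin m) (f : K R m n) :
    d A (hom A T p f) + hom A T p (d A f) = dlt A T • yop p f := by
  funext S α
  let a : Fin m → R := fun t => (A.submatrix id T).adjugate t p
  have e1 : ∀ β, slice β (hom A T p f) = ∑ t, a t • khom (T t) (slice β f) := fun β => funext fun S => by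
    rw [Finset.sum_apply]
    rfl
  have e2 : hom A T p (d A f) S α = ∑ i, ∑ t, a t * khom (T t) (koz (A i) R (slice (α + single i 1) f)) S := by
    show ∑ t, a t * khom (T t) (slice α (d A f)) S = _
    simp only [slice_d, map_sum, Finset.sum_apply, Finset.mul_sum]
    exact Finset.sum_comm
  rw [Pi.add_apply, Pi.add_apply, d_apply, e2, ← Finset.sum_add_distrib]
  simp only [e1, map_sum, map_smul, Finset.sum_apply, Pi.smul_apply, smul_eq_mul,
    ← Finset.sum_add_distrib, ← mul_add, koz_add_khom]
  have h : ∀ i, ∑ t, A i (T t) * a t = if i = p then dlt A T else 0 := fun i => by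
    have := congrFun (congrFun (Matrix.mul_adjugate (A.submatrix id T)) i) p
    simpa [Matrix.mul_apply, Matrix.one_apply, a, dlt] using this
  rw [Finset.sum_congr rfl fun i _ => show ∑ t, a t * (A i (T t) * slice (α + single i 1) f S) =
    (if i = p then dlt A T else 0) * f S (α + single i 1) by
      rw [← h i, Finset.sum_mul]
      exact Finset.sum_congr rfl fun t _ => by show _ = _ * slice (α + single i 1) f S; ring]
  simp only [ite_mul, zero_mul, Finset.sum_ite_eq', Finset.mem_univ, if_true]
  rfl

/-- Bidegree. -/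
def InDeg (j s : ℤ) (f : K R m n) : Prop :=
  ∀ S α, f S α ≠ 0 → (S.card : ℤ) = j ∧ ((α.degree : ℕ) : ℤ) = s

/-- Supported away from the first `p` variables. -/
def InD (p : ℕ) (f : K R m n) : Prop := ∀ S α, (∃ i : Fin m, i.1 < p ∧ α i ≠ 0) → f S α = 0

theorem InDeg.d {j s : ℤ} {f : K R m n} (hf : InDeg j s f) : InDeg (j - 1) (s - 1) (d A f) := by
  intro S α h
  rw [d_apply] at h
  obtain ⟨i, -, hi⟩ := Finset.exists_ne_zero_of_sum_ne_zero h
  rw [koz_apply] at hi
  obtain ⟨k, -, hk⟩ := Finset.exists_ne_zero_of_sum_ne_zero hi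
  split_ifs at hk with hkS
  · exact absurd rfl hk
  obtain ⟨h1, h2⟩ := hf _ _ (right_ne_zero_of_mul hk)
  rw [Finset.card_insert_of_notMem hkS] at h1
  rw [map_add, degree_single] at h2
  push_cast at h1 h2
  exact ⟨by omega, by omega⟩

theorem InDeg.hom {j s : ℤ} {f : K R m n} (hf : InDeg j s f) (p : Fin m) :
    InDeg (j + 1) s (hom A T p f) := by
  intro S α h
  change ∑ t, (A.submatrix id T).adjugate t p * khom (T t) (slice α f) S ≠ 0 at h
  obtain ⟨t, -, ht⟩ := Finset.exists_ne_zero_of_sum_ne_zero h
  have ht' := right_ne_zero_of_mul ht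
  rw [khom_apply] at ht'
  split_ifs at ht' with hS
  · obtain ⟨h1, h2⟩ := hf _ _ (right_ne_zero_of_mul ht')
    refine ⟨?_, h2⟩
    rw [← Finset.card_erase_add_one hS]
    push_cast
    omega
  · exact absurd rfl ht' 

theorem InD.d {p : ℕ} {f : K R m n} (hf : InD p f) : InD p (d A f) := by
  rintro S α ⟨i, hi, hi'⟩
  rw [d_apply]
  refine Finset.sum_eq_zero fun l _ => ?_
  have : slice (α + single l 1) f = 0 := funext fun S' => hf S' _ ⟨i, hi, by simp [hi']⟩
  rw [this, map_zero]
  rfl

theorem InD.hom {p : ℕ} {f : K R m n} (hf : InD p f) (i : Fin m) : InD p (hom A T i f) := by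
  intro S α h
  change ∑ t, (A.submatrix id T).adjugate t i * khom (T t) (slice α f) S = 0
  refine Finset.sum_eq_zero fun t _ => ?_
  have : slice α f = 0 := funext fun S' => hf S' α h
  rw [this, map_zero]
  simp

/-- The product of the last `q` operators `hom`. -/
def top : ℕ → (K R m n →ₗ[R] K R m n)
  | 0 => LinearMap.id
  | q + 1 => if h : m - (q + 1) < m then hom A T ⟨m - (q + 1), h⟩ ∘ₗ top q else 0

/-- The key homotopy induction. -/
theorem exists_bound : ∀ (q p : ℕ), p + q = m → ∀ (j s : ℤ) (z : K R m n), InDeg j s z → InD p z →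
    d A z = 0 → ∃ w c, InDeg (j + 1) (s + 1) w ∧ InD p w ∧ InDeg (j - q) 0 c ∧ (s ≠ 0 → c = 0) ∧
      dlt A T ^ q • z = d A w + top A T q c := by
  intro q
  induction q with
  | zero =>
    intro p hp j s z hz hD _
    refine ⟨0, z, fun _ _ h => absurd rfl h, fun _ _ _ => rfl, fun S α h => ?_, fun hs => ?_, ?_⟩
    · have hα : α = 0 := Finsupp.ext fun i => by
        by_contra hi
        exact h (hD S α ⟨i, by omega, hi⟩)
      exact ⟨by simpa using (hz S α h).1, by simp [hα]⟩
    · funext S α
      by_contra h
      have hα : α = 0 := Finsupp.ext fun i => by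
        by_contra hi
        exact h (hD S α ⟨i, by omega, hi⟩)
      exact hs (by simpa [hα] using (hz S α h).2.symm)
    · simp [top]
  | succ q ih =>
    intro p hp j s z hz hD hdz
    have hpm : p < m := by omega
    let i₀ : Fin m := ⟨p, hpm⟩
    have hPdeg : InDeg j (s + 1) (pinv i₀ z) := fun S α h => by
      simp only [pinv, ne_eq, ite_eq_left_iff, Classical.not_imp] at h
      obtain ⟨h1, h2⟩ := hz _ _ h.2
      refine ⟨h1, ?_⟩
      have : α - single i₀ 1 + single i₀ 1 = α := tsub_add_cancel_of_le (by
        rw [single_le_iff]; omega)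
      rw [← this, map_add, degree_single]
      push_cast
      omega
    have hPD : InD p (pinv i₀ z) := fun S α ⟨i, hi, hi'⟩ => by
      simp only [pinv]
      split_ifs
      · rfl
      · refine hD _ _ ⟨i, hi, ?_⟩
        have : i₀ ≠ i := fun e => by simp [i₀, ← e] at hi
        simpa [Finsupp.tsub_apply, single_eq_of_ne this.symm] using hi'
    have hdD : InD (p + 1) (d A (pinv i₀ z)) := fun S α ⟨i, hi, hi'⟩ => by
      rcases Nat.lt_succ_iff_lt_or_eq.mp hi with hlt | heq
      · exact (hPD.d A) S α ⟨i, hlt, hi'⟩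
      · obtain rfl : i = i₀ := Fin.ext heq
        have key : ∀ l, slice (α + single l 1) (pinv i₀ z) = slice (α - single i₀ 1 + single l 1) z := by
          intro l
          funext S'
          show (if (α + single l 1 : Fin m →₀ ℕ) i₀ = 0 then 0 else z S' (α + single l 1 - single i₀ 1)) = _
          rw [if_neg (by simp [hi']), tsub_add_eq_add_tsub (by rw [single_le_iff]; omega)]
          rfl
        rw [d_apply]
        simp only [key]
        exact congrFun (congrFun hdz S) (α - single i₀ 1)
    obtain ⟨w, c, hw, hwD, hc, hc0, e⟩ := ih (p + 1) (by omega) (j - 1) s (d A (pinv i₀ z))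
      (by simpa using hPdeg.d A) hdD (d_d A _)
    have hy : yop i₀ w = 0 := funext fun S => funext fun α => hwD S _ ⟨i₀, by simp [i₀], by simp⟩
    have htop : top A T (q + 1) = hom A T i₀ ∘ₗ top A T q := by
      rw [top, dif_pos (show m - (q + 1) < m by omega)]
      congr 3
      omega
    refine ⟨dlt A T ^ q • hom A T i₀ (pinv i₀ z) - hom A T i₀ w, c, fun S α h => ?_, fun S α h => ?_,
      by simpa [sub_sub, add_comm (q : ℤ) 1] using hc, hc0, ?_⟩
    · have h1 := hPdeg.hom A T i₀ S α
      have h2 := hw.hom A T i₀ S α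
      simp only [Pi.sub_apply, Pi.smul_apply, smul_eq_mul] at h
      by_cases hh : hom A T i₀ w S α = 0
      · exact h1 fun h0 => h (by rw [h0, hh]; ring)
      · obtain ⟨e1, e2⟩ := h2 hh
        exact ⟨by omega, e2⟩
    · simp only [Pi.sub_apply, Pi.smul_apply, (hPD.hom A T i₀) S α h]
      rw [((show InD p w from fun S α ⟨i, hi, hi'⟩ => hwD S α ⟨i, by omega, hi'⟩).hom A T i₀) S α h]
      simp
    · have h1 := d_hom A T i₀ (pinv i₀ z)
      rw [yop_pinv] at h1
      have h2 := d_hom A T i₀ w
      rw [hy, smul_zero] at h2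
      have h3 := congrArg (hom A T i₀) e
      rw [map_add, map_smul] at h3
      rw [htop, LinearMap.comp_apply, map_sub, map_smul, pow_succ, mul_smul, ← h1, smul_add, h3,
        eq_neg_of_add_eq_zero_left h2]
      abel

/-- The maximal minor of the columns in `S`. -/
def minor (S : Finset (Fin n)) : R :=
  if h : S.card = m then (A.submatrix id (S.orderEmbOfFin h)).det else 0

/-- The augmentation. -/
def aug : K R m n →ₗ[R] R where
  toFun f := ∑ S, minor A S * f S 0
  map_add' f g := by simp [mul_add, Finset.sum_add_distrib]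
  map_smul' c f := by
    simp only [Pi.smul_apply, smul_eq_mul, Finset.mul_sum, RingHom.id_apply]
    exact Finset.sum_congr rfl fun S _ => by ring

lemma ksgn_orderEmb {W : Finset (Fin n)} {q : ℕ} (h : W.card = q) (c : Fin q) :
    ksgn R (W.orderEmbOfFin h c) (W.erase (W.orderEmbOfFin h c)) = (-1) ^ (c : ℕ) := by
  classical
  set e := W.orderEmbOfFin h
  have hW : W = Finset.univ.map e.toEmbedding := (Finset.map_orderEmbOfFin_univ W h).symm
  rw [ksgn, Finset.prod_ite, Finset.prod_const_one, mul_one, Finset.prod_const]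
  congr 1
  have : (W.erase (e c)).filter (fun l => l < e c) = (Finset.Iio c).map e.toEmbedding := by
    ext l
    rw [hW]
    simp only [Finset.mem_filter, Finset.mem_erase, Finset.mem_map, Finset.mem_univ, true_and,
      Finset.mem_Iio, RelEmbedding.coe_toEmbedding]
    constructor
    · rintro ⟨⟨-, b, rfl⟩, hb⟩
      exact ⟨b, e.lt_iff_lt.mp hb, rfl⟩
    · rintro ⟨b, hb, rfl⟩
      exact ⟨⟨(e.injective.ne hb.ne), b, rfl⟩, e.lt_iff_lt.mpr hb⟩
  rw [this, Finset.card_map, Fin.card_Iio]

theorem minor_expand (i : Fin m) (W : Finset (Fin n)) :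
    ∑ k ∈ W, ksgn R k (W.erase k) * A i k * minor A (W.erase k) = 0 := by
  classical
  by_cases hW : W.card = m + 1
  · set e := W.orderEmbOfFin hW
    let B : Matrix (Fin (m + 1)) (Fin (m + 1)) R :=
      Matrix.of fun a c => (Fin.cons (A i) A : Fin (m + 1) → Fin n → R) a (e c)
    have hB : B.det = 0 := Matrix.det_zero_of_row_eq (i := 0) (j := i.succ) (Fin.succ_ne_zero i).symm
      (funext fun c => by simp [B])
    rw [Matrix.det_succ_row_zero] at hB
    rw [← hB]
    conv_lhs => rw [← Finset.map_orderEmbOfFin_univ W hW, Finset.sum_map]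
    refine Finset.sum_congr rfl fun c _ => ?_
    rw [RelEmbedding.coe_toEmbedding, Finset.map_orderEmbOfFin_univ, ksgn_orderEmb hW c]
    have hc : (W.erase (e c)).card = m := by
      rw [Finset.card_erase_of_mem (Finset.orderEmbOfFin_mem W hW c), hW, Nat.add_sub_cancel]
    have hcol : (c.succAboveOrderEmb.trans e : Fin m ↪o Fin n) = (W.erase (e c)).orderEmbOfFin hc := by
      refine Finset.orderEmbOfFin_unique' hc fun x => Finset.mem_erase.mpr ⟨?_, Finset.orderEmbOfFin_mem W hW _⟩
      exact e.injective.ne (Fin.succAbove_ne c x)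
    rw [minor, dif_pos hc, ← hcol]
    congr 2
  · refine Finset.sum_eq_zero fun k hk => ?_
    rw [minor, dif_neg, mul_zero]
    rw [Finset.card_erase_of_mem hk]
    have := Finset.card_pos.mpr ⟨k, hk⟩
    omega

theorem aug_d (f : K R m n) : aug A (d A f) = 0 := by
  show ∑ S, minor A S * (∑ i, koz (A i) R (slice (0 + single i 1) f) S) = 0
  simp only [Finset.mul_sum, koz_apply]
  rw [Finset.sum_comm]
  refine Finset.sum_eq_zero fun i _ => ?_
  let g : Finset (Fin n) × Fin n → R := fun a =>
    if a.2 ∈ a.1 then ksgn R a.2 (a.1.erase a.2) * A i a.2 * minor A (a.1.erase a.2) *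
      slice (0 + single i 1) f a.1 else 0
  calc _ = ∑ a : Finset (Fin n) × Fin n, g a := by
        rw [← Fintype.sum_prod_type']
        refine Fintype.sum_equiv (Equiv.ofBijective
          (fun a : Finset (Fin n) × Fin n => (if a.2 ∈ a.1 then a.1.erase a.2 else insert a.2 a.1, a.2))
          (Function.Involutive.bijective fun a => ?_)) _ _ fun a => ?_
        · rcases a with ⟨S, k⟩
          by_cases hk : k ∈ S <;> simp [hk]
        · simp only [Equiv.ofBijective_apply, g]
          by_cases hk : a.2 ∈ a.1
          · simp [hk]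
          · simp only [if_neg hk, if_pos (Finset.mem_insert_self a.2 a.1), Finset.erase_insert hk,
              smul_eq_mul]
            ring
    _ = 0 := by
      rw [Fintype.sum_prod_type]
      refine Finset.sum_eq_zero fun W _ => ?_
      simp only [g]
      rw [Finset.sum_ite_mem, Finset.univ_inter, ← Finset.sum_mul, minor_expand, zero_mul]

/-- Exactness up to a power of a maximal minor. -/
theorem exists_boundary {j s : ℤ} (hs : s ≠ 0) {z : K R m n} (hz : InDeg j s z) (hdz : d A z = 0) :
    ∃ w, InDeg (j + 1) (s + 1) w ∧ d A w = dlt A T ^ m • z := by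
  obtain ⟨w, c, hw, -, -, hc, e⟩ := exists_bound A T m 0 (zero_add m) j s z hz
    (fun _ _ ⟨i, hi, _⟩ => absurd hi (Nat.not_lt_zero _)) hdz
  exact ⟨w, hw, by rw [e, hc hs, map_zero, add_zero]⟩

/-- Exactness at the augmentation up to a power of a nonzero maximal minor. -/
theorem exists_boundary_aug [IsDomain R] {S₀ : Finset (Fin n)} (hS₀ : S₀.card = m)
    (hne : minor A S₀ ≠ 0) {z : K R m n} (hz : InDeg m 0 z) (haug : aug A z = 0) :
    ∃ w, InDeg (m + 1) 1 w ∧ d A w = minor A S₀ ^ m • z := by
  classical
  let T : Fin m → Fin n := S₀.orderEmbOfFin hS₀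
  have hT : dlt A T = minor A S₀ := by rw [minor, dif_pos hS₀]; rfl
  let δ : K R m n := fun S α => if S = ∅ ∧ α = 0 then 1 else 0
  let U := top A T m δ
  have hzero : ∀ {f : K R m n}, InDeg m 0 f → d A f = 0 := fun {f} hf => by
    funext S α
    by_contra h
    have := ((hf.d A) S α h).2
    omega
  have main : ∀ z : K R m n, InDeg m 0 z →
      ∃ w γ, InDeg (m + 1) 1 w ∧ minor A S₀ ^ m • z = d A w + γ • U := fun z hz => by
    obtain ⟨w, c, hw, -, hc, -, e⟩ := exists_bound A T m 0 (zero_add m) m 0 z hz
      (fun _ _ ⟨i, hi, _⟩ => absurd hi (Nat.not_lt_zero _)) (hzero hz)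
    refine ⟨w, c ∅ 0, by simpa using hw, ?_⟩
    have hcδ : c = c ∅ 0 • δ := funext fun S => funext fun α => by
      simp only [Pi.smul_apply, δ, smul_eq_mul, mul_ite, mul_one, mul_zero]
      split_ifs with h
      · rw [h.1, h.2]
      · by_contra h'
        obtain ⟨h1, h2⟩ := hc S α h'
        refine h ⟨Finset.card_eq_zero.mp (by omega), ?_⟩
        exact (degree_eq_zero_iff α).mp (by omega)
    rw [← hT, e]
    conv_lhs => rw [hcδ, map_smul]
  obtain ⟨w, γ, hw, e⟩ := main z hz
  let δT : K R m n := fun S α => if S = S₀ ∧ α = 0 then 1 else 0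
  obtain ⟨w', γ', -, e'⟩ := main δT fun S α h => by
    simp only [δT, ne_eq, ite_eq_right_iff, Classical.not_imp] at h
    rw [h.1.1, h.1.2, hS₀]
    simp
  have hδT : aug A δT = minor A S₀ := by
    show ∑ S, minor A S * δT S 0 = _
    simp [δT]
  have ha := congrArg (aug A) e
  have ha' := congrArg (aug A) e'
  rw [map_smul, haug, map_add, aug_d, map_smul, smul_zero, zero_add, smul_eq_mul] at ha
  rw [map_smul, hδT, map_add, aug_d, map_smul, zero_add, smul_eq_mul, smul_eq_mul] at ha'
  have hγ : γ = 0 := by
    rcases mul_eq_zero.mp ha.symm with h | h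
    · exact h
    · rw [h, mul_zero] at ha'
      exact absurd ha' (mul_ne_zero (pow_ne_zero _ hne) hne)
  exact ⟨w, hw, by rw [e, hγ, zero_smul, add_zero]⟩

end Groth.Variety2.Reg.EN
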