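import Groth.Agent.Variety2.Reg.ENAlg
import Mathlib.Algebra.Order.Antidiag.Finsupp
import Mathlib.LinearAlgebra.Matrix.ToLin

/-!
# The Eagon–Northcott complex as a sequence of matrices
-/

universe u

open GrothGr Finsupp Matrix

noncomputable section

namespace Groth.Variety2.Reg.EN

variable {R : Type u} [CommRing R] {m n : ℕ}

variable (m n) in
/-- The basis of the `s`-th term. -/
def BS (s : ℕ) : Finset (Finset (Fin n) × (Fin m →₀ ℕ)) :=
  (Finset.univ.filter fun S : Finset (Fin n) => S.card = m + s) ×ˢ Finset.finsuppAntidiag Finset.univ s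

lemma mem_BS {s : ℕ} {p : Finset (Fin n) × (Fin m →₀ ℕ)} :
    p ∈ BS m n s ↔ p.1.card = m + s ∧ p.2.degree = s := by
  simp [BS, degree_eq_sum]

variable (m n) in
/-- The rank of the `s`-th term. -/
def rk (s : ℕ) : ℕ := (BS m n s).card

variable (m n) in
/-- The basis vectors. -/
def bas (s : ℕ) : Fin (rk m n s) ≃ BS m n s := (BS m n s).equivFin.symm

/-- The inclusion of the `s`-th term. -/
def emb (s : ℕ) : (Fin (rk m n s) → R) →ₗ[R] K R m n where
  toFun v S α := if h : (S, α) ∈ BS m n s then v ((bas m n s).symm ⟨(S, α), h⟩) else 0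
  map_add' v w := funext fun S => funext fun α => by
    by_cases h : (S, α) ∈ BS m n s <;> simp [h]
  map_smul' c v := funext fun S => funext fun α => by
    by_cases h : (S, α) ∈ BS m n s <;> simp [h]

/-- The projection to the `s`-th term. -/
def proj (s : ℕ) : K R m n →ₗ[R] (Fin (rk m n s) → R) where
  toFun f b := f (bas m n s b).1.1 (bas m n s b).1.2
  map_add' _ _ := rfl
  map_smul' _ _ := rfl

lemma inDeg_emb (s : ℕ) (v : Fin (rk m n s) → R) : InDeg ((m : ℤ) + s) s (emb s v) := by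
  intro S α h
  by_cases hp : (S, α) ∈ BS m n s
  · obtain ⟨h1, h2⟩ := mem_BS.mp hp
    exact ⟨by rw [h1]; push_cast; rfl, by rw [h2]⟩
  · exact absurd (show emb s v S α = 0 from dif_neg hp) h

lemma proj_emb (s : ℕ) (v : Fin (rk m n s) → R) : proj s (emb s v) = v := by
  funext b
  show (if h : ((bas m n s b).1.1, (bas m n s b).1.2) ∈ BS m n s then
    v ((bas m n s).symm ⟨_, h⟩) else 0) = v b
  rw [dif_pos (bas m n s b).2]
  simp

lemma emb_proj {s : ℕ} {f : K R m n} (hf : InDeg ((m : ℤ) + s) s f) : emb s (proj s f) = f := by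
  funext S α
  show (if h : (S, α) ∈ BS m n s then _ else 0) = f S α
  split_ifs with hp
  · simp [proj]
  · by_contra h
    obtain ⟨h1, h2⟩ := hf S α (Ne.symm h)
    exact hp (mem_BS.mpr ⟨by simp only; omega, by simp only; omega⟩)

lemma emb_injective (s : ℕ) : Function.Injective (emb (R := R) (m := m) (n := n) s) :=
  Function.LeftInverse.injective (proj_emb s)

variable (A : Matrix (Fin m) (Fin n) R)

/-- The matrix of the differential. -/
def matD (s : ℕ) : Matrix (Fin (rk m n s)) (Fin (rk m n (s + 1))) R :=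
  LinearMap.toMatrix' (proj s ∘ₗ d A ∘ₗ emb (s + 1))

/-- The row of minors. -/
def matE : Matrix (Fin 1) (Fin (rk m n 0)) R :=
  LinearMap.toMatrix' (LinearMap.pi fun _ => aug A ∘ₗ emb 0)

lemma matD_mulVec (s : ℕ) (v : Fin (rk m n (s + 1)) → R) :
    emb s ((matD A s).mulVecLin v) = d A (emb (R := R) (s + 1) v) := by
  rw [matD, Matrix.mulVecLin_apply, LinearMap.toMatrix'_mulVec, LinearMap.comp_apply, LinearMap.comp_apply]
  refine emb_proj (R := R) (f := d A (emb (s + 1) v)) ?_
  have := (inDeg_emb (s + 1) v).d A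
  simpa [Nat.cast_succ, add_sub_cancel_right, ← add_assoc] using this

lemma matE_mulVec (v : Fin (rk m n 0) → R) :
    (matE A).mulVecLin v = fun _ => aug A (emb 0 v) := by
  rw [matE, Matrix.mulVecLin_apply, LinearMap.toMatrix'_mulVec]
  rfl

lemma matD_comp (s : ℕ) (v : Fin (rk m n (s + 2)) → R) :
    (matD A s).mulVecLin ((matD A (s + 1)).mulVecLin v) = 0 :=
  emb_injective s (by rw [matD_mulVec, matD_mulVec, d_d, map_zero])

lemma matE_comp (v : Fin (rk m n 1) → R) : (matE A).mulVecLin ((matD A 0).mulVecLin v) = 0 := by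
  rw [matE_mulVec, matD_mulVec, aug_d]
  rfl

variable [IsDomain R] {S₀ : Finset (Fin n)} (hS₀ : S₀.card = m)

include hS₀ in
omit [IsDomain R] in
theorem exact_matD (s : ℕ) {v : Fin (rk m n (s + 1)) → R} (hv : (matD A s).mulVecLin v = 0) :
    minor A S₀ ^ m • v ∈ LinearMap.range (matD A (s + 1)).mulVecLin := by
  have hd : d A (emb (s + 1) v) = 0 := by rw [← matD_mulVec, hv, map_zero]
  obtain ⟨w, hw, e⟩ := exists_boundary A (S₀.orderEmbOfFin hS₀) (s := ((s + 1 : ℕ) : ℤ)) (by omega)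
    (inDeg_emb (s + 1) v) hd
  rw [show dlt A (S₀.orderEmbOfFin hS₀) = minor A S₀ by rw [minor, dif_pos hS₀]; rfl] at e
  refine ⟨proj (s + 2) w, emb_injective (s + 1) ?_⟩
  rw [matD_mulVec, emb_proj (by simpa [add_assoc, one_add_one_eq_two] using hw), map_smul, e]

include hS₀ in
theorem exact_matE (hne : minor A S₀ ≠ 0) {v : Fin (rk m n 0) → R}
    (hv : (matE A).mulVecLin v = 0) :
    minor A S₀ ^ m • v ∈ LinearMap.range (matD A 0).mulVecLin := by
  rw [matE_mulVec] at hv
  obtain ⟨w, hw, e⟩ := exists_boundary_aug A hS₀ hne (by simpa using inDeg_emb (R := R) (m := m) (n := n) 0 v)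
    (congrFun hv 0)
  refine ⟨proj 1 w, emb_injective 0 ?_⟩
  rw [matD_mulVec, emb_proj (by simpa using hw), map_smul, e]

omit [IsDomain R]

lemma ksgn_mul_mem (G : AddSubgroup R) (k : Fin n) (S : Finset (Fin n)) {a : R} (ha : a ∈ G) :
    ksgn R k S * a ∈ G := by
  suffices ∀ b ∈ G, ksgn R k S * b ∈ G from this a ha
  refine Finset.prod_induction _ (fun r => ∀ b ∈ G, r * b ∈ G) (fun p q hp hq b hb => ?_)
    (fun b hb => by rwa [one_mul]) fun l _ b hb => ?_
  · rw [mul_assoc]
    exact hp _ (hq b hb)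
  · split_ifs
    · rw [neg_one_mul]
      exact neg_mem hb
    · rwa [one_mul]

lemma matD_mem (G : AddSubgroup R) (hA : ∀ i k, A i k ∈ G) (s : ℕ) (a : Fin (rk m n s))
    (b : Fin (rk m n (s + 1))) : matD A s a b ∈ G := by
  rw [matD, LinearMap.toMatrix'_apply]
  show d A (emb (s + 1) _) (bas m n s a).1.1 (bas m n s a).1.2 ∈ G
  rw [d_apply]
  refine sum_mem fun i _ => ?_
  rw [koz_apply]
  refine sum_mem fun k _ => ?_
  split_ifs
  · exact zero_mem _
  · rw [smul_eq_mul]
    show _ * (if h : _ ∈ BS m n (s + 1) then _ else 0) ∈ G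
    split_ifs with h
    · by_cases hb : b = (bas m n (s + 1)).symm ⟨_, h⟩
      · simp only [hb, Pi.single_eq_same, mul_one]
        exact ksgn_mul_mem G k _ (hA i k)
      · simp [Ne.symm hb]
    · rw [mul_zero]
      exact zero_mem _

lemma matE_apply (b : Fin (rk m n 0)) : matE A 0 b = minor A (bas m n 0 b).1.1 := by
  classical
  have h : ∀ S, emb 0 (Pi.single b (1 : R)) S (0 : Fin m →₀ ℕ) =
      if S = (bas m n 0 b).1.1 then 1 else 0 := fun S => by
    show (if h : (S, (0 : Fin m →₀ ℕ)) ∈ BS m n 0 then _ else 0) = _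
    have hb := mem_BS.mp (bas m n 0 b).2
    have hb2 : (bas m n 0 b).1.2 = 0 := (degree_eq_zero_iff _).mp hb.2
    by_cases hS : S = (bas m n 0 b).1.1
    · rw [if_pos hS, dif_pos (mem_BS.mpr ⟨hS ▸ hb.1, by simp⟩)]
      have : (bas m n 0).symm ⟨(S, 0), mem_BS.mpr ⟨hS ▸ hb.1, by simp⟩⟩ = b :=
        (Equiv.symm_apply_eq _).mpr (Subtype.ext (Prod.ext hS hb2.symm))
      rw [this, Pi.single_eq_same]
    · rw [if_neg hS]
      split_ifs with hmem
      · refine Pi.single_eq_of_ne (fun e => hS ?_) _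
        exact congrArg (fun p : BS m n 0 => p.1.1) ((Equiv.symm_apply_eq _).mp e)
      · rfl
  rw [matE, LinearMap.toMatrix'_apply]
  show ∑ S, minor A S * emb 0 _ S 0 = _
  simp only [h]
  simp

lemma exists_bas_zero {S : Finset (Fin n)} (hS : S.card = m) : ∃ b, (bas m n 0 b).1.1 = S :=
  ⟨(bas m n 0).symm ⟨(S, 0), mem_BS.mpr ⟨by simpa using hS, by simp⟩⟩, by simp⟩

end Groth.Variety2.Reg.EN
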