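import Groth.Agent.Variety2.Reg.ENMat
import Groth.Agent.Variety2.Reg.MatMap
import Groth.Agent.Variety2.Reg.FreeRegular
import Groth.Agent.Duality.PnMulPoly
import Groth.Agent.RefRank.FittSheaf
import Groth.Agent.Misc6.ExtIdeal
import Groth.Agent.PnCoh.GlobalFun

/-!
# Linear maps `O(-1)^n → O^m`, their maximal minors and the Eagon–Northcott sheaves
-/

universe u

open CategoryTheory CategoryTheory.Limits AlgebraicGeometry Opposite TopologicalSpace
open Groth.PicAux Groth.Ega2Proj Groth.GrSyzLib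

noncomputable section

namespace Groth.Variety2.Reg

lemma lfrac_mul_eq_smul {R A : Type u} [CommRing R] [CommRing A] [Algebra R A] {𝒜 : ℕ → Submodule R A}
    [GradedAlgebra 𝒜] (x : ProjectiveSpectrum 𝒜) (a : A) (w : Twist.Loc 𝒜 x) :
    (lfrac 𝒜 x a (Tilde.notMem_one' x) * w : Twist.Loc 𝒜 x) =
      w • (LocalizedModule.mk a ⟨1, Tilde.notMem_one' x⟩ : GrTilde.LocMod 𝒜 (M := A) x) := by
  induction w using Localization.induction_on with
  | H y =>
    rw [lfrac, Localization.mk_mul, LocalizedModule.mk_smul_mk]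
    show Localization.mk _ _ = Localization.mk _ _
    congr 1
    · exact mul_comm _ _
    · exact mul_comm _ _

variable {r : ℕ} {k : Type u} [Field k]

/-- The polynomial ring. -/
local notation "S" => MvPolynomial (Fin (r + 1)) k
/-- Its grading by `ℕ`. -/
local notation "PP" => CohB1.polyGrading r k
/-- Its grading by `ℤ`. -/
local notation "GS" => GrSyz.stdGr k (Fin (r + 1))

/-- A constant list of degrees. -/
abbrev cdeg (N c : ℕ) : Fin N → ℤ := fun _ => (c : ℤ)

lemma isHomMat_cdeg {N N' c δ : ℕ} {A : Matrix (Fin N) (Fin N') (MvPolynomial (Fin (r + 1)) k)}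
    (hA : ∀ a b, A a b ∈ GS (δ : ℤ)) : IsHomMat (cdeg N c) (cdeg N' (c + δ)) A := fun a b => by
  show A a b ∈ GS (((c + δ : ℕ) : ℤ) - (c : ℤ))
  rw [Nat.cast_add, add_sub_cancel_left]
  exact hA a b

lemma det_mem {m : ℕ} {M : Matrix (Fin m) (Fin m) (MvPolynomial (Fin (r + 1)) k)}
    (hM : ∀ i l, M i l ∈ GS ((1 : ℕ) : ℤ)) : M.det ∈ GS (m : ℤ) := by
  rw [Matrix.det_apply]
  refine sum_mem fun σ _ => ?_
  rw [Units.smul_def]
  refine zsmul_mem ?_ _
  have := SetLike.prod_mem_graded GS (fun _ : Fin m => ((1 : ℕ) : ℤ)) (fun i => M (σ i) i)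
    (F := Finset.univ) fun i _ => hM (σ i) i
  simpa using this

lemma exists_upow_notMem (x : Proj PP) : ∃ u ∈ PP 1, x ∈ Proj.basicOpen PP u := by
  obtain ⟨i, hi⟩ := Opens.mem_iSup.mp ((Duality.Pn.iSup_stdOpen (n := r) (R := k)).ge
    (show x ∈ (⊤ : (Proj PP).Opens) from trivial))
  exact ⟨_, MvPolynomial.isHomogeneous_X k i.down, hi⟩

/-- Every map `O(-1)^n → O^m` is given by a matrix of linear forms. -/
theorem exists_matMap_eq {m n : ℕ}
    (φ : frSheaf (r := r) (k := k) (cdeg n (0 + 1)) ⟶ frSheaf (cdeg m 0)) :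
    ∃ (A : Matrix (Fin m) (Fin n) S) (hA : ∀ a b, A a b ∈ GS ((1 : ℕ) : ℤ)),
      φ = matMap (isHomMat_cdeg (c := 0) hA) := by
  have H : ∀ (a : Fin m) (b : Fin n), ∃ (f : S) (hf : f ∈ PP 1),
      Sigma.ι (fun b : Fin n => Twist.twist PP (-cdeg n (0 + 1) b)) b ≫ φ ≫ frProj (cdeg m 0) a =
        Duality.Pn.mulEl PP hf (d := -((0 + 1 : ℕ) : ℤ)) (d' := -((0 : ℕ) : ℤ)) (by simp) := fun a b =>
    Duality.Pn.exists_eq_mulEl 1 (by simp) _
  choose f hf he using H
  have hA : ∀ a b, Matrix.of f a b ∈ GS ((1 : ℕ) : ℤ) := fun a b => stdGr_nat_iff.mpr (hf a b)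
  refine ⟨Matrix.of f, hA, Sigma.hom_ext _ _ fun b => ?_⟩
  have hone : ∀ ψ : Twist.twist PP (-cdeg n (0 + 1) b) ⟶ frSheaf (cdeg m 0),
      ψ = ∑ a, (ψ ≫ frProj (cdeg m 0) a) ≫ Sigma.ι (fun a : Fin m => Twist.twist PP (-cdeg m 0 a)) a := by
    intro ψ
    conv_lhs => rw [← Category.comp_id ψ, ← frProj_total, Preadditive.comp_sum]
    simp only [Category.assoc]
  rw [hone (_ ≫ φ), hone (_ ≫ matMap _)]
  refine Finset.sum_congr rfl fun a _ => ?_
  refine congrArg (· ≫ _) ?_
  rw [Category.assoc, Category.assoc, he a b, ι_matMap_proj]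
  refine CohTwo.hom_ext_app fun U s => ?_
  refine wval_ext fun x hx => ?_
  refine (Duality.Pn.wval_mulEl PP (hf a b) _ U s x hx).trans ?_
  refine Eq.trans ?_ (wval_tcomp (isHomMat_cdeg hA) a b s x hx).symm
  rw [Matrix.of_apply]
  exact lfrac_mul_eq_smul _ _ _

/-- The stalk of a map to the structure module, valued in the local ring. -/
def psiStalk {X : Scheme.{u}} {G : X.Modules} (ψ : G ⟶ Coh.structureModule X) (x : X) :
    G.presheaf.stalk x →ₗ[X.presheaf.stalk x] X.presheaf.stalk x :=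
  (RefRank.oneEquiv x).symm.toLinearMap ∘ₗ RefHull.stalkMapₗ ψ x

lemma psiStalk_germ {X : Scheme.{u}} {G : X.Modules} (ψ : G ⟶ Coh.structureModule X) {U : X.Opens} (x : X)
    (hx : x ∈ U) (s : Γ(G, U)) :
    psiStalk ψ x (QCohMod.germ G x hx s) = X.presheaf.germ U x hx (Misc6.ExtIdeal.funApp ψ U s) := by
  change (RefRank.oneEquiv x).symm _ = _
  rw [LinearEquiv.symm_apply_eq, RefRank.oneEquiv_apply, RefRank.smul_oneGerm]
  exact RefHull.stalkMapₗ_germ ψ x hx s

section Data

variable {m n : ℕ} {A : Matrix (Fin m) (Fin n) (MvPolynomial (Fin (r + 1)) k)}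
  (hA : ∀ a b, A a b ∈ GrSyz.stdGr k (Fin (r + 1)) ((1 : ℕ) : ℤ))

/-- The terms of the Eagon–Northcott complex. -/
abbrev enX (m n s : ℕ) : (Proj (CohB1.polyGrading r k)).Modules :=
  frSheaf (r := r) (k := k) (cdeg (EN.rk m n s) (m + s))

include hA in
lemma matD_mem' (s : ℕ) (a : Fin (EN.rk m n s)) (b : Fin (EN.rk m n (s + 1))) :
    EN.matD A s a b ∈ GS ((1 : ℕ) : ℤ) :=
  EN.matD_mem A (GS ((1 : ℕ) : ℤ)).toAddSubgroup hA s a b

include hA in
lemma minor_mem' (T : Finset (Fin n)) : EN.minor A T ∈ GS (m : ℤ) := by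
  rw [EN.minor]
  split_ifs
  · exact det_mem fun i l => hA _ _
  · exact zero_mem _

include hA in
lemma matE_mem (a : Fin 1) (b : Fin (EN.rk m n 0)) : EN.matE A a b ∈ GS (m : ℤ) := by
  rw [Subsingleton.elim a 0, EN.matE_apply]
  exact minor_mem' hA _

include hA in
lemma matE_homMat : IsHomMat (cdeg 1 0) (cdeg (EN.rk m n 0) (m + 0)) (EN.matE A) := fun a b => by
  show EN.matE A a b ∈ GS (((m + 0 : ℕ) : ℤ) - ((0 : ℕ) : ℤ))
  simpa using matE_mem hA a b

/-- The differentials. -/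
def enD (s : ℕ) : enX (r := r) (k := k) m n (s + 1) ⟶ enX m n s :=
  matMap (isHomMat_cdeg (c := m + s) (matD_mem' hA s))

/-- The augmentation. -/
def enE : enX (r := r) (k := k) m n 0 ⟶ frSheaf (cdeg 1 0) := matMap (matE_homMat hA)

lemma enD_comp (s : ℕ) : enD hA (s + 1) ≫ enD hA s = 0 :=
  matMap_comp_eq_zero _ _ (EN.matD_comp A s)

lemma enD_enE : enD hA 0 ≫ enE hA = 0 :=
  matMap_comp_eq_zero _ _ (EN.matE_comp A)

/-- Where some maximal minor does not vanish, the complex is exact. -/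
theorem en_exact_stalk (x : Proj PP) {T : Finset (Fin n)} (hT : T.card = m)
    (hxT : x ∈ Proj.basicOpen PP (EN.minor A T)) :
    (∀ s z, (QCohMod.stalk x).map (enD hA s) z = 0 → ∃ w, (QCohMod.stalk x).map (enD hA (s + 1)) w = z) ∧
      ∀ z, (QCohMod.stalk x).map (enE hA) z = 0 → ∃ w, (QCohMod.stalk x).map (enD hA 0) w = z := by
  have hne : EN.minor A T ≠ 0 := fun h => hxT (h ▸ zero_mem _)
  have hΔ : EN.minor A T ^ m ∈ PP (m * m) := by
    simpa using SetLike.pow_mem_graded m (stdGr_nat_iff.mp (minor_mem' hA T))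
  have hx' : x ∈ Proj.basicOpen PP (EN.minor A T ^ m) := fun h => hxT (x.isPrime.mem_of_pow_mem m h)
  exact ⟨fun s z => exact_stalk_of_annihilated _ _ x hΔ hx' (fun v hv => EN.exact_matD A hT s hv) z,
    fun z => exact_stalk_of_annihilated _ _ x hΔ hx' (fun v hv => EN.exact_matE A hT hne hv) z⟩

/-! ### The Fitting ideal of the cokernel -/

variable {u : MvPolynomial (Fin (r + 1)) k} (hu : u ∈ CohB1.polyGrading r k 1)
  (x : Proj (CohB1.polyGrading r k)) (hx : x ∈ Proj.basicOpen (CohB1.polyGrading r k) u)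

/-- The ideal of dehomogenised maximal minors. -/
def minorIdeal : Ideal ((Proj PP).presheaf.stalk x) :=
  Ideal.span (Set.range fun b : Fin (EN.rk m n 0) => sfrac hu x hx (matE_mem hA 0 b))

lemma sfrac_congr {δ : ℕ} {f g : S} (hf : f ∈ GS (δ : ℤ)) (hg : g ∈ GS (δ : ℤ)) (h : f = g) :
    sfrac hu x hx hf = sfrac hu x hx hg := by subst h; rfl

lemma sfrac_minor_eq_det {T : Finset (Fin n)} (hT : T.card = m) :
    ∃ b, sfrac hu x hx (matE_mem hA 0 b) =
      ((Matrix.of fun a c => sfrac hu x hx (hA a c)).submatrix id (T.orderEmbOfFin hT)).det := by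
  obtain ⟨b, hb⟩ := EN.exists_bas_zero (m := m) hT
  refine ⟨b, Eq.trans ?_ (det_sfrac hu x hx (A.submatrix id (T.orderEmbOfFin hT)) (fun i l => hA _ _)
    (det_mem fun i l => hA _ _)).symm⟩
  refine sfrac_congr hu x hx _ _ ?_
  rw [EN.matE_apply, hb, EN.minor, dif_pos hT]

/-- The zeroth Fitting ideal of the cokernel at a stalk is the ideal of maximal minors. -/
theorem fitt_stalk :
    Fitt.ideal ((Proj PP).presheaf.stalk x)
      ((cokernel (matMap (isHomMat_cdeg (c := 0) hA))).presheaf.stalk x) 0 = minorIdeal hA hu x hx := by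
  classical
  let Φ := matMap (isHomMat_cdeg (c := 0) hA)
  let π := RefHull.stalkMapₗ (cokernel.π Φ) x
  let g : Fin m → (frSheaf (r := r) (k := k) (cdeg m 0)).presheaf.stalk x :=
    fgen hu x hx (c := 0) fun _ => rfl
  let g' : Fin n → (frSheaf (r := r) (k := k) (cdeg n (0 + 1))).presheaf.stalk x :=
    fgen hu x hx (c := 0 + 1) fun _ => rfl
  let Ā : Matrix (Fin m) (Fin n) ((Proj PP).presheaf.stalk x) := Matrix.of fun a b => sfrac hu x hx (hA a b)
  have hmap : ∀ b, RefHull.stalkMapₗ Φ x (g' b) = ∑ a, Ā a b • g a := fun b =>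
    matMap_fgen hu x hx (δ := 1) rfl (fun _ => rfl) (fun _ => rfl) _ hA b
  have hsurj : Function.Surjective π := (QCohMod.epi_iff_stalk (cokernel.π Φ)).mp inferInstance x
  have hspan : Submodule.span ((Proj PP).presheaf.stalk x) (Set.range fun a => π (g a)) = ⊤ := by
    refine eq_top_iff.mpr fun z _ => ?_
    obtain ⟨w, rfl⟩ := hsurj z
    obtain ⟨c, rfl⟩ := exists_sum_fgen hu x hx (c := 0) (deg := cdeg m 0) (fun _ => rfl) w
    rw [map_sum]
    refine sum_mem fun a _ => ?_
    rw [map_smul]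
    exact Submodule.smul_mem _ _ (Submodule.subset_span ⟨a, rfl⟩)
  have hexact : ∀ w, π w = 0 → ∃ v, RefHull.stalkMapₗ Φ x v = w := fun w hw =>
    (ShortComplex.ab_exact_iff _).mp ((QCohMod.exact_iff_stalk _).mp (ShortComplex.exact_cokernel Φ) x) w hw
  have hπΦ : ∀ v, π (RefHull.stalkMapₗ Φ x v) = 0 := fun v => by
    refine (Misc6.ExtIdeal.sm_comp Φ (cokernel.π Φ) x v).symm.trans ?_
    show (QCohMod.stalk x).map (Φ ≫ cokernel.π Φ) v = 0
    rw [cokernel.condition, Functor.map_zero]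
    rfl
  have hrel : Misc3Fitt.rel (R := (Proj PP).presheaf.stalk x) (fun a => π (g a)) =
      Submodule.span _ (Set.range fun b a => Ā a b) := by
    refine le_antisymm (fun c hc => ?_) (Submodule.span_le.mpr ?_)
    · rw [Misc3Fitt.mem_rel] at hc
      obtain ⟨v, hv⟩ := hexact (∑ a, c a • g a) (by rw [map_sum]; simpa only [map_smul] using hc)
      obtain ⟨d, rfl⟩ := exists_sum_fgen hu x hx (c := 0 + 1) (deg := cdeg n (0 + 1)) (fun _ => rfl) v
      have h0 : ∑ a, (c a - ∑ b, d b * Ā a b) • g a = 0 := by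
        simp only [sub_smul, Finset.sum_sub_distrib, Finset.sum_smul, mul_smul]
        rw [Finset.sum_comm]
        simp only [← Finset.smul_sum, ← hmap, ← map_smul, ← map_sum]
        rw [sub_eq_zero]
        exact hv.symm
      have h1 : c = ∑ b, d b • fun a => Ā a b := funext fun a => by
        have := congrFun (fgen_indep hu x hx (c := 0) (deg := cdeg m 0) (fun _ => rfl) h0) a
        rw [Pi.zero_apply, sub_eq_zero] at this
        simpa using this
      rw [h1]
      exact sum_mem fun b _ => Submodule.smul_mem _ _ (Submodule.subset_span ⟨b, rfl⟩)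
    · rintro _ ⟨b, rfl⟩
      rw [SetLike.mem_coe, Misc3Fitt.mem_rel]
      rw [← hπΦ (g' b), hmap, map_sum]
      simp only [map_smul]
  rw [Misc3Fitt.ideal_eq_fitt _ hspan, Misc3Fitt.fitt, hrel, Nat.sub_zero, Misc3Fitt.minors_span_eq]
  refine le_antisymm (Ideal.span_le.mpr ?_) (Ideal.span_le.mpr ?_)
  · rintro _ ⟨z, e, hz, rfl⟩
    choose β hβ using hz
    obtain rfl : z = fun i a => Ā a (β i) := funext fun i => (hβ i).symm
    rw [← Misc3Fitt.minor_transpose]
    show (Ā.submatrix e β).det ∈ minorIdeal hA hu x hx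
    by_cases he : Function.Injective e
    swap
    · obtain ⟨i, l, hil, hne⟩ := Function.not_injective_iff.1 he
      rw [Matrix.det_zero_of_row_eq hne (funext fun b => by simp [hil])]
      exact zero_mem _
    by_cases hinj : Function.Injective β
    swap
    · obtain ⟨i, l, hil, hne⟩ := Function.not_injective_iff.1 hinj
      rw [Matrix.det_zero_of_column_eq hne fun b => by simp [hil]]
      exact zero_mem _
    have hT : (Finset.univ.image β).card = m := by
      rw [Finset.card_image_of_injective _ hinj]; simp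
    have hσ : ∀ i, ∃ l, (Finset.univ.image β).orderEmbOfFin hT l = β i := fun i => by
      have : β i ∈ Set.range ((Finset.univ.image β).orderEmbOfFin hT) := by
        rw [Finset.range_orderEmbOfFin]; simp
      exact this
    choose σ hσ using hσ
    let σ' : Equiv.Perm (Fin m) := Equiv.ofBijective σ (Finite.injective_iff_bijective.mp fun i l h =>
      hinj (by rw [← hσ i, ← hσ l, h]))
    let e' : Equiv.Perm (Fin m) := Equiv.ofBijective e (Finite.injective_iff_bijective.mp he)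
    obtain ⟨b, hb⟩ := sfrac_minor_eq_det hA hu x hx hT
    have key : Ā.submatrix e β =
        ((Ā.submatrix id ((Finset.univ.image β).orderEmbOfFin hT)).submatrix e' id).submatrix id σ' := by
      ext i l
      simp [σ', e', hσ]
    rw [key, Matrix.det_permute', Matrix.det_permute, ← hb]
    exact Ideal.mul_mem_left _ _ (Ideal.mul_mem_left _ _ (Ideal.subset_span ⟨b, rfl⟩))
  · rintro _ ⟨b, rfl⟩
    have hT : (EN.bas m n 0 b).1.1.card = m := by simpa using (EN.mem_BS.mp (EN.bas m n 0 b).2).1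
    obtain ⟨b', hb'⟩ := sfrac_minor_eq_det hA hu x hx hT
    have hbb : sfrac hu x hx (matE_mem hA 0 b) = ((Matrix.of fun a c => sfrac hu x hx (hA a c)).submatrix id
        ((EN.bas m n 0 b).1.1.orderEmbOfFin hT)).det := by
      refine Eq.trans ?_ (det_sfrac hu x hx (A.submatrix id _) (fun i l => hA _ _) (det_mem fun i l => hA _ _)).symm
      refine sfrac_congr hu x hx _ _ ?_
      rw [EN.matE_apply, EN.minor, dif_pos hT]
    refine Ideal.subset_span ⟨fun i a => Ā a ((EN.bas m n 0 b).1.1.orderEmbOfFin hT i), id,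
      fun i => ⟨_, rfl⟩, ?_⟩
    show sfrac hu x hx (matE_mem hA 0 b) = _
    rw [hbb, ← Misc3Fitt.minor_transpose]
    rfl

/-- `O(0)` as a sum with one term is the structure sheaf. -/
def oneIso : frSheaf (r := r) (k := k) (cdeg 1 0) ≅ Coh.structureModule (Proj (CohB1.polyGrading r k)) :=
  ({ hom := Sigma.desc fun b : Fin 1 => eqToHom (congrArg (fun b => Twist.twist PP (-cdeg 1 0 b))
      (Subsingleton.elim b 0))
     inv := Sigma.ι (fun b : Fin 1 => Twist.twist PP (-cdeg 1 0 b)) 0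
     hom_inv_id := Sigma.hom_ext _ _ fun b => by
      obtain rfl : b = 0 := Subsingleton.elim b 0
      rw [Sigma.ι_desc_assoc, eqToHom_refl]
      exact (Category.id_comp _).trans (Category.comp_id _).symm
     inv_hom_id := Sigma.ι_desc _ _ } : frSheaf (cdeg 1 0) ≅ Twist.twist PP (-cdeg 1 0 0)) ≪≫
    eqToIso (congrArg (Twist.twist PP) (show -cdeg 1 0 (0 : Fin 1) = (0 : ℤ) by simp)) ≪≫ (PnCoh.nonempty_twist_zero_iso PP).some

/-- The augmentation to the structure sheaf. -/
def enPsi : enX (r := r) (k := k) m n 0 ⟶ Coh.structureModule (Proj (CohB1.polyGrading r k)) :=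
  enE hA ≫ oneIso.hom

/-- The germ ideal of the image of the minors. -/
theorem map_germ_range_enPsi {U : (Proj PP).affineOpens} (hU : U.1 = Proj.basicOpen PP u) (hxU : x ∈ U.1) :
    Ideal.map ((Proj PP).presheaf.germ U.1 x hxU).hom (LinearMap.range (Misc6.ExtIdeal.funApp (enPsi hA) U.1)) =
      minorIdeal hA hu x hx := by
  classical
  obtain ⟨U, hUaff⟩ := U
  subst hU
  let g₀ := fgen hu x hx (c := 0) (deg := cdeg 1 0) (fun _ => rfl) 0
  let G := fgen hu x hx (c := m + 0) (deg := cdeg (EN.rk m n 0) (m + 0)) fun _ => rfl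
  let J := psiStalk (oneIso (r := r) (k := k)).hom x
  have hunit : IsUnit (J g₀) := by
    obtain ⟨z, hz⟩ := (QCohMod.epi_iff_stalk (oneIso (r := r) (k := k)).hom).mp inferInstance x
      (RefRank.oneEquiv x (1 : (Proj PP).presheaf.stalk x))
    obtain ⟨c, rfl⟩ := exists_sum_fgen hu x hx (c := 0) (deg := cdeg 1 0) (fun _ => rfl) z
    have h1 : c 0 * J g₀ = 1 := by
      refine Eq.trans ?_ ((RefRank.oneEquiv x).symm_apply_eq.mpr hz)
      show c 0 • J g₀ = J _
      rw [Fin.sum_univ_one, map_smul]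
    exact IsUnit.of_mul_eq_one_right _ h1
  have hψG : ∀ b, psiStalk (enPsi hA) x (G b) = sfrac hu x hx (matE_mem hA 0 b) * J g₀ := fun b => by
    have h1 : psiStalk (enPsi hA) x (G b) = J ((QCohMod.stalk x).map (enE hA) (G b)) :=
      congrArg (RefRank.oneEquiv x).symm (Misc6.ExtIdeal.sm_comp (enE hA) oneIso.hom x (G b))
    rw [h1, enE, matMap_fgen hu x hx (δ := m) (by simp) (fun _ => rfl) (fun _ => rfl) _ (matE_mem hA) b,
      Fin.sum_univ_one, map_smul]
    rfl
  refine le_antisymm (Ideal.map_le_iff_le_comap.mpr ?_) (Ideal.span_le.mpr ?_)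
  · rintro _ ⟨s, rfl⟩
    rw [Ideal.mem_comap]
    erw [← psiStalk_germ]
    obtain ⟨c, hc⟩ := exists_sum_fgen hu x hx (c := m + 0) (deg := cdeg (EN.rk m n 0) (m + 0))
      (fun _ => rfl) (QCohMod.germ (enX m n 0) x hx s)
    rw [← hc, map_sum]
    refine sum_mem fun b _ => ?_
    rw [map_smul, hψG]
    exact Ideal.mul_mem_left _ (c b) (Ideal.mul_mem_right _ _ (Ideal.subset_span ⟨b, rfl⟩))
  · rintro _ ⟨b, rfl⟩
    rw [SetLike.mem_coe]
    refine (Ideal.mul_unit_mem_iff_mem _ hunit).mp ?_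
    rw [← hψG]
    have : G b = QCohMod.germ (enX m n 0) x hx
        ((Sigma.ι (fun b : Fin (EN.rk m n 0) => Twist.twist PP (-cdeg (EN.rk m n 0) (m + 0) b)) b).app _
          (fracGen (e := 0) (SetLike.GradedOne.one_mem : (1 : S) ∈ PP 0) (upow_mem hu (m + 0)) (by simp) _
            fun y hy => upow_notMem (m + 0) y hy)) := QCohMod.stalk_map_germ _ x hx _
    rw [this, psiStalk_germ]
    exact Ideal.mem_map_of_mem _ (LinearMap.mem_range_self _ _)

include hu hx in
/-- Outside the vanishing locus of the minors, some minor is invertible. -/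
theorem exists_minor_of_eq_top (h : minorIdeal hA hu x hx = ⊤) :
    ∃ T : Finset (Fin n), T.card = m ∧ x ∈ Proj.basicOpen PP (EN.minor A T) := by
  by_contra hc
  push Not at hc
  refine (IsLocalRing.maximalIdeal.isMaximal ((Proj PP).presheaf.stalk x)).ne_top (top_le_iff.mp ?_)
  rw [← h, minorIdeal, Ideal.span_le]
  rintro _ ⟨b, rfl⟩
  have hT : (EN.bas m n 0 b).1.1.card = m := by simpa using (EN.mem_BS.mp (EN.bas m n 0 b).2).1
  rw [SetLike.mem_coe, IsLocalRing.mem_maximalIdeal, mem_nonunits_iff]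
  show ¬ IsUnit ((Proj PP).presheaf.germ _ x hx (fracFun hu (matE_mem hA 0 b)))
  rw [← Scheme.mem_basicOpen]
  intro hmem
  refine hc _ hT ?_
  have h' := (mem_basicOpen_iff_of_frac (𝒜 := PP) _ hx (val_fracFun hu (matE_mem hA 0 b) x hx)).mp hmem
  rw [EN.matE_apply] at h'
  exact h'

end Data

end Groth.Variety2.Reg
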