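import Mathlib

/-!
# Interpolation at finitely many fattened rational points

Let `V ∋ 1` be a subspace generating the `k`-algebra `R`, and `M x` finitely many distinct rational
maximal ideals. Then `R = V ^ j + ⋂ x, M x ^ (μ x + 1)` for `j ≥ Σ (μ x + 1) - 1`.
-/

open Submodule

namespace Groth.Variety2.Reg.PointsAlg

variable {k R : Type*} [Field k] [CommRing R] [Algebra k R] (V : Submodule k R) (h1 : (1 : R) ∈ V)
  (hgen : Algebra.adjoin k (V : Set R) = ⊤)

include h1 in
lemma pow_mono {a b : ℕ} (h : a ≤ b) : V ^ a ≤ V ^ b := by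
  obtain ⟨c, rfl⟩ := Nat.exists_eq_add_of_le h
  intro v hv
  rw [pow_add, ← mul_one v]
  refine Submodule.mul_mem_mul hv ?_
  have := Submodule.pow_mem_pow V h1 c
  rwa [one_pow] at this

variable {M : Ideal R} (hM : ∀ r : R, ∃ c : k, r - algebraMap k R c ∈ M)

include h1 hgen hM in
lemma span_inter_eq : Ideal.span ((V : Set R) ∩ M) = M := by
  refine le_antisymm (Ideal.span_le.2 Set.inter_subset_right) fun r hr => ?_
  by_cases hM1 : (1 : R) ∈ M
  · rw [(Ideal.eq_top_iff_one _).2 (Ideal.subset_span ⟨h1, hM1⟩ :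
      (1 : R) ∈ Ideal.span ((V : Set R) ∩ M))]
    trivial
  have key : ∀ r : R, ∃ c : k, r - algebraMap k R c ∈ Ideal.span ((V : Set R) ∩ M) := fun r => by
    have hr : r ∈ Algebra.adjoin k (V : Set R) := by rw [hgen]; trivial
    induction hr using Algebra.adjoin_induction with
    | mem v hv =>
      obtain ⟨c, hc⟩ := hM v
      refine ⟨c, Ideal.subset_span ⟨?_, hc⟩⟩
      rw [Algebra.algebraMap_eq_smul_one]
      exact sub_mem hv (V.smul_mem c h1)
    | algebraMap c => exact ⟨c, by simp⟩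
    | add a b _ _ ha hb =>
      obtain ⟨c, hc⟩ := ha
      obtain ⟨d, hd⟩ := hb
      exact ⟨c + d, by simpa [map_add, add_sub_add_comm] using add_mem hc hd⟩
    | mul a b _ _ ha hb =>
      obtain ⟨c, hc⟩ := ha
      obtain ⟨d, hd⟩ := hb
      refine ⟨c * d, ?_⟩
      rw [map_mul, show a * b - algebraMap k R c * algebraMap k R d =
        (a - algebraMap k R c) * b + algebraMap k R c * (b - algebraMap k R d) by ring]
      exact add_mem (Ideal.mul_mem_right _ _ hc) (Ideal.mul_mem_left _ _ hd)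
  obtain ⟨c, hc⟩ := key r
  rcases eq_or_ne c 0 with rfl | hc0
  · simpa using hc
  · refine absurd ?_ hM1
    have : algebraMap k R c ∈ M := by
      simpa using sub_mem hr (Ideal.span_le.2 Set.inter_subset_right hc : r - algebraMap k R c ∈ M)
    have := M.mul_mem_left (algebraMap k R c⁻¹) this
    rwa [← map_mul, inv_mul_cancel₀ hc0, map_one] at this

include h1 hgen hM in
lemma pow_le_sup (e : ℕ) :
    (M ^ e).restrictScalars k ≤ V ^ e ⊔ (M ^ (e + 1)).restrictScalars k := by
  induction e with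
  | zero =>
    intro r _
    obtain ⟨c, hc⟩ := hM r
    rw [← sub_add_cancel r (algebraMap k R c), sup_comm, pow_zero]
    refine Submodule.add_mem_sup (by simpa using hc) ?_
    exact Submodule.mem_one.2 ⟨c, rfl⟩
  | succ e ih =>
    intro r hr
    rw [restrictScalars_mem, pow_succ] at hr
    refine Submodule.mul_induction_on hr (fun a ha m hm => ?_) fun _ _ => add_mem
    obtain ⟨v, hv, w, hw, rfl⟩ := Submodule.mem_sup.1 (ih ha)
    rw [restrictScalars_mem] at hw
    rw [add_mul]
    refine add_mem ?_ (Submodule.mem_sup_right ?_)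
    · have hvM : v ∈ M ^ e := by simpa using sub_mem ha (Ideal.pow_le_pow_right e.le_succ hw)
      clear ha
      rw [← span_inter_eq V h1 hgen hM] at hm
      induction hm using Submodule.span_induction with
      | mem m hm =>
        exact Submodule.mem_sup_left (by rw [pow_succ]; exact Submodule.mul_mem_mul hv hm.1)
      | zero => rw [mul_zero]; exact zero_mem _
      | add a b _ _ iha ihb => rw [mul_add]; exact add_mem iha ihb
      | smul s m hm' ihm =>
        obtain ⟨c, hc⟩ := hM s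
        have e' : v * (s • m) = c • (v * m) + v * ((s - algebraMap k R c) * m) := by
          rw [smul_eq_mul, Algebra.smul_def]; ring
        rw [e']
        refine add_mem (Submodule.smul_mem _ _ ihm) (Submodule.mem_sup_right ?_)
        rw [restrictScalars_mem]
        have hmM : m ∈ M := by rw [← span_inter_eq V h1 hgen hM]; exact hm'
        rw [pow_succ, pow_succ, mul_assoc]
        exact Ideal.mul_mem_mul hvM (Ideal.mul_mem_mul hc hmM)
    · rw [restrictScalars_mem, pow_succ]
      exact Ideal.mul_mem_mul hw hm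

include h1 hgen hM in
lemma exists_mem_pow_sub_mem (μ : ℕ) (r : R) : ∃ v ∈ V ^ μ, r - v ∈ M ^ (μ + 1) := by
  induction μ with
  | zero =>
    obtain ⟨c, hc⟩ := hM r
    exact ⟨algebraMap k R c, by rw [pow_zero]; exact Submodule.mem_one.2 ⟨c, rfl⟩, by simpa using hc⟩
  | succ μ ih =>
    obtain ⟨v, hv, hv'⟩ := ih
    obtain ⟨v', hv'', w, hw, e⟩ := Submodule.mem_sup.1 (pow_le_sup V h1 hgen hM (μ + 1) hv')
    refine ⟨v + v', add_mem (pow_mono V h1 μ.le_succ hv) hv'', ?_⟩
    rw [show r - (v + v') = w by linear_combination -e]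
    exact hw

include h1 hgen in
theorem exists_interpolation {ι : Type*} [Fintype ι] [DecidableEq ι] (M : ι → Ideal R)
    (hMmax : ∀ x, (M x).IsMaximal) (hM : ∀ x (r : R), ∃ c : k, r - algebraMap k R c ∈ M x)
    (hinj : Function.Injective M) (μ : ι → ℕ) (j : ℕ) (hj : ∑ x, (μ x + 1) ≤ j + 1) (g : R) :
    ∃ v ∈ V ^ j, ∀ x, g - v ∈ M x ^ (μ x + 1) := by
  have hsep : ∀ x y : ι, ∃ l ∈ V, l ∈ M y ∧ (x ≠ y → l ∉ M x) := fun x y => by
    by_cases hxy : x = y
    · exact ⟨0, zero_mem _, zero_mem _, fun h => absurd hxy h⟩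
    by_contra hne
    push Not at hne
    have hle : M y ≤ M x := by
      rw [← span_inter_eq V h1 hgen (hM y), Ideal.span_le]
      exact fun v hv => (hne v hv.1 hv.2).2
    exact hxy (hinj ((hMmax y).eq_of_le (hMmax x).ne_top hle)).symm
  choose l hlV hly hlx using hsep
  let w : ι → R := fun x => ∏ y ∈ Finset.univ.erase x, l x y ^ (μ y + 1)
  have hwV : ∀ x, w x ∈ V ^ (∑ y ∈ Finset.univ.erase x, (μ y + 1)) := fun x => by
    suffices ∀ s : Finset ι, ∏ y ∈ s, l x y ^ (μ y + 1) ∈ V ^ (∑ y ∈ s, (μ y + 1)) from this _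
    intro s
    induction s using Finset.induction_on with
    | empty => rw [Finset.prod_empty, Finset.sum_empty, pow_zero]; exact Submodule.mem_one.2 ⟨1, map_one _⟩
    | insert a s ha ih =>
      rw [Finset.prod_insert ha, Finset.sum_insert ha, pow_add]
      exact Submodule.mul_mem_mul (Submodule.pow_mem_pow V (hlV x a) _) ih
  have hwx : ∀ x, w x ∉ M x := fun x hx => by
    obtain ⟨y, hy, hy'⟩ := ((hMmax x).isPrime.prod_mem_iff).1 hx
    exact hlx x y (Finset.ne_of_mem_erase hy).symm ((hMmax x).isPrime.mem_of_pow_mem _ hy')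
  have hwy : ∀ x y, x ≠ y → w x ∈ M y ^ (μ y + 1) := fun x y hxy => by
    refine Ideal.mem_of_dvd _ (Finset.dvd_prod_of_mem _ (Finset.mem_erase.2 ⟨Ne.symm hxy, Finset.mem_univ y⟩)) ?_
    exact Ideal.pow_mem_pow (hly x y) _
  have hsolve : ∀ x, ∃ v ∈ V ^ μ x, g - w x * v ∈ M x ^ (μ x + 1) := fun x => by
    obtain ⟨a, b, hb, hab⟩ : ∃ a, ∃ b ∈ M x ^ (μ x + 1), a * w x + b = 1 := by
      have htop : Ideal.span {w x} ⊔ M x ^ (μ x + 1) = ⊤ := by
        by_contra hne
        obtain ⟨N, hN, hle⟩ := Ideal.exists_le_maximal _ hne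
        have hMN : M x ≤ N := fun m hm =>
          hN.isPrime.mem_of_pow_mem _ (hle (Ideal.mem_sup_right (Ideal.pow_mem_pow hm (μ x + 1))))
        have := (hMmax x).eq_of_le hN.ne_top hMN
        exact hwx x (this ▸ hle (Ideal.mem_sup_left (Ideal.mem_span_singleton_self _)))
      obtain ⟨p, hp, b, hb, hpb⟩ := Submodule.mem_sup.1 ((Ideal.eq_top_iff_one _).1 htop)
      obtain ⟨a, rfl⟩ := Ideal.mem_span_singleton'.1 hp
      exact ⟨a, b, hb, hpb⟩
    obtain ⟨v, hv, hv'⟩ := exists_mem_pow_sub_mem V h1 hgen (hM x) (μ x) (g * a)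
    refine ⟨v, hv, ?_⟩
    rw [show g - w x * v = g * b + w x * (g * a - v) by linear_combination -g * hab]
    exact add_mem (Ideal.mul_mem_left _ _ hb) (Ideal.mul_mem_left _ _ hv')
  choose v hv hv' using hsolve
  refine ⟨∑ x, w x * v x, Submodule.sum_mem _ fun x _ => ?_, fun x => ?_⟩
  · refine pow_mono V h1 ?_ (pow_add V _ _ ▸ Submodule.mul_mem_mul (hwV x) (hv x))
    have := Finset.add_sum_erase _ (fun y => μ y + 1) (Finset.mem_univ x)
    omega
  · rw [← Finset.add_sum_erase _ _ (Finset.mem_univ x), ← sub_sub]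
    refine sub_mem (hv' x) (Submodule.sum_mem _ fun y hy => ?_)
    exact Ideal.mul_mem_right _ _ (hwy y x (Finset.ne_of_mem_erase hy))

end Groth.Variety2.Reg.PointsAlg
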